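import Mathlib
import Cfsg.Agent.Forms.SymplecticBasis

/-!
A space of alternating forms all whose non-zero members are non-degenerate has at most half the dimension
of the underlying space: a linear form in more than half that many variables would have a determinant,
the square of a form of low degree, without non-trivial zeros, against the theorem of Chevalley and Warning.
-/

set_option autoImplicit false

namespace CfsgLib.NoDivDegrees

open Matrix Module

/-- The determinant of a non-degenerate alternating matrix is a square. -/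
theorem isSquare_det_of_alt {F : Type*} [Field F] {ι : Type*} [Fintype ι] [DecidableEq ι]
    (A : Matrix ι ι F) (halt : ∀ x, Matrix.toBilin' A x x = 0) (hd : A.det ≠ 0) : IsSquare A.det := by
  obtain ⟨m, b, h1, h2, h3⟩ := CfsgLib.Forms.exists_symplectic_basis_nondeg (Matrix.toBilin' A) halt
    (Matrix.Nondegenerate.toBilin' (Matrix.nondegenerate_of_det_ne_zero hd))
  set e := (Pi.basisFun F ι).indexEquiv b
  have hA : LinearMap.BilinForm.toMatrix (Pi.basisFun F ι) (Matrix.toBilin' A) = A := by
    rw [LinearMap.BilinForm.toMatrix_basisFun, LinearMap.BilinForm.toMatrix'_toBilin']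
  have hJ : LinearMap.BilinForm.toMatrix b (Matrix.toBilin' A) = fromBlocks 0 1 (-1) 0 := by
    ext i j
    rw [LinearMap.BilinForm.toMatrix_apply]
    have hskew : ∀ x y, Matrix.toBilin' A x y = -Matrix.toBilin' A y x := fun x y =>
      (LinearMap.IsAlt.neg halt y x).symm
    rcases i with i | i <;> rcases j with j | j
    · simp [h2 i j]
    · simp [h1 i j, Matrix.one_apply]
    · rw [hskew, h1 j i]; simp [Matrix.one_apply, eq_comm, apply_ite]
    · simp [h3 i j]
  have hdetJ : (fromBlocks 0 1 (-1) 0 : Matrix (Fin m ⊕ Fin m) (Fin m ⊕ Fin m) F).det = 1 := by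
    rw [show (fromBlocks 0 1 (-1) 0 : Matrix (Fin m ⊕ Fin m) (Fin m ⊕ Fin m) F) =
      fromBlocks 1 1 0 1 * fromBlocks 1 0 (-1) 1 * fromBlocks 1 1 0 1 by simp [fromBlocks_multiply],
      det_mul, det_mul, det_fromBlocks_zero₂₁, det_fromBlocks_zero₁₂]
    simp
  have h := LinearMap.BilinForm.toMatrix_mul_basis_toMatrix (b := Pi.basisFun F ι) (b.reindex e.symm)
    (Matrix.toBilin' A)
  rw [hA] at h
  have hdet := congrArg Matrix.det h
  rw [det_mul, det_mul, det_transpose,
    show LinearMap.BilinForm.toMatrix (b.reindex e.symm) (Matrix.toBilin' A) =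
      (LinearMap.BilinForm.toMatrix b (Matrix.toBilin' A)).submatrix e e by
        ext i j; simp [LinearMap.BilinForm.toMatrix_apply],
    det_submatrix_equiv_self, hJ, hdetJ] at hdet
  set d := ((Pi.basisFun F ι).toMatrix (b.reindex e.symm)).det
  have hd0 : d ≠ 0 := by
    intro h0
    rw [h0] at hdet
    simp at hdet
  exact ⟨d⁻¹, by field_simp; linear_combination hdet⟩

section CharTwo

variable {R : Type*} [CommRing R] [CharP R 2] {n : ℕ}

/-- Half of the factors of the Pfaffian term of a permutation. -/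
private def halfProd (M : Matrix (Fin n) (Fin n) R) (σ : Equiv.Perm (Fin n)) : R :=
  ∏ i ∈ Finset.univ.filter (fun i => i < σ i), M (σ i) i

/-- In characteristic two the determinant of an alternating matrix is the square of the sum over
perfect matchings. -/
theorem det_eq_sq_of_char_two (M : Matrix (Fin n) (Fin n) R) (h0 : ∀ i, M i i = 0)
    (hs : ∀ i j, M i j = M j i) :
    M.det = (∑ σ ∈ Finset.univ.filter (fun σ : Equiv.Perm (Fin n) => σ⁻¹ = σ ∧ ∀ i, σ i ≠ i),
      ∏ i ∈ Finset.univ.filter (fun i => i < σ i), M (σ i) i) ^ 2 := by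
  classical
  have hdet : M.det = ∑ σ : Equiv.Perm (Fin n), ∏ i, M (σ i) i := by
    rw [det_apply']
    refine Finset.sum_congr rfl fun σ _ => ?_
    rcases Int.units_eq_one_or (Equiv.Perm.sign σ) with h | h <;> simp [h, CharTwo.neg_eq]
  rw [hdet, sum_pow_char (R := R) 2, Finset.sum_filter]
  rw [← Finset.sum_filter_add_sum_filter_not Finset.univ (fun σ : Equiv.Perm (Fin n) => σ⁻¹ = σ)]
  have hz : ∑ σ ∈ Finset.univ.filter (fun σ : Equiv.Perm (Fin n) => ¬ σ⁻¹ = σ), ∏ i, M (σ i) i = 0 := by
    refine Finset.sum_involution (fun σ _ => σ⁻¹) (fun σ _ => ?_) (fun σ hσ _ => ?_) (fun σ hσ => ?_)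
      (fun σ _ => inv_inv σ)
    · have : ∏ i, M (σ⁻¹ i) i = ∏ i, M (σ i) i := by
        rw [← Equiv.prod_comp σ (fun i => M (σ⁻¹ i) i)]
        exact Finset.prod_congr rfl fun i _ => by simp [hs (σ i) i]
      rw [this, CharTwo.add_self_eq_zero]
    · simpa using hσ
    · simp only [Finset.mem_filter, Finset.mem_univ, true_and, inv_inv] at hσ ⊢
      exact fun h => hσ h.symm
  rw [hz, add_zero, Finset.sum_filter]
  refine Finset.sum_congr rfl fun σ _ => ?_
  by_cases hσ : σ⁻¹ = σ
  · by_cases hf : ∀ i, σ i ≠ i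
    · rw [if_pos hσ, if_pos ⟨hσ, hf⟩, pow_two,
        ← Finset.prod_filter_mul_prod_filter_not Finset.univ (fun i => i < σ i)]
      congr 1
      have hσ' : ∀ i, σ (σ i) = i := fun i => by
        conv_lhs => arg 1; rw [← hσ]
        simp
      refine Finset.prod_bij' (fun i _ => σ i) (fun i _ => σ i) (fun i hi => ?_) (fun i hi => ?_)
        (fun i _ => hσ' i) (fun i _ => hσ' i) (fun i _ => by rw [hσ' i, hs])
      · simp only [Finset.mem_filter, Finset.mem_univ, true_and, hσ' i] at hi ⊢
        exact lt_of_le_of_ne (not_lt.1 hi) (hf i)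
      · simp only [Finset.mem_filter, Finset.mem_univ, true_and, hσ' i] at hi ⊢
        exact hi.le.not_gt
    · rw [if_pos hσ, if_neg (fun h => hf h.2)]
      push Not at hf
      obtain ⟨i, hi⟩ := hf
      exact Finset.prod_eq_zero (Finset.mem_univ i) (by rw [hi, h0])
  · rw [if_neg hσ, if_neg (fun h => hσ h.1)]

/-- A perfect matching has half as many pairs as points. -/
theorem two_mul_card_lt {σ : Equiv.Perm (Fin n)} (hσ : σ⁻¹ = σ) (hf : ∀ i, σ i ≠ i) :
    2 * (Finset.univ.filter (fun i => i < σ i)).card = n := by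
  classical
  have hσ' : ∀ i, σ (σ i) = i := fun i => by
    conv_lhs => arg 1; rw [← hσ]
    simp
  have h : (Finset.univ.filter (fun i => i < σ i)).card = (Finset.univ.filter (fun i => ¬ i < σ i)).card := by
    refine Finset.card_bij' (fun i _ => σ i) (fun i _ => σ i) (fun i hi => ?_) (fun i hi => ?_)
      (fun i _ => hσ' i) (fun i _ => hσ' i)
    · simp only [Finset.mem_filter, Finset.mem_univ, true_and, hσ' i] at hi ⊢
      exact hi.le.not_gt
    · simp only [Finset.mem_filter, Finset.mem_univ, true_and, hσ' i] at hi ⊢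
      exact lt_of_le_of_ne (not_lt.1 hi) (hf i)
  have := Finset.card_filter_add_card_filter_not (s := Finset.univ) (fun i => i < σ i)
  simp only [Finset.card_univ, Fintype.card_fin] at this
  omega

end CharTwo

/-- The determinant of a matrix of linear forms has degree at most its size. -/
theorem totalDegree_det_le {F : Type*} [CommRing F] {σ ι : Type*} [Fintype ι] [DecidableEq ι]
    (M : Matrix ι ι (MvPolynomial σ F)) (hM : ∀ i j, (M i j).totalDegree ≤ 1) :
    M.det.totalDegree ≤ Fintype.card ι := by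
  rw [Matrix.det_apply]
  refine MvPolynomial.totalDegree_finsetSum_le fun τ _ => ?_
  rw [Units.smul_def, zsmul_eq_mul]
  refine (MvPolynomial.totalDegree_mul _ _).trans ?_
  rw [← map_intCast (MvPolynomial.C (σ := σ) (R := F)), MvPolynomial.totalDegree_C, zero_add]
  exact (MvPolynomial.totalDegree_finsetProd _ _).trans ((Finset.sum_le_sum fun i _ => hM _ i).trans (by simp))

/-- A polynomial vanishing away from zero and equal to one at zero has large degree. -/
theorem le_totalDegree_of_delta {p : ℕ} [Fact p.Prime] {b : ℕ} (f : MvPolynomial (Fin b) (ZMod p))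
    (h0 : MvPolynomial.eval 0 f = 1) (h : ∀ x, x ≠ 0 → MvPolynomial.eval x f = 0) :
    (p - 1) * b ≤ f.totalDegree := by
  by_contra hlt
  have hs := MvPolynomial.sum_eval_eq_zero f (by simpa [ZMod.card] using not_le.1 hlt)
  rw [Finset.sum_eq_single 0 (fun x _ hx => h x hx) (fun hx => absurd (Finset.mem_univ _) hx), h0] at hs
  exact one_ne_zero hs

theorem sq_zmod_two : ∀ y : ZMod 2, y = y ^ 2 := by decide

theorem one_sub_zmod_two : ∀ y : ZMod 2, y ≠ 0 → 1 - y = 0 := by decide

set_option maxHeartbeats 1000000 in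
theorem card_sq_le_aux {p : ℕ} [Fact p.Prime] {V W : Type*} [AddCommGroup V]
    [AddCommGroup W] [Finite V] [Finite W] [Nontrivial V] [Module (ZMod p) V] [Module (ZMod p) W] (hW : ∀ w : W, p • w = 0)
    (c : V →+ V →+ W) (halt : ∀ v, c v v = 0)
    (hnd : ∀ φ : W →+ ZMod p, φ ≠ 0 → ∀ v, (∀ w, φ (c v w) = 0) → v = 0) :
    Nat.card W ^ 2 ≤ Nat.card V := by
  classical
  set a := Module.finrank (ZMod p) V
  set b := Module.finrank (ZMod p) W
  have ha : Nat.card V = p ^ a := by rw [Module.natCard_eq_pow_finrank (K := ZMod p) (V := V), Nat.card_zmod]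
  have hb : Nat.card W = p ^ b := by rw [Module.natCard_eq_pow_finrank (K := ZMod p) (V := W), Nat.card_zmod]
  rw [ha, hb, ← pow_mul]
  refine Nat.pow_le_pow_right (Fact.out (p := p.Prime)).pos ?_
  let eV := Module.finBasis (ZMod p) V
  let eW := Module.finBasis (ZMod p) W
  let A : Fin b → Matrix (Fin a) (Fin a) (ZMod p) := fun k i j => eW.repr (c (eV i) (eV j)) k
  let P : Matrix (Fin a) (Fin a) (MvPolynomial (Fin b) (ZMod p)) := fun i j =>
    ∑ k, MvPolynomial.C (A k i j) * MvPolynomial.X k
  have hP1 : ∀ i j, (P i j).totalDegree ≤ 1 := fun i j => MvPolynomial.totalDegree_finsetSum_le fun k _ =>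
    (MvPolynomial.totalDegree_mul _ _).trans (by rw [MvPolynomial.totalDegree_C, MvPolynomial.totalDegree_X])
  -- the functional of a point
  let φ : (Fin b → ZMod p) → W →+ ZMod p := fun x =>
    (∑ k, x k • eW.coord k : W →ₗ[ZMod p] ZMod p).toAddMonoidHom
  have hφ : ∀ x w, φ x w = ∑ k, x k * eW.repr w k := fun x w => by
    simp [φ, LinearMap.sum_apply]
  let Mx : (Fin b → ZMod p) → Matrix (Fin a) (Fin a) (ZMod p) := fun x i j => φ x (c (eV i) (eV j))
  have heval : ∀ x, MvPolynomial.eval x P.det = (Mx x).det := by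
    intro x
    rw [RingHom.map_det]
    congr 1
    ext i j
    show MvPolynomial.eval x (P i j) = _
    simp [P, Mx, A, hφ, mul_comm]
  have hv : ∀ v : Fin a → ZMod p, ∃ v' : V, ∀ i, eV.repr v' i = v i := fun v => ⟨eV.equivFun.symm v, fun i =>
    congrFun (eV.equivFun.apply_symm_apply v) i⟩
  have hcx : ∀ x v' w', φ x (c v' w') = (fun i => eV.repr v' i) ⬝ᵥ (Mx x *ᵥ fun j => eV.repr w' j) := by
    intro x v' w'
    let B : V →ₗ[ZMod p] V →ₗ[ZMod p] ZMod p :=
      (AddMonoidHom.toZModLinearMap p
        (AddMonoidHom.mk' (fun v => AddMonoidHom.toZModLinearMap p ((φ x).comp (c v)))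
          (fun u v => by ext w; simp)))
    have hB : ∀ i j, B (eV i) (eV j) = Mx x i j := fun i j => rfl
    calc φ x (c v' w') = B (∑ i, eV.repr v' i • eV i) (∑ j, eV.repr w' j • eV j) := by
          rw [eV.sum_repr, eV.sum_repr]; rfl
      _ = ∑ i, ∑ j, eV.repr w' j * (eV.repr v' i * B (eV i) (eV j)) := by
          simp only [map_sum, map_smul, LinearMap.sum_apply, LinearMap.smul_apply, smul_eq_mul, Finset.mul_sum]
          exact Finset.sum_comm
      _ = _ := by
          simp only [dotProduct, Matrix.mulVec, Finset.mul_sum, hB]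
          exact Finset.sum_congr rfl fun i _ => Finset.sum_congr rfl fun j _ => by ring
  have hdet : ∀ x, x ≠ 0 → (Mx x).det ≠ 0 := by
    intro x hx hd
    obtain ⟨v, hv0, hvM⟩ := Matrix.exists_vecMul_eq_zero_iff.2 hd
    obtain ⟨v', hv'⟩ := hv v
    have hφ0 : φ x ≠ 0 := by
      intro h0
      obtain ⟨k, hk⟩ := Function.ne_iff.1 hx
      have h := DFunLike.congr_fun h0 (eW k)
      simp [hφ, Finsupp.single_apply] at h
      exact hk h
    refine hv0 ?_
    have hz : v' = 0 := hnd _ hφ0 v' fun w => by
      rw [hcx, Matrix.dotProduct_mulVec, show (fun i => eV.repr v' i) = v from funext hv', hvM, zero_dotProduct]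
    funext i
    rw [← hv', hz]
    simp
  have haltx : ∀ x (v : Fin a → ZMod p), Matrix.toBilin' (Mx x) v v = 0 := by
    intro x v
    obtain ⟨v', hv'⟩ := hv v
    rw [Matrix.toBilin'_apply', show v = (fun i => eV.repr v' i) from (funext hv').symm, ← hcx, halt, map_zero]
  have ha0 : 0 < a := Module.finrank_pos
  have hzero : (Mx 0).det = 0 := by
    haveI : Nonempty (Fin a) := ⟨⟨0, ha0⟩⟩
    have : Mx 0 = 0 := by ext i j; simp [Mx, hφ]
    rw [this, Matrix.det_zero]
  rcases (Fact.out (p := p.Prime)).eq_two_or_odd' with hp | hp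
  · subst hp
    have hskew : ∀ v w, c v w = c w v := by
      intro v w
      have h := halt (v + w)
      simp only [map_add, AddMonoidHom.add_apply, halt, zero_add, add_zero] at h
      rw [add_comm, ← neg_eq_iff_add_eq_zero] at h
      rw [← h]
      exact (neg_eq_of_add_eq_zero_left (by rw [← two_nsmul, hW])).symm
    have hsq := det_eq_sq_of_char_two P (fun i => by simp [P, A, halt]) (fun i j => by simp [P, A, hskew (eV i)])
    set g := ∑ σ ∈ Finset.univ.filter (fun σ : Equiv.Perm (Fin a) => σ⁻¹ = σ ∧ ∀ i, σ i ≠ i),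
      ∏ i ∈ Finset.univ.filter (fun i => i < σ i), P (σ i) i
    have hg : 2 * g.totalDegree ≤ a := by
      suffices g.totalDegree ≤ a / 2 by omega
      refine MvPolynomial.totalDegree_finsetSum_le fun σ hσ => ?_
      simp only [Finset.mem_filter, Finset.mem_univ, true_and] at hσ
      refine (MvPolynomial.totalDegree_finsetProd _ _).trans ((Finset.sum_le_sum fun i _ => hP1 _ _).trans ?_)
      have := two_mul_card_lt hσ.1 hσ.2
      rw [Finset.sum_const, smul_eq_mul, mul_one]
      omega
    have hgval : ∀ x, MvPolynomial.eval x g = (Mx x).det := fun x => by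
      rw [← heval, hsq, map_pow]
      exact sq_zmod_two _
    have h := le_totalDegree_of_delta (1 - g) (by rw [map_sub, map_one, hgval, hzero, sub_zero]) (fun x hx => by
      rw [map_sub, map_one, hgval]
      exact one_sub_zmod_two _ (hdet x hx))
    have h2 : (1 - g).totalDegree ≤ g.totalDegree := by
      refine (MvPolynomial.totalDegree_sub _ _).trans ?_
      simp
    omega
  · obtain ⟨k, hk⟩ := hp
    have hkp : (p - 1) = 2 * k := by omega
    have h := le_totalDegree_of_delta (1 - P.det ^ k) ?_ ?_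
    · have h2 : (1 - P.det ^ k).totalDegree ≤ k * a := by
        refine (MvPolynomial.totalDegree_sub _ _).trans (max_le (by simp) ?_)
        refine (MvPolynomial.totalDegree_pow _ _).trans (Nat.mul_le_mul_left _ ?_)
        simpa using totalDegree_det_le P hP1
      have hk0 : 0 < k := by have := (Fact.out (p := p.Prime)).two_le; omega
      rw [hkp] at h
      exact Nat.le_of_mul_le_mul_left ((by ring : k * (b * 2) = 2 * k * b).trans_le (h.trans h2)) hk0
    · have hk0 : k ≠ 0 := by have := (Fact.out (p := p.Prime)).two_le; omega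
      rw [map_sub, map_one, map_pow, heval, hzero, zero_pow hk0, sub_zero]
    · intro x hx
      obtain ⟨y, hy⟩ := isSquare_det_of_alt (Mx x) (haltx x) (hdet x hx)
      have hy0 : y ≠ 0 := fun h => hdet x hx (by rw [hy, h, mul_zero])
      rw [map_sub, map_one, map_pow, heval, hy, ← pow_two, ← pow_mul, ← hkp,
        ZMod.pow_card_sub_one_eq_one hy0, sub_self]

/-- If `c` is alternating and every non-zero functional makes it non-degenerate then `|W|² ≤ |V|`. -/
theorem card_sq_le_of_forall_nondegenerate {p : ℕ} [Fact p.Prime] {V W : Type*} [AddCommGroup V]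
    [AddCommGroup W] [Finite V] [Finite W] [Nontrivial V] (hV : ∀ v : V, p • v = 0) (hW : ∀ w : W, p • w = 0)
    (c : V →+ V →+ W) (halt : ∀ v, c v v = 0)
    (hnd : ∀ φ : W →+ ZMod p, φ ≠ 0 → ∀ v, (∀ w, φ (c v w) = 0) → v = 0) :
    Nat.card W ^ 2 ≤ Nat.card V := by
  let iV : Module (ZMod p) V := AddCommGroup.zmodModule hV
  let iW : Module (ZMod p) W := AddCommGroup.zmodModule hW
  exact @card_sq_le_aux p _ V W _ _ _ _ _ iV iW hW c halt hnd

end CfsgLib.NoDivDegrees
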