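import Cfsg.Agent.NoDivDegrees.ClassFour.Group
import Cfsg.Agent.NoDivDegrees.AltBound

/-!
A `p`-group whose first three lower central layers behave like those of a Camina group with fully ramified
layers, and which has a suitable automorphism, has class at most three.
-/

set_option autoImplicit false

namespace CfsgLib.NoDivDegrees

open scoped commutatorElement

variable {Γ : Type*} [Group Γ] [Finite Γ]

/-- The terms of the lower central series of a subgroup, starting with the subgroup at `0`. -/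
def gam (Q : Subgroup Γ) : ℕ → Subgroup Γ
  | 0 => Q
  | n + 1 => ⁅gam Q n, Q⁆

/-- Every element of `S` outside `T` has a nontrivial `ν`-commutator pairing inside `T`. -/
def Ramified (Q T B : Subgroup Γ) : Prop :=
  ∀ ν : T →* ℂˣ, (∀ b : T, (b : Γ) ∈ B → ν b = 1) → ν ≠ 1 →
    ∀ g ∈ Q, g ∉ T → ∃ w ∈ Q, ∃ h : ⁅g, w⁆ ∈ T, ν ⟨⁅g, w⁆, h⟩ ≠ 1

namespace ClassFour

omit [Finite Γ] in
/-- The terms are those of the lower central series of the subgroup itself. -/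
theorem map_gam (Q : Subgroup Γ) (n : ℕ) : (FpfClass.gam ↥Q n).map Q.subtype = gam Q n := by
  induction n with
  | zero => exact (MonoidHom.range_eq_map _).symm.trans Q.range_subtype
  | succ n ih =>
    show (⁅FpfClass.gam ↥Q n, (⊤ : Subgroup ↥Q)⁆).map Q.subtype = ⁅gam Q n, Q⁆
    rw [Subgroup.map_commutator, ih, ← MonoidHom.range_eq_map, Q.range_subtype]

omit [Finite Γ] in
theorem mem_gam_iff (Q : Subgroup Γ) (n : ℕ) (g : ↥Q) : (g : Γ) ∈ gam Q n ↔ g ∈ FpfClass.gam ↥Q n := by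
  rw [← map_gam]
  exact Subgroup.mem_map_iff_mem Q.subtype_injective

/-- Characters into the complex units give functionals into `ZMod p`. -/
theorem ramified_layer {p : ℕ} [Fact p.Prime] (Q : Subgroup Γ) (n : ℕ)
    (h : Ramified Q (gam Q n) (gam Q (n + 1))) (φ : Lay ↥Q n →+ ZMod p) (hφ : φ ≠ 0) (g : ↥Q)
    (hg : g ∉ FpfClass.gam ↥Q n) : ∃ w, ∃ hw : ⁅g, w⁆ ∈ FpfClass.gam ↥Q n, φ (mkL hw) ≠ 0 := by
  have hsub : gam Q n ≤ Q := by
    rw [← map_gam]; exact Subgroup.map_subtype_le _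
  let ι : ↥(gam Q n) → ↥(FpfClass.gam ↥Q n) := fun b =>
    ⟨⟨b, hsub b.2⟩, (mem_gam_iff Q n ⟨b, hsub b.2⟩).1 b.2⟩
  let χ : ↥(gam Q n) →* Multiplicative (ZMod p) := MonoidHom.mk'
    (fun b => Multiplicative.ofAdd (φ (mkL (ι b).2))) fun a b => by
      rw [← ofAdd_add, ← map_add, ← mkL_mul]
  let ν : ↥(gam Q n) →* ℂˣ := ((ZMod.stdAddChar (N := p)).toMonoidHom.toHomUnits).comp χ
  have hν : ∀ b, ν b = 1 → φ (mkL (ι b).2) = 0 := fun b hb => ZMod.injective_stdAddChar <| by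
    rw [AddChar.map_zero_eq_one]
    exact congrArg Units.val hb
  obtain ⟨w, hw, hmem, hne⟩ := h ν (fun b hb => by
      have h0 : mkL (ι b).2 = 0 := (mkL_eq_zero _).2 ((mem_gam_iff Q (n + 1) ⟨b, hsub b.2⟩).1 hb)
      refine Units.ext ?_
      show ZMod.stdAddChar (φ (mkL (ι b).2)) = 1
      rw [h0, map_zero, AddChar.map_zero_eq_one])
    (fun h1 => hφ (AddMonoidHom.ext fun a => by
      obtain ⟨x, hx, rfl⟩ := exists_mkL a
      exact hν ⟨x, (mem_gam_iff Q n x).2 hx⟩ (DFunLike.congr_fun h1 _)))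
    g g.2 (fun hgm => hg ((mem_gam_iff Q n g).1 hgm))
  refine ⟨⟨w, hw⟩, (mem_gam_iff Q n ⁅g, ⟨w, hw⟩⁆).1 hmem, fun h0 => hne ?_⟩
  refine Units.ext ?_
  show ZMod.stdAddChar (φ (mkL (ι ⟨_, hmem⟩).2)) = 1
  rw [show φ (mkL (ι ⟨_, hmem⟩).2) = 0 from h0, AddChar.map_zero_eq_one]

end ClassFour

open ClassFour in
/-- The class is at most three. -/
theorem gam_three_eq_bot {p : ℕ} [Fact p.Prime] (Q : Subgroup Γ) [Q.Normal] (hQ : IsPGroup p Q)
    (cam : ∀ g ∈ Q, g ∉ gam Q 1 → ∀ u ∈ gam Q 1, ∃ w ∈ Q, ⁅g, w⁆ = u)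
    (ram3 : Ramified Q (gam Q 2) (gam Q 3)) (ram4 : Ramified Q (gam Q 3) (gam Q 4))
    (x : Γ) (hx : (orderOf x).Coprime p)
    (hfix : ∀ u ∈ gam Q 1, ⁅x, u⁆ ∈ gam Q 2)
    (hfpf : ∀ m ∈ Q, ⁅x, m⁆ ∈ gam Q 1 → m ∈ gam Q 1)
    (hfpf3 : ∀ l ∈ gam Q 2, ⁅x, l⁆ ∈ gam Q 3 → l ∈ gam Q 3) :
    gam Q 3 = ⊥ := by
  rw [← map_gam, Subgroup.map_eq_bot_iff_of_injective _ Q.subtype_injective]
  haveI := hQ.isNilpotent
  haveI := fun i => finite_lay (G := ↥Q) i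
  by_cases h0 : ∀ m : Lay ↥Q 0, m = 0
  · exact le_bot_iff.1 ((FpfClass.gam_anti (Nat.zero_le 3)).trans
      (gam_eq_bot_of_eq fun g hg => (mkL_eq_zero hg).1 (h0 _)).le)
  obtain ⟨m₀, hm₀⟩ := not_forall.1 h0
  haveI : Nontrivial (Lay ↥Q 0) := ⟨⟨m₀, 0, hm₀⟩⟩
  refine gam_three_eq_bot_aux hQ ?_ (ramified_layer Q 2 ram3) (ramified_layer Q 3 ram4)
    (fun c hM hU halt hnd => card_sq_le_of_forall_nondegenerate hM hU c halt hnd)
    (MulAut.conjNormal x) (fun u hu => ?_) (fun m hm => ?_) fun l hl hm => ?_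
  · intro g hg u hu
    obtain ⟨w, hw, h⟩ := cam g g.2 (fun h => hg ((mem_gam_iff Q 1 g).1 h)) u ((mem_gam_iff Q 1 u).2 hu)
    exact ⟨⟨w, hw⟩, Subtype.ext h⟩
  · rw [← mem_gam_iff]
    exact hfix u ((mem_gam_iff Q 1 u).2 hu)
  · rw [← mem_gam_iff] at hm ⊢
    exact hfpf m m.2 hm
  · rw [← mem_gam_iff] at hl hm ⊢
    exact hfpf3 l hl hm

end CfsgLib.NoDivDegrees
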