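import Cfsg.Agent.CharactersDeep.Ramification
import Cfsg.Agent.OddOrderChar.FixedChars
import Cfsg.Agent.Characters.Linear
import Cfsg.Agent.DegreeGraph.Basic

/-!
# Characters over a linear character of a central subgroup
-/

set_option autoImplicit false
set_option linter.style.haveILetI false
set_option linter.unusedSectionVars false

namespace CfsgLib.NoDivDegrees

open CfsgLib.Characters CfsgLib.OddOrderChar CfsgLib.CharactersDeep
open scoped ComplexConjugate commutatorElement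

universe u

variable {E : Type u} [Group E] [Fintype E]

/-- The function restricts to a multiple of a linear character. -/
def IsOver (T : Subgroup E) (ν : T →* ℂˣ) (φ : E → ℂ) : Prop :=
  ∀ t : T, φ t = (ν t : ℂ) * φ 1

/-- The subgroup is central. -/
def IsCentral (T : Subgroup E) : Prop := ∀ t ∈ T, ∀ x : E, t * x = x * t

/-- The central character. -/
theorem exists_central_char (T : Subgroup E) (hT : IsCentral T) {φ : E → ℂ}
    (hφ : Cfsg.IsIrrCharacter E φ) :
    ∃ l : T →* ℂˣ, ∀ (x : E) (t : T), φ (x * t) = (l t : ℂ) * φ x := by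
  classical
  obtain ⟨n, ρ, hρ, rfl⟩ := id hφ
  haveI := hρ
  have hn : 0 < Module.finrank ℂ (Fin n → ℂ) := finrank_pos_of_isIrreducible ρ
  haveI : Nontrivial (Fin n → ℂ) := Module.finrank_pos_iff.1 hn
  choose c hc using fun t : T => central_scalar ρ
    (z := (t : E)) (Subgroup.mem_center_iff.2 fun x => (hT t t.2 x).symm)
  have hval : ∀ (x : E) (t : T), ρ.character (x * t) = c t * ρ.character x := fun x t => by
    rw [Representation.character, map_mul, hc t, mul_smul_comm, map_smul,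
      show (LinearMap.id : (Fin n → ℂ) →ₗ[ℂ] (Fin n → ℂ)) = 1 from rfl, mul_one, smul_eq_mul]
    rfl
  have h10 : ρ.character 1 ≠ 0 := irr_one_ne_zero hφ
  have h1 : c 1 = 1 := by
    have := hval 1 1
    rw [OneMemClass.coe_one, mul_one] at this
    exact (mul_right_cancel₀ h10 ((one_mul _).trans this)).symm
  have hmul : ∀ s t : T, c (s * t) = c s * c t := fun s t => by
    refine mul_right_cancel₀ h10 ?_
    rw [← hval 1 (s * t), one_mul, Subgroup.coe_mul, hval (s : E) t,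
      show ρ.character (s : E) = c s * ρ.character 1 by simpa using hval 1 s]
    ring
  let f : T →* ℂ := { toFun := c, map_one' := h1, map_mul' := hmul }
  exact ⟨f.toHomUnits, fun x t => hval x t⟩

theorem IsOver.mul {T : Subgroup E} (hT : IsCentral T) {ν : T →* ℂˣ} {φ : E → ℂ}
    (hφ : Cfsg.IsIrrCharacter E φ) (h : IsOver T ν φ) (x : E) (t : T) :
    φ (x * t) = (ν t : ℂ) * φ x := by
  obtain ⟨l, hl⟩ := exists_central_char T hT hφ
  have : (l t : ℂ) = ν t := mul_right_cancel₀ (irr_one_ne_zero hφ)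
    (((hl 1 t).symm.trans (by rw [one_mul])).trans (h t))
  rw [hl, this]

/-- The central character of an irreducible character determines it on the subgroup. -/
theorem exists_isOver (T : Subgroup E) (hT : IsCentral T) {φ : E → ℂ}
    (hφ : Cfsg.IsIrrCharacter E φ) : ∃ l : T →* ℂˣ, IsOver T l φ := by
  obtain ⟨l, hl⟩ := exists_central_char T hT hφ
  exact ⟨l, fun t => by simpa using hl 1 t⟩

theorem IsOver.eq {T : Subgroup E} {ν ν' : T →* ℂˣ} {φ : E → ℂ}
    (hφ : Cfsg.IsIrrCharacter E φ) (h : IsOver T ν φ) (h' : IsOver T ν' φ) : ν = ν' :=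
  MonoidHom.ext fun t => Units.ext
    (mul_right_cancel₀ (irr_one_ne_zero hφ) ((h t).symm.trans (h' t)))

/-- Constituents of the induced linear character lie over it, and conversely. -/
theorem isOver_iff (T : Subgroup E) [Fintype T] (hT : IsCentral T) (ν : T →* ℂˣ) {φ : E → ℂ}
    (hφ : Cfsg.IsIrrCharacter E φ) :
    IsOver T ν φ ↔ Cfsg.classInner (fun t : T => φ t) (fun t => (ν t : ℂ)) ≠ 0 := by
  obtain ⟨l, hl⟩ := exists_isOver T hT hφ
  have hres : (fun t : T => φ t) = φ 1 • (fun t : T => (l t : ℂ)) := funext fun t => by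
    rw [hl t, Pi.smul_apply, smul_eq_mul, mul_comm]
  constructor
  · intro h
    rw [hres, h.eq hφ hl, classInner_smul_left, classInner_isIrr_self (isIrr_linChar l), mul_one]
    exact irr_one_ne_zero hφ
  · intro h
    by_contra hno
    refine h ?_
    rw [hres, classInner_smul_left, classInner_isIrr_ne (isIrr_linChar l) (isIrr_linChar ν)
      (fun e => hno fun t => by rw [← congrFun e t]; exact hl t), mul_zero]

/-- If all characters over `ν` vanish at `g`, some commutator of `g` in `T` is seen by `ν`. -/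
theorem exists_commutator_ne (T : Subgroup E) (hT : IsCentral T) (ν : T →* ℂˣ) (g : E)
    (hvan : ∀ φ : E → ℂ, Cfsg.IsIrrCharacter E φ → IsOver T ν φ → φ g = 0) :
    ∃ w : E, ∃ h : ⁅g, w⁆ ∈ T, ν ⟨⁅g, w⁆, h⟩ ≠ 1 := by
  classical
  by_contra hno
  push Not at hno
  haveI := Fintype.ofFinite T
  let f : E → ℂ := fun x => ∑ u : E, ∑ t : T, if u * g * u⁻¹ * t = x then (ν t : ℂ) else 0
  have hcl : Cfsg.IsClassFunction E f := by
    intro x y
    refine Fintype.sum_equiv (Equiv.mulLeft y⁻¹) _ _ fun u => ?_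
    refine Finset.sum_congr rfl fun t _ => if_congr ?_ rfl rfl
    simp only [Equiv.coe_mulLeft, mul_inv_rev, inv_inv]
    have e : y⁻¹ * u * g * (u⁻¹ * y) * (t : E) = y⁻¹ * (u * g * u⁻¹ * t) * y := by
      calc y⁻¹ * u * g * (u⁻¹ * y) * (t : E) = y⁻¹ * u * g * u⁻¹ * (y * t) := by group
        _ = y⁻¹ * u * g * u⁻¹ * (t * y) := by rw [hT t t.2 y]
        _ = _ := by group
    rw [e]
    constructor
    · intro h; rw [h]; group
    · intro h; rw [← h]; group
  have h0 : ∀ χ : Cfsg.IrrCharacter E, Cfsg.classInner f (χ : E → ℂ) = 0 := fun χ => by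
    obtain ⟨l, hl⟩ := exists_central_char T hT χ.2
    have key : ∀ u : E, ∑ x : E, (∑ t : T, if u * g * u⁻¹ * t = x then (ν t : ℂ) else 0) *
        conj ((χ : E → ℂ) x) =
          conj ((χ : E → ℂ) g) * ∑ t : T, (ν t : ℂ) * conj (l t : ℂ) := fun u => by
      simp only [Finset.sum_mul, ite_mul, zero_mul]
      rw [Finset.sum_comm, Finset.mul_sum]
      refine Finset.sum_congr rfl fun t _ => ?_
      rw [Finset.sum_ite_eq, if_pos (Finset.mem_univ _), hl, map_mul,
        isClassFunction_of_isIrr χ.2 g u]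
      ring
    have hsum : ∑ t : T, (ν t : ℂ) * conj (l t : ℂ) = 0 ∨ (χ : E → ℂ) g = 0 := by
      by_cases hlν : l = ν
      · exact Or.inr (hvan _ χ.2 fun t => by simpa [hlν] using hl 1 t)
      · refine Or.inl ?_
        have h := classInner_isIrr_ne (isIrr_linChar ν) (isIrr_linChar l) fun e => hlν
          (MonoidHom.ext fun t => Units.ext (congrFun e t).symm)
        rw [Cfsg.classInner, mul_eq_zero] at h
        exact h.resolve_left (inv_ne_zero (Nat.cast_ne_zero.2 Nat.card_pos.ne'))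
    rw [Cfsg.classInner]
    simp only [f, Finset.sum_mul]
    rw [Finset.sum_comm, Finset.sum_congr rfl fun u _ => (Finset.sum_congr rfl fun x _ =>
      (Finset.sum_mul ..).symm).trans (key u)]
    rcases hsum with h | h <;> simp [h]
  have hfg : f g = 0 := congrFun (classFunction_eq_zero hcl h0) g
  have hterm : ∀ (u : E) (t : T), u * g * u⁻¹ * t = g → (ν t : ℂ) = 1 := fun u t ht => by
    have e : ⁅g, u⁆ = (t : E) := by
      have h1 : (t : E) = (u * g * u⁻¹)⁻¹ * g := by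
        calc (t : E) = (u * g * u⁻¹)⁻¹ * (u * g * u⁻¹ * t) := by group
          _ = _ := by rw [ht]
      have h3 := hT t t.2 g
      rw [commutatorElement_def]
      calc g * u * g⁻¹ * u⁻¹ = g * ((u * g * u⁻¹)⁻¹ * g) * g⁻¹ := by group
        _ = g * (t : E) * g⁻¹ := by rw [h1]
        _ = t := by rw [← h3, mul_inv_cancel_right]
    obtain ⟨t, htT⟩ := t
    have := hno u (by rw [e]; exact htT)
    simp only at e
    subst e
    rw [this, Units.val_one]
  have hpos : f g = ∑ u : E, ((Finset.univ.filter fun t : T => u * g * u⁻¹ * t = g).card : ℂ) := by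
    refine Finset.sum_congr rfl fun u _ => ?_
    rw [← Finset.sum_filter, Finset.sum_congr rfl (g := fun _ => (1 : ℂ))
      fun t ht => hterm u t (Finset.mem_filter.1 ht).2, Finset.sum_const, nsmul_one]
  rw [hpos, ← Nat.cast_sum, Nat.cast_eq_zero, Finset.sum_eq_zero_iff] at hfg
  have := hfg 1 (Finset.mem_univ _)
  rw [Finset.card_eq_zero, Finset.filter_eq_empty_iff] at this
  exact this (Finset.mem_univ (1 : T)) (by simp)

section Fixed

variable {L : Type u} [Group L] [Fintype L] (Q T : Subgroup L) [Q.Normal] [T.Normal]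

/-- The subgroup `T` inside `Q`. -/
abbrev inQ : Subgroup Q := T.subgroupOf Q

variable {Q T}

/-- The element fixes the linear character under conjugation. -/
def Fixes (ν : inQ Q T →* ℂˣ) (y : L) : Prop :=
  ∀ t t' : inQ Q T, ((t' : Q) : L) = y * ((t : Q) : L) * y⁻¹ → ν t' = ν t

theorem conjBy_isOver (ν : inQ Q T →* ℂˣ) (y : L) (hν : Fixes ν y)
    {φ : Q → ℂ} (hφ : IsOver (inQ Q T) ν φ) : IsOver (inQ Q T) ν (conjBy Q φ y) := fun t => by
  let t' : inQ Q T := ⟨⟨y * ((t : Q) : L) * y⁻¹, (‹Q.Normal›).conj_mem _ (t : Q).2 y⟩,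
    (‹T.Normal›).conj_mem _ t.2 y⟩
  have h := hφ t'
  rw [hν t t' rfl] at h
  refine h.trans ?_
  congr 1
  exact congrArg φ (Subtype.ext (by simp))

/-- A coprime automorphism of prime power order fixes a character over a fixed linear character. -/
theorem exists_fixed_over (hT : IsCentral (inQ Q T)) {r k : ℕ} (hr : r.Prime) (y : L)
    (hy : y ^ r ^ k = 1) (hcop : ¬ r ∣ Nat.card Q) (ν : inQ Q T →* ℂˣ)
    (hν : Fixes ν y) :
    ∃ φ : Q → ℂ, Cfsg.IsIrrCharacter Q φ ∧ IsOver (inQ Q T) ν φ ∧ conjBy Q φ y = φ := by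
  classical
  haveI := Fact.mk hr
  haveI := Fintype.ofFinite Q
  haveI := Fintype.ofFinite (inQ Q T)
  obtain ⟨m, -, hval, hsq⟩ := Ramification.exists_coeff_indFun (inQ Q T) (isIrr_linChar ν)
    fun g t => congrArg (fun z => (ν z : ℂ)) (Subtype.ext (by
      show g * (t : Q) * g⁻¹ = t
      rw [← hT _ t.2 g, mul_inv_cancel_right]))
  have hm0 : ∀ φ : Cfsg.IrrCharacter Q, m φ ≠ 0 → IsOver (inQ Q T) ν (φ : Q → ℂ) := fun φ h0 => by
    rw [isOver_iff _ hT ν φ.2]
    intro h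
    refine h0 (Nat.cast_injective (R := ℂ) ?_)
    rw [← hval, classInner_indFun _ _ (isClassFunction_of_isIrr φ.2), classInner_conj_symm, h,
      map_zero, Nat.cast_zero]
  let c : Cfsg.IrrCharacter Q → Cfsg.IrrCharacter Q := fun φ =>
    ⟨conjBy Q (φ : Q → ℂ) y, CharactersDeep.Clifford.isIrr_conjBy Q φ.2 y⟩
  have hit : ∀ (j : ℕ) (φ : Cfsg.IrrCharacter Q), ((c^[j] φ : Cfsg.IrrCharacter Q) : Q → ℂ) =
      conjBy Q (φ : Q → ℂ) (y ^ j) := fun j => by
    induction j with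
    | zero => intro φ; rw [pow_zero, conjBy_one]; rfl
    | succ j ih =>
      intro φ
      rw [Function.iterate_succ_apply', pow_succ, ← conjBy_mul, ← ih]
  have hm : ∀ φ : Cfsg.IrrCharacter Q,
      (m φ : ℂ) = if IsOver (inQ Q T) ν (φ : Q → ℂ) then (φ : Q → ℂ) 1 else 0 := fun φ => by
    split_ifs with h
    · have hres : (fun t : inQ Q T => (φ : Q → ℂ) t) =
          (φ : Q → ℂ) 1 • fun t : inQ Q T => (ν t : ℂ) :=
        funext fun t => by rw [h t, Pi.smul_apply, smul_eq_mul, mul_comm]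
      rw [← hval, classInner_indFun _ _ (isClassFunction_of_isIrr φ.2), classInner_conj_symm, hres,
        classInner_smul_left, classInner_isIrr_self (isIrr_linChar ν), mul_one]
      obtain ⟨d, -, hd⟩ := exists_degree_pos φ.2
      rw [hd, Complex.conj_natCast]
    · by_contra h0
      exact h (hm0 φ fun e => h0 (by rw [e, Nat.cast_zero]))
  have hover : ∀ j φ, IsOver (inQ Q T) ν ((φ : Cfsg.IrrCharacter Q) : Q → ℂ) →
      IsOver (inQ Q T) ν ((c^[j] φ : Cfsg.IrrCharacter Q) : Q → ℂ) := fun j => by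
    induction j with
    | zero => exact fun φ h => h
    | succ j ih =>
      intro φ h
      rw [Function.iterate_succ_apply']
      exact conjBy_isOver ν y hν (ih φ h)
  have hcyc : ∀ φ, c^[r ^ k] φ = φ := fun φ => Subtype.ext (by rw [hit, hy, conjBy_one])
  have hcc : ∀ φ, m (c φ) = m φ := fun φ => by
    refine Nat.cast_injective (R := ℂ) ?_
    rw [hm, hm, show ((c φ : Cfsg.IrrCharacter Q) : Q → ℂ) 1 = (φ : Q → ℂ) 1 from
      congrArg (φ : Q → ℂ) (Subtype.ext (by simp))]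
    refine if_congr ⟨fun h => ?_, fun h => hover 1 φ h⟩ rfl rfl
    have h' := hover (r ^ k - 1) (c φ) h
    rwa [← Function.iterate_succ_apply, show (r ^ k - 1).succ = r ^ k from
      Nat.succ_pred_eq_of_pos (pow_pos hr.pos k), hcyc] at h'
  let S := {a : Cfsg.IrrCharacter Q × Fin (Nat.card Q + 1) // (a.2 : ℕ) < m a.1 * m a.1}
  let f : Function.End S := fun a => ⟨(c a.1.1, a.1.2), by rw [hcc]; exact a.2⟩
  have hfit : ∀ (j : ℕ) (a : S), ((f ^ j : Function.End S) a).1 = (c^[j] a.1.1, a.1.2) := fun j => by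
    induction j with
    | zero => intro a; rfl
    | succ j ih =>
      intro a
      rw [pow_succ', Function.iterate_succ_apply']
      show (c ((f ^ j : Function.End S) a).1.1, ((f ^ j : Function.End S) a).1.2) = _
      rw [ih]
  have hf : f ^ r ^ k = 1 := funext fun a => Subtype.ext (by
    rw [hfit]
    exact Prod.ext (Subtype.ext (by rw [hit, hy, conjBy_one]; rfl)) rfl)
  have hbound : ∀ φ, m φ * m φ ≤ Nat.card Q := fun φ =>
    (Finset.single_le_sum (f := fun φ => m φ * m φ) (fun _ _ => Nat.zero_le _)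
      (Finset.mem_univ φ)).trans (hsq ▸ Nat.le_of_dvd Nat.card_pos (Subgroup.index_dvd_card _))
  have hcard : Fintype.card S = (inQ Q T).index := by
    rw [← hsq, Fintype.card_congr (β := Σ φ : Cfsg.IrrCharacter Q, Fin (m φ * m φ))
      ⟨fun a => ⟨a.1.1, ⟨a.1.2, a.2⟩⟩,
        fun b => ⟨(b.1, ⟨b.2, Nat.lt_succ_of_le (b.2.2.le.trans (hbound b.1))⟩), b.2.2⟩,
        fun a => rfl, fun b => rfl⟩, Fintype.card_sigma]
    simp only [Fintype.card_fin]
  have hmod := Equiv.Perm.card_fixedPoints_modEq hf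
  rw [hcard] at hmod
  obtain ⟨⟨⟨⟨φ, i⟩, hi⟩, hfix⟩⟩ : Nonempty f.fixedPoints := by
    refine Fintype.card_pos_iff.1 (Nat.pos_of_ne_zero fun h0 => hcop ?_)
    rw [h0] at hmod
    exact (Nat.modEq_zero_iff_dvd.1 hmod).trans (Subgroup.index_dvd_card _)
  refine ⟨φ, φ.2, hm0 φ fun h0 => ?_, congrArg (fun a : S => ((a.1.1 : Cfsg.IrrCharacter Q) : Q → ℂ)) hfix⟩
  rw [h0] at hi
  exact Nat.not_lt_zero _ hi

/-- A coprime automorphism without fixed points outside the central subgroup fixes at most one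
character over a linear character. -/
theorem unique_fixed_over (hTQ : T ≤ Q) (hT : IsCentral (inQ Q T)) {r k : ℕ} (hr : r.Prime)
    (y : L) (hy : orderOf y = r ^ k) (hcop : ¬ r ∣ Nat.card Q)
    (hfix : ∀ x ∈ Q, y * x = x * y → x ∈ T) (ν : inQ Q T →* ℂˣ) {φ φ' : Q → ℂ}
    (hφ : Cfsg.IsIrrCharacter Q φ) (hφ' : Cfsg.IsIrrCharacter Q φ') (h : IsOver (inQ Q T) ν φ)
    (h' : IsOver (inQ Q T) ν φ') (hy1 : conjBy Q φ y = φ) (hy2 : conjBy Q φ' y = φ') : φ = φ' := by
  classical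
  haveI := Fintype.ofFinite Q
  haveI := Fintype.ofFinite T
  set W := T ⊓ Subgroup.centralizer ({y} : Set L)
  have hTcomm : ∀ a b : T, a * b = b * a := fun a b =>
    Subtype.ext (show (a : L) * b = b * a from
      congrArg Subtype.val (hT ⟨a, hTQ a.2⟩ (Subgroup.mem_subgroupOf.2 a.2) ⟨b, hTQ b.2⟩))
  haveI : IsMulCommutative W :=
    ⟨⟨fun a b => Subtype.ext (show (a : L) * b = b * a from
      congrArg Subtype.val (hTcomm ⟨a, a.2.1⟩ ⟨b, b.2.1⟩))⟩⟩
  have hQW : Q ⊓ Subgroup.centralizer ({y} : Set L) = W :=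
    le_antisymm (fun x hx => ⟨hfix x hx.1 (Subgroup.mem_centralizer_singleton_iff.1 hx.2).symm, hx.2⟩)
      (inf_le_inf_right _ hTQ)
  have hcQ : (orderOf y).Coprime (Nat.card Q) := by
    rw [hy]; exact (hr.coprime_iff_not_dvd.2 hcop).pow_left k
  have h1 := card_fixed_irr Q W y ‹_› hcQ hQW
  have h2 := card_fixed_irr T W y ‹_› (hcQ.coprime_dvd_right (Subgroup.card_dvd_of_le hTQ)) rfl
  -- the restriction map
  let e : T →* inQ Q T := (Subgroup.subgroupOfEquivOfLe hTQ).symm.toMonoidHom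
  have hΦ : ∀ (χ : Q → ℂ) (l : inQ Q T →* ℂˣ), Cfsg.IsIrrCharacter Q χ → IsOver (inQ Q T) l χ →
      conjBy Q χ y = χ → conjBy T (fun t => (l (e t) : ℂ)) y = fun t => (l (e t) : ℂ) := by
    intro χ l hχ hl hyχ
    funext t
    refine mul_right_cancel₀ (irr_one_ne_zero hχ) ?_
    show (l (e _) : ℂ) * χ 1 = (l (e t) : ℂ) * χ 1
    rw [← hl, ← hl]
    refine Eq.trans ?_ (congrFun hyχ ((e t : inQ Q T) : Q))
    exact congrArg χ (Subtype.ext rfl)
  choose lf hlf using fun χ : {χ : Cfsg.IrrCharacter Q // conjBy Q (χ : Q → ℂ) y = χ} =>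
    exists_isOver (inQ Q T) hT χ.1.2
  let Φ : {χ : Cfsg.IrrCharacter Q // conjBy Q (χ : Q → ℂ) y = χ} →
      {χ : Cfsg.IrrCharacter T // conjBy T (χ : T → ℂ) y = χ} := fun χ =>
    ⟨⟨fun t => (lf χ (e t) : ℂ), isIrr_linChar ((lf χ).comp e)⟩,
      hΦ _ (lf χ) χ.1.2 (hlf χ) χ.2⟩
  have hsurj : Function.Surjective Φ := by
    rintro ⟨⟨θ, hθ⟩, hθy⟩
    obtain ⟨l, hl⟩ := exists_hom_of_degree_one (isCharacter_of_isIrr hθ)
      (OddOrderChar.irr_degree_one_of_comm hTcomm ⟨θ, hθ⟩)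
    let ν' : inQ Q T →* ℂˣ := l.comp (Subgroup.subgroupOfEquivOfLe hTQ).toMonoidHom
    have hν' : Fixes ν' y := fun t t' htt => Units.ext (by
      have := congrFun hθy ⟨((t : Q) : L), t.2⟩
      simp only [hl, conjBy_apply] at this
      refine Eq.trans ?_ this
      exact congrArg (fun z : T => (l z : ℂ)) (Subtype.ext htt))
    obtain ⟨χ, hχ, hχo, hχy⟩ := exists_fixed_over hT hr y (by rw [← hy, pow_orderOf_eq_one]) hcop ν' hν'
    refine ⟨⟨⟨χ, hχ⟩, hχy⟩, Subtype.ext (Subtype.ext ?_)⟩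
    show (fun t => (lf ⟨⟨χ, hχ⟩, hχy⟩ (e t) : ℂ)) = θ
    rw [(hlf ⟨⟨χ, hχ⟩, hχy⟩).eq hχ hχo, hl]
    funext t
    exact congrArg (fun z : T => (l z : ℂ)) (Subtype.ext rfl)
  have hinj : Function.Injective Φ :=
    (Finite.injective_iff_surjective_of_equiv
      (Finite.card_eq.1 (h1.trans h2.symm)).some).2 hsurj
  have heq : Φ ⟨⟨φ, hφ⟩, hy1⟩ = Φ ⟨⟨φ', hφ'⟩, hy2⟩ := by
    refine Subtype.ext (Subtype.ext ?_)
    show (fun t => (lf _ (e t) : ℂ)) = fun t => (lf _ (e t) : ℂ)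
    rw [(hlf ⟨⟨φ, hφ⟩, hy1⟩).eq hφ h, (hlf ⟨⟨φ', hφ'⟩, hy2⟩).eq hφ' h']
  exact congrArg (fun χ : {χ : Cfsg.IrrCharacter Q // conjBy Q (χ : Q → ℂ) y = χ} =>
    (χ.1 : Q → ℂ)) (hinj heq)

end Fixed

section Ramified

variable {G : Type u} [Group G] [Fintype G]

/-- **Full ramification**: if every character over `ν` is fixed by some element of prime power
order of an abelian group acting coprimely, without fixed points on `Q / T`, then `ν` sees a
commutator of every element outside `T`. -/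
theorem ramified_of_fixed (Q T B : Subgroup G) [Q.Normal] [hTn : T.Normal] [B.Normal] (hTQ : T ≤ Q)
    (hBT : B ≤ T) (hcent : ∀ t ∈ T, ∀ x ∈ Q, ⁅t, x⁆ ∈ B) (H : Subgroup G)
    (hH : ∀ a ∈ H, ∀ b ∈ H, a * b = b * a) (hcop : (Nat.card H).Coprime (Nat.card Q))
    (ν : T →* ℂˣ) (hνB : ∀ b : T, (b : G) ∈ B → ν b = 1)
    (hfix : ∀ φ : Q → ℂ, Cfsg.IsIrrCharacter Q φ →
      (∀ t : T, φ ⟨t, hTQ t.2⟩ = (ν t : ℂ) * φ 1) →
      ∃ y ∈ H, ∃ r k : ℕ, r.Prime ∧ orderOf y = r ^ k ∧ conjBy Q φ y = φ ∧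
        ∀ x ∈ Q, ⁅y, x⁆ ∈ B → x ∈ T) :
    ∀ g ∈ Q, g ∉ T → ∃ w ∈ Q, ∃ h : ⁅g, w⁆ ∈ T, ν ⟨⁅g, w⁆, h⟩ ≠ 1 := by
  classical
  set π := QuotientGroup.mk' B with hπdef
  have hπ : Function.Surjective π := QuotientGroup.mk'_surjective B
  haveI : (Q.map π).Normal := ‹Q.Normal›.map π hπ
  haveI : (T.map π).Normal := hTn.map π hπ
  haveI := Fintype.ofFinite Q
  haveI := Fintype.ofFinite (G ⧸ B)
  haveI := Fintype.ofFinite (Q.map π)
  haveI := Fintype.ofFinite (inQ (Q.map π) (T.map π))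
  have hmemT : ∀ x : G, π x ∈ T.map π → x ∈ T := fun x hx => by
    have h1 : x ∈ (T.map π).comap π := hx
    rwa [Subgroup.comap_map_eq, hπdef, QuotientGroup.ker_mk', sup_eq_left.2 hBT] at h1
  let pQ := π.subgroupMap Q
  have hpQ : Function.Surjective pQ := π.subgroupMap_surjective Q
  have hT : IsCentral (inQ (Q.map π) (T.map π)) := by
    rintro ⟨_, a, ha, rfl⟩ haT ⟨_, b, hb, rfl⟩
    refine Subtype.ext ?_
    show π a * π b = π b * π a
    rw [← commutatorElement_eq_one_iff_mul_comm, ← map_commutatorElement, hπdef,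
      QuotientGroup.mk'_apply, QuotientGroup.eq_one_iff]
    exact hcent a (hmemT a haT) b hb
  -- the character induced by `ν`
  have hlift : ∀ t : inQ (Q.map π) (T.map π), ∃ a : T, π a = ((t : Q.map π) : G ⧸ B) := fun t => by
    obtain ⟨a, ha, e⟩ := Subgroup.mem_subgroupOf.1 t.2
    exact ⟨⟨a, ha⟩, e⟩
  choose sec hsec using hlift
  have hwd : ∀ a b : T, π a = π b → ν a = ν b := fun a b e => by
    have h1 : ν (a⁻¹ * b) = 1 := hνB _ (QuotientGroup.eq.1 e)
    rwa [map_mul, map_inv, inv_mul_eq_one] at h1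
  let ν' : inQ (Q.map π) (T.map π) →* ℂˣ := MonoidHom.mk' (fun t => ν (sec t)) fun a b => by
    rw [← map_mul]
    refine hwd _ _ ?_
    rw [Subgroup.coe_mul, map_mul, hsec, hsec, hsec]
    rfl
  have hν' : ∀ (t : inQ (Q.map π) (T.map π)) (a : T), π a = ((t : Q.map π) : G ⧸ B) → ν' t = ν a :=
    fun t a e => hwd _ _ ((hsec t).trans e.symm)
  -- every character over `ν'` is fixed by a suitable element
  have hfixed : ∀ φ : Q.map π → ℂ, Cfsg.IsIrrCharacter (Q.map π) φ →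
      IsOver (inQ (Q.map π) (T.map π)) ν' φ → ∃ y ∈ H, ∃ r k : ℕ, r.Prime ∧
        orderOf (π y) = r ^ k ∧ ¬ r ∣ Nat.card (Q.map π) ∧
        conjBy (Q.map π) φ (π y) = φ ∧ Fixes ν' (π y) ∧
        (∀ x ∈ Q.map π, π y * x = x * π y → x ∈ T.map π) ∨
        (orderOf (π y) = 1 ∧ ∀ x ∈ Q, x ∈ T) := by
    intro φ hφ hover
    have h1 := isIrr_comp pQ hpQ hφ
    obtain ⟨y, hyH, r, k, hr, hyo, hyφ, hyT⟩ := hfix _ h1 fun t => by
      have := hover ⟨pQ ⟨t, hTQ t.2⟩, Subgroup.mem_subgroupOf.2 (Subgroup.mem_map_of_mem π t.2)⟩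
      rw [hν' _ t rfl] at this
      rw [map_one]
      exact this
    obtain ⟨j, hjk, hj⟩ := (Nat.dvd_prime_pow hr).1 (hyo ▸ orderOf_map_dvd π y)
    refine ⟨y, hyH, r, j, ?_⟩
    by_cases hj0 : j = 0
    · refine Or.inr ⟨by rw [hj, hj0, pow_zero], fun x hx => hyT x hx ?_⟩
      have hy1 : π y = 1 := orderOf_eq_one_iff.1 (by rw [hj, hj0, pow_zero])
      rw [← QuotientGroup.eq_one_iff, ← QuotientGroup.mk'_apply, ← hπdef, map_commutatorElement,
        hy1, commutatorElement_one_left]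
    have hconj : conjBy (Q.map π) φ (π y) = φ := funext fun x => by
      obtain ⟨x, rfl⟩ := hpQ x
      refine Eq.trans ?_ (congrFun hyφ x)
      exact congrArg φ (Subtype.ext (by
        show π y * π (x : G) * (π y)⁻¹ = π (y * x * y⁻¹)
        simp))
    refine Or.inl ⟨hr, hj, fun hd => ?_, hconj, fun t t' htt => ?_, ?_⟩
    · refine hr.not_dvd_one ?_
      rw [← hcop]
      refine Nat.dvd_gcd ?_ (hd.trans (Subgroup.card_map_dvd ..))
      exact ((dvd_pow_self r hj0).trans (hj ▸ orderOf_map_dvd π y)).trans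
        (Subgroup.orderOf_dvd_natCard H hyH)
    · have hv := conjBy_isOver (T := T.map π) ν' (π y)
      have hov : IsOver (inQ (Q.map π) (T.map π)) ν' (conjBy (Q.map π) φ (π y)) := hconj.symm ▸ hover
      refine Units.ext (mul_right_cancel₀ (irr_one_ne_zero hφ) ?_)
      rw [← hover t', ← hover t]
      refine Eq.trans ?_ (congrFun hconj t)
      exact congrArg φ (Subtype.ext htt)
    · rintro _ ⟨x, hx, rfl⟩ hcomm
      refine Subgroup.mem_map_of_mem π (hyT x hx ?_)
      rw [← QuotientGroup.eq_one_iff, ← QuotientGroup.mk'_apply, ← hπdef, map_commutatorElement,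
        commutatorElement_eq_one_iff_mul_comm]
      exact hcomm
  intro g hg hgT
  obtain ⟨φ₀, hφ₀, hφ₀c⟩ := CharactersDeep.Clifford.exists_over (inQ (Q.map π) (T.map π))
    (isIrr_linChar ν')
  have ho₀ := (isOver_iff _ hT ν' hφ₀).2 hφ₀c
  have key : ∀ φ : Q.map π → ℂ, Cfsg.IsIrrCharacter (Q.map π) φ →
      IsOver (inQ (Q.map π) (T.map π)) ν' φ → φ = φ₀ := by
    intro φ hφ hover
    obtain ⟨y, hyH, r, k, ⟨hr, hyo, hrQ, hyφ, hyν, hyT⟩ | ⟨-, hall⟩⟩ := hfixed φ hφ hover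
    swap
    · exact absurd (hall g hg) hgT
    obtain ⟨y₀, hy₀H, r₀, k₀, ⟨hr₀, hy₀o, hr₀Q, hy₀φ, hy₀ν, hy₀T⟩ | ⟨-, hall⟩⟩ := hfixed φ₀ hφ₀ ho₀
    swap
    · exact absurd (hall g hg) hgT
    have hTQ' : T.map π ≤ Q.map π := Subgroup.map_mono hTQ
    have hcomm : π y₀ * π y = π y * π y₀ := by rw [← map_mul, ← map_mul, hH y₀ hy₀H y hyH]
    have hφ' : conjBy (Q.map π) φ (π y₀) = φ := by
      refine (unique_fixed_over hTQ' hT hr (π y) hyo hrQ hyT ν'
        (CharactersDeep.Clifford.isIrr_conjBy _ hφ _) hφ (conjBy_isOver ν' _ hy₀ν hover) hover ?_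
        hyφ)
      rw [conjBy_mul, hcomm, ← conjBy_mul, hyφ]
    exact unique_fixed_over hTQ' hT hr₀ (π y₀) hy₀o hr₀Q hy₀T ν' hφ hφ₀ hover ho₀ hφ' hy₀φ
  -- the unique character vanishes off `T`
  have hinv : ∀ (a : Q.map π) (n : inQ (Q.map π) (T.map π)),
      (fun t => (ν' t : ℂ)) ⟨a * n * a⁻¹, (inferInstance : (inQ (Q.map π) (T.map π)).Normal).conj_mem n n.2 a⟩
        = (ν' n : ℂ) := fun a n => congrArg (fun z => (ν' z : ℂ)) (Subtype.ext (by
      show a * (n : Q.map π) * a⁻¹ = n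
      rw [← hT _ n.2 a, mul_inv_cancel_right]))
  obtain ⟨hA, hB⟩ := Ramification.fully_ramified (inQ (Q.map π) (T.map π)) hφ₀ (isIrr_linChar ν') hφ₀c
  have hvan := (hA.1 (hB.2 fun a n => ⟨hinv a n, fun ψ hψ hne => key ψ hψ
    ((isOver_iff _ hT ν' hψ).2 (by
      rwa [classInner_indFun _ _ (isClassFunction_of_isIrr hψ), classInner_conj_symm,
        Ne, map_eq_zero] at hne))⟩)).1
  obtain ⟨w, hw, hne⟩ := exists_commutator_ne (inQ (Q.map π) (T.map π)) hT ν' (pQ ⟨g, hg⟩)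
    fun φ hφ ho => key φ hφ ho ▸ hvan _ (fun h => hgT (hmemT g h))
  obtain ⟨⟨w, hwQ⟩, rfl⟩ := hpQ w
  have hwT : ⁅g, w⁆ ∈ T := hmemT _ (by rw [map_commutatorElement]; exact hw)
  refine ⟨w, hwQ, hwT, fun h1 => hne ?_⟩
  rw [hν' _ ⟨⁅g, w⁆, hwT⟩ (map_commutatorElement π g w)]
  exact h1

end Ramified

end CfsgLib.NoDivDegrees
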