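import Cfsg.Agent.NoDivDegrees.LayerDegree
import Cfsg.Agent.NoDivDegrees.Over

/-!
# The `p`-group case: class at most three
-/

set_option autoImplicit false
set_option linter.style.haveILetI false
set_option linter.unusedSectionVars false
set_option linter.unusedVariables false

namespace CfsgLib.NoDivDegrees

open CfsgLib.Characters CfsgLib.OddOrderChar CfsgLib.CharactersDeep
open scoped ComplexConjugate commutatorElement

universe u

variable {G : Type u} [Group G] [Fintype G] {P H : Subgroup G} [hP : P.Normal] {p : ℕ}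

/-- An element all whose powers of prime power order lie in a subgroup lies in it. -/
theorem exists_pow_notMem (X : Subgroup G) :
    ∀ y : G, y ∉ X → ∃ k r j : ℕ, r.Prime ∧ orderOf (y ^ k) = r ^ j ∧ y ^ k ∉ X := by
  intro y
  induction hy : orderOf y using Nat.strong_induction_on generalizing y with
  | _ n ih =>
    intro hyX
    subst hy
    have h0 : 0 < orderOf y := orderOf_pos y
    have hne : orderOf y ≠ 1 := fun h => hyX (by rw [orderOf_eq_one_iff.1 h]; exact X.one_mem)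
    obtain ⟨r, hr, hrd⟩ := Nat.exists_prime_and_dvd hne
    obtain ⟨j, m, hrm, hjm⟩ := Nat.exists_eq_pow_mul_and_not_dvd h0.ne' r hr.ne_one
    by_cases hm1 : m = 1
    · exact ⟨1, r, j, hr, by rw [pow_one, hjm, hm1, mul_one], by rwa [pow_one]⟩
    have hm0 : 0 < m := Nat.pos_of_ne_zero fun h => hrm (h ▸ dvd_zero r)
    have hj0 : j ≠ 0 := fun h => hrm (by rwa [hjm, h, pow_zero, one_mul] at hrd)
    by_cases hA : y ^ m ∈ X
    · by_cases hB : y ^ (r ^ j) ∈ X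
      · refine absurd ?_ hyX
        obtain ⟨u, v, huv⟩ : ∃ u v : ℤ, 1 = (m : ℤ) * u + (r ^ j : ℕ) * v := by
          refine ⟨Nat.gcdA m (r ^ j), Nat.gcdB m (r ^ j), ?_⟩
          rw [← Nat.gcd_eq_gcd_ab,
            ((hr.coprime_iff_not_dvd.2 hrm).pow_left j).symm.gcd_eq_one, Nat.cast_one]
        rw [← zpow_one y, huv, zpow_add, zpow_mul, zpow_mul, zpow_natCast, zpow_natCast]
        exact X.mul_mem (X.zpow_mem hA u) (X.zpow_mem hB v)
      · obtain ⟨k, r', i, h1, h2, h3⟩ := ih (orderOf (y ^ (r ^ j))) (by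
            rw [orderOf_pow' y (pow_ne_zero j hr.ne_zero), hjm, Nat.gcd_mul_right_left]
            exact Nat.div_lt_self (Nat.mul_pos (pow_pos hr.pos j) hm0)
              (Nat.one_lt_pow hj0 hr.one_lt)) (y ^ (r ^ j)) rfl hB
        exact ⟨r ^ j * k, r', i, h1, by rw [pow_mul]; exact h2, by rw [pow_mul]; exact h3⟩
    · obtain ⟨k, r', i, h1, h2, h3⟩ := ih (orderOf (y ^ m)) (by
          rw [orderOf_pow' y hm0.ne', hjm, Nat.gcd_mul_left_left]
          exact Nat.div_lt_self (Nat.mul_pos (pow_pos hr.pos j) hm0) (by omega)) (y ^ m) rfl hA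
      exact ⟨m * k, r', i, h1, by rw [pow_mul]; exact h2, by rw [pow_mul]; exact h3⟩

namespace Core

variable (C : Core P H p)

include C

theorem dual_eq_one_Q {h : G} (hh : h ∈ H) (h1 : h ≠ 1) [(⁅P, H⁆).Normal]
    (l : (⁅P, H⁆ : Subgroup G) →* ℂˣ) (hl : actL ⁅P, H⁆ h l = l) : l = 1 := by
  refine MonoidHom.ext fun ⟨q, hq⟩ => ?_
  obtain ⟨x, hx, t, ht, e⟩ := C.exists_comm_mul (C.notMem hh h1) hq
  obtain ⟨q', hq', c, hc, rfl⟩ := C.exists_mul hx
  have htQ : t ∈ ⁅P, H⁆ := by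
    rw [C.commutator_eq] at ht
    exact Subgroup.commutator_le_self _ ht
  have hq2 : h * q' * h⁻¹ ∈ ⁅P, H⁆ := (‹(⁅P, H⁆).Normal›).conj_mem q' hq' h
  have e2 : q = h * q' * h⁻¹ * q'⁻¹ * t := by
    rw [e, show h * (q' * c) * h⁻¹ = h * q' * h⁻¹ * (h * c * h⁻¹) by group, C.conj_fixed hc hh]
    group
  have e3 : (⟨q, hq⟩ : (⁅P, H⁆ : Subgroup G)) = ⟨_, hq2⟩ * ⟨q', hq'⟩⁻¹ * ⟨t, htQ⟩ := Subtype.ext e2
  have ht1 : l ⟨t, htQ⟩ = 1 := by
    have hmem : (⟨t, htQ⟩ : (⁅P, H⁆ : Subgroup G)) ∈ commutator (⁅P, H⁆ : Subgroup G) := by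
      have h2 := ht
      rw [C.commutator_eq, ← Subgroup.map_subtype_commutator] at h2
      obtain ⟨z, hz, ez⟩ := h2
      rwa [show (⟨t, htQ⟩ : (⁅P, H⁆ : Subgroup G)) = z from Subtype.ext ez.symm]
    exact Abelianization.commutator_subset_ker l hmem
  have h4 : l ⟨h * q' * h⁻¹, hq2⟩ = l ⟨q', hq'⟩ := by
    conv_rhs => rw [← hl, actL_apply]
  rw [e3, map_mul, map_mul, map_inv, h4, mul_inv_cancel, one_mul, ht1, MonoidHom.one_apply]

/-- A character of `[P, H]` of too large degree is fixed outside `X`. -/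
theorem exists_fixing_Q [(⁅P, H⁆).Normal] [Fintype (⁅P, H⁆ : Subgroup G)]
    {φ : (⁅P, H⁆ : Subgroup G) → ℂ} (hφ : Cfsg.IsIrrCharacter _ φ) {d : ℕ} (hd : φ 1 = d)
    (X : Subgroup G) (hbad : ∀ a ∈ Cfsg.charDegrees G, ¬ X.index * d ∣ a) (hPX : P ≤ X) :
    ∃ y ∈ H, y ∉ X ∧ conjBy ⁅P, H⁆ φ y = φ := by
  classical
  obtain ⟨χ, hχ, hne⟩ := CharactersDeep.Clifford.exists_over ⁅P, H⁆ hφ
  set T := DefectOne.inertia ⁅P, H⁆ φ with hT
  have hdeg := clifford_degree ⁅P, H⁆ hχ hφ T (fun g => Iff.rfl) hne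
  obtain ⟨e, he⟩ := classInner_character_irr (isCharacter_restrict ⁅P, H⁆ (isCharacter_of_isIrr hχ)) hφ
  obtain ⟨a, ha0, ha⟩ := exists_degree_pos hχ
  rw [ha, he, hd, ← Nat.cast_mul, ← Nat.cast_mul, Nat.cast_inj] at hdeg
  obtain ⟨g, hgT, hgX⟩ : ∃ g ∈ T, g ∉ X := by
    by_contra hle
    push Not at hle
    exact hbad a (DegreeGraph.mem_charDegrees hχ ha)
      (hdeg ▸ dvd_mul_of_dvd_right (Nat.mul_dvd_mul_right (Subgroup.index_dvd_of_le hle) d) e)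
  obtain ⟨k, hk, h, hh, rfl⟩ := C.exists_decomp g
  refine ⟨h, hh, fun hhX => hgX (X.mul_mem (hPX hk) hhX), ?_⟩
  obtain ⟨x, hx, hxT⟩ := exists_conjugate_mem P T hk (C.coprime_orderOf hh) hgT
  obtain ⟨q, hq, c, hc, rfl⟩ := C.exists_mul hx
  have hQT : ⁅P, H⁆ ≤ T := DefectOne.le_inertia _ (isClassFunction_of_isIrr hφ)
  have hu : c⁻¹ * (h⁻¹ * q⁻¹ * h * q) * c ∈ T := hQT (by
    have h1 : h⁻¹ * q⁻¹ * h * q ∈ ⁅P, H⁆ :=
      mul_mem (by simpa using (‹(⁅P, H⁆).Normal›).conj_mem _ (inv_mem hq) h⁻¹) hq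
    simpa using (‹(⁅P, H⁆).Normal›).conj_mem _ h1 c⁻¹)
  have e1 : (q * c)⁻¹ * h * (q * c) = h * (c⁻¹ * (h⁻¹ * q⁻¹ * h * q) * c) := by
    have e2 : h * c⁻¹ * h⁻¹ = c⁻¹ := C.conj_fixed (inv_mem hc) hh
    calc (q * c)⁻¹ * h * (q * c) = c⁻¹ * h * (h⁻¹ * q⁻¹ * h * q) * c := by group
      _ = (h * c⁻¹ * h⁻¹) * h * (h⁻¹ * q⁻¹ * h * q) * c := by rw [e2]
      _ = _ := by group
  rw [e1] at hxT
  exact (T.mul_mem_cancel_right hu).1 hxT

theorem subgroupOf_Q : (⁅P, P⁆).subgroupOf ⁅P, H⁆ = commutator (⁅P, H⁆ : Subgroup G) := by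
  rw [C.commutator_eq, ← Subgroup.map_subtype_commutator, Subgroup.subgroupOf,
    Subgroup.comap_map_eq_self_of_injective (Subgroup.subtype_injective _)]

theorem hfix_Q [(⁅P, H⁆).Normal] (φ : (⁅P, H⁆ : Subgroup G) → ℂ)
    (hφ : Cfsg.IsIrrCharacter _ φ) (h1 : φ 1 ≠ 1) :
    ∃ h ∈ H, h ≠ 1 ∧ conjBy ⁅P, H⁆ φ h = φ := by
  classical
  haveI := Fintype.ofFinite (⁅P, H⁆ : Subgroup G)
  obtain ⟨d, hd0, hd⟩ := exists_degree_pos hφ
  have hd1 : 1 < d := by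
    have : d ≠ 1 := fun e => h1 (by rw [hd, e, Nat.cast_one])
    omega
  obtain ⟨y, hy, hyP, hfix⟩ := C.exists_fixing_Q hφ hd P (fun a ha hdvd =>
    C.base.nd _ C.base.mem a ha C.base.one_lt
      (lt_of_lt_of_le (lt_mul_of_one_lt_right (by have := C.base.one_lt; omega) hd1)
        (Nat.le_of_dvd (DegreeGraph.pos_of_mem ha) hdvd)) ((dvd_mul_right _ _).trans hdvd)) le_rfl
  exact ⟨y, hy, fun e => hyP (e ▸ P.one_mem), hfix⟩

theorem cam : ∀ g ∈ ⁅P, H⁆, g ∉ gam ⁅P, H⁆ 1 → ∀ u ∈ gam ⁅P, H⁆ 1,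
    ∃ w ∈ ⁅P, H⁆, ⁅g, w⁆ = u := by
  haveI := C.Q_normal
  exact cam_of_fixed ⁅P, H⁆ H (fun a ha b hb => C.H_comm ha hb) C.hfix_Q
    fun h hh h1 l hl => C.dual_eq_one_Q hh h1 l hl

/-- Characters over the deeper layers have large degree. -/
theorem degree_gt [(⁅P, H⁆).Normal] [Fintype (⁅P, H⁆ : Subgroup G)] {n : ℕ}
    {ν : gam P (n + 2) →* ℂˣ} (hν : ν ≠ 1) {φ : (⁅P, H⁆ : Subgroup G) → ℂ}
    (hφ : Cfsg.IsIrrCharacter _ φ)
    (hover : ∀ t : gam P (n + 2), ∀ h : (t : G) ∈ ⁅P, H⁆, φ ⟨t, h⟩ = (ν t : ℂ) * φ 1) {d : ℕ}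
    (hd : φ 1 = d) : (⁅P, P⁆).relIndex ⁅P, H⁆ < d ^ 2 := by
  classical
  have hTQ : gam P (n + 2) ≤ ⁅P, H⁆ := by
    rw [C.gam_eq (n + 1)]
    exact gam_le' (n + 2)
  by_contra hle
  push Not at hle
  refine hν (MonoidHom.ext fun t => Units.ext (mul_right_cancel₀ (irr_one_ne_zero hφ) ?_))
  rw [← hover t (hTQ t.2), MonoidHom.one_apply, Units.val_one, one_mul]
  -- `φ` is nonlinear
  have hnl : φ 1 ≠ 1 := fun h1 => hν (MonoidHom.ext fun t => Units.ext (by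
    have hc : (⟨t, hTQ t.2⟩ : (⁅P, H⁆ : Subgroup G)) ∈ commutator (⁅P, H⁆ : Subgroup G) := by
      rw [← C.subgroupOf_Q, Subgroup.mem_subgroupOf]
      exact gam_anti P (by omega : 1 ≤ n + 2) t.2
    have h3 := hover t (hTQ t.2)
    rw [SameDegree.linear_commutator hφ h1 hc, h1, mul_one] at h3
    exact h3.symm))
  set N := commutator (⁅P, H⁆ : Subgroup G)
  haveI := Fintype.ofFinite N
  have hvan : ∀ g, g ∉ N → φ g = 0 := fun g hg => by
    obtain ⟨μ, -, hμ⟩ := TwoComponents73.exists_lin N le_rfl hg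
    have h := congrFun (absorb ⁅P, H⁆ H (fun a ha b hb => C.H_comm ha hb) C.hfix_Q
      (fun h hh h1 l hl => C.dual_eq_one_Q hh h1 l hl) hφ hnl μ) g
    by_contra h0
    exact hμ (Units.ext (mul_right_cancel₀ h0 (h.trans (one_mul _).symm)))
  have hnorm := (Ramification.vanish_iff N hφ).1 hvan
  rw [Subgroup.relIndex, C.subgroupOf_Q] at hle
  obtain ⟨m, ρ, hρ, rfl⟩ := id hφ
  haveI := hρ
  have hm : m = d := by
    rw [Representation.char_one, Module.finrank_fin_fun] at hd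
    exact_mod_cast hd
  subst hm
  have hscal : ∀ u : N, ‖ρ.character (u : (⁅P, H⁆ : Subgroup G))‖ = (m : ℝ) := by
    have hb : ∀ u : N, ‖ρ.character (u : (⁅P, H⁆ : Subgroup G))‖ ≤ (m : ℝ) := fun u => by
      simpa [hd] using character_norm_le (isCharacter_of_isIrr hφ) (u : (⁅P, H⁆ : Subgroup G))
    have hsum : ∑ u : N, ‖ρ.character (u : (⁅P, H⁆ : Subgroup G))‖ ^ 2 =
        (Nat.card N : ℝ) * (N.index : ℝ) := by
      rw [Cfsg.classInner, inv_mul_eq_iff_eq_mul₀ (subgroup_card_ne_zero N)] at hnorm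
      simp only [Complex.mul_conj'] at hnorm
      exact_mod_cast hnorm
    have hle' : ∑ _u : N, (m : ℝ) ^ 2 ≤ ∑ u : N, ‖ρ.character (u : (⁅P, H⁆ : Subgroup G))‖ ^ 2 := by
      rw [hsum, Finset.sum_const, Finset.card_univ, nsmul_eq_mul, ← Nat.card_eq_fintype_card]
      refine mul_le_mul_of_nonneg_left ?_ (Nat.cast_nonneg _)
      exact_mod_cast hle
    have hall := (Finset.sum_eq_sum_iff_of_le fun u _ =>
      pow_le_pow_left₀ (norm_nonneg _) (hb u) 2).1 (le_antisymm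
        (Finset.sum_le_sum fun u _ => pow_le_pow_left₀ (norm_nonneg _) (hb u) 2) hle')
    exact fun u => (pow_left_inj₀ (norm_nonneg _) (Nat.cast_nonneg _) two_ne_zero).1
      (hall u (Finset.mem_univ u))
  -- so the derived subgroup acts by scalars and its commutators with `[P, H]` trivially
  have hker : gam ⁅P, H⁆ 2 ≤ ρ.ker.map (⁅P, H⁆ : Subgroup G).subtype := by
    refine Subgroup.commutator_le.2 fun u hu q hq => ?_
    have hu2 : u ∈ ⁅⁅P, H⁆, ⁅P, H⁆⁆ := hu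
    rw [← Subgroup.map_subtype_commutator] at hu2
    obtain ⟨x, hx, rfl⟩ := hu2
    refine ⟨⁅x, ⟨q, hq⟩⁆, ?_, rfl⟩
    obtain ⟨ω, hω, -⟩ := exists_scalar_of_norm_char_eq ρ x (by
      rw [Module.finrank_fin_fun]; exact hscal ⟨x, hx⟩)
    set y : (⁅P, H⁆ : Subgroup G) := ⟨q, hq⟩
    have hcomm : ρ x * ρ y = ρ y * ρ x := by
      rw [hω]
      refine LinearMap.ext fun v => ?_
      simp
    show ρ ⁅x, y⁆ = 1
    calc ρ ⁅x, y⁆ = ρ x * ρ y * ρ x⁻¹ * ρ y⁻¹ := by rw [← map_mul, ← map_mul, ← map_mul]; rfl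
      _ = ρ y * ρ x * ρ x⁻¹ * ρ y⁻¹ := by rw [hcomm]
      _ = 1 := by rw [← map_mul, ← map_mul, ← map_mul, show y * x * x⁻¹ * y⁻¹ = 1 by group, map_one]
  have ht : (t : G) ∈ gam ⁅P, H⁆ 2 := by
    rw [← C.gam_eq 1]
    exact gam_anti P (by omega : 2 ≤ n + 2) t.2
  obtain ⟨s, hs, es⟩ := hker ht
  rw [show (⟨(t : G), hTQ t.2⟩ : (⁅P, H⁆ : Subgroup G)) = s from Subtype.ext es.symm,
    Representation.char_one, Representation.character]
  rw [show ρ s = 1 from hs, LinearMap.trace_one]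
where
  gam_le' : ∀ n, gam ⁅P, H⁆ n ≤ ⁅P, H⁆ := fun n => by
    haveI := C.Q_normal
    exact gam_le ⁅P, H⁆ n

/-- `P` is `[P, H]` times the centre modulo the derived subgroup. -/
theorem relIndex_Q : (⁅P, P⁆).relIndex ⁅P, H⁆ = (K0 P).relIndex P := by
  haveI := C.Q_normal
  have h1 : (K0 P).relIndex P = (K0 P).relIndex ⁅P, H⁆ := by
    have hsup : ⁅P, H⁆ ⊔ K0 P = P := le_antisymm (sup_le C.Q_le (K0_le P))
      (fun k hk => by
        obtain ⟨q, hq, c, hc, rfl⟩ := C.exists_mul hk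
        exact Subgroup.mul_mem_sup hq (C.centralizer_le_K0 hc))
    exact (congrArg (K0 P).relIndex hsup).symm.trans (Subgroup.relIndex_sup_right _ _)
  rw [h1, ← Subgroup.inf_relIndex_right (K0 P), ← Subgroup.inf_relIndex_right (⁅P, P⁆)]
  congr 1
  refine le_antisymm (fun x hx => ⟨?_, hx.2⟩) fun x hx => ⟨C.Q_inf_K0 hx.2 hx.1, hx.2⟩
  exact (mem_K0 P).2 ⟨C.Q_le hx.2, fun g => by
    rw [show ⁅g, x⁆ = g * x * g⁻¹ * x⁻¹ from rfl]
    exact mul_mem ((Subgroup.commutator_normal P P).conj_mem x hx.1 g) (inv_mem hx.1)⟩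

section NotTop

variable (hX : layerKer P ≠ ⊤)

include hX

theorem exists_notMem_layerKer : ∃ h ∈ H, h ∉ layerKer P := by
  by_contra hall
  push Not at hall
  refine hX (top_unique fun g _ => ?_)
  obtain ⟨k, hk, h, hh, rfl⟩ := C.exists_decomp g
  exact mul_mem (le_layerKer hk) (hall h hh)

theorem centralizer_self_le {a b : G} (ha : a ∈ P ⊓ Subgroup.centralizer (H : Set G))
    (hb : b ∈ P ⊓ Subgroup.centralizer (H : Set G)) : ⁅a, b⁆ ∈ gam P 2 := by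
  obtain ⟨h, hh, hhX⟩ := C.exists_notMem_layerKer hX
  refine fixed_mem (n := 1) (z := h) (Subgroup.commutator_mem_commutator ha.1 hb.1) ?_
    (C.fpf_of_notMem_layerKer hhX)
  rw [show ⁅h, ⁅a, b⁆⁆ = 1 from commutatorElement_eq_one_iff_mul_comm.2 (by
    rw [← mul_inv_eq_iff_eq_mul]
    calc h * ⁅a, b⁆ * h⁻¹ = ⁅h * a * h⁻¹, h * b * h⁻¹⁆ := by group
      _ = ⁅a, b⁆ := by rw [C.conj_fixed ha hh, C.conj_fixed hb hh])]
  exact one_mem _

theorem commutator_centralizer_P :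
    ⁅P, P ⊓ Subgroup.centralizer (H : Set G)⁆ ≤ gam P 2 := by
  conv_lhs => arg 1; rw [← C.sup_eq]
  refine commutator_sup_le _ _ _ _ C.commutator_centralizer_le ?_
  exact Subgroup.commutator_le.2 fun a ha b hb => C.centralizer_self_le hX ha hb

theorem rad_eq_K0 {μ : Dual P 1} (hμ : μ ≠ 1) : rad μ = K0 P := by
  refine le_antisymm (C.rad_le_K0 μ hμ) fun k hk => ?_
  obtain ⟨u, hu, c, hc, rfl⟩ := C.K0_eq hk
  refine mul_mem (C.commutator_le_rad μ hu) ⟨hc.1, fun w hw h => μ.2 _ ?_⟩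
  show ⁅c, w⁆ ∈ gam P 2
  rw [← commutatorElement_inv]
  exact inv_mem (C.commutator_centralizer_P hX (Subgroup.commutator_mem_commutator hw hc))

/-- Characters over the deeper layers are fixed by elements of prime power order moving the first
layer. -/
theorem exists_fixing_deep [(⁅P, H⁆).Normal] {n : ℕ}
    {ν : gam P (n + 2) →* ℂˣ} (hν : ν ≠ 1) {φ : (⁅P, H⁆ : Subgroup G) → ℂ}
    (hφ : Cfsg.IsIrrCharacter _ φ)
    (hover : ∀ t : gam P (n + 2), ∀ h : (t : G) ∈ ⁅P, H⁆, φ ⟨t, h⟩ = (ν t : ℂ) * φ 1) :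
    ∃ y ∈ H, y ∉ layerKer P ∧ (∃ r k : ℕ, r.Prime ∧ orderOf y = r ^ k) ∧
      conjBy ⁅P, H⁆ φ y = φ ∧ y ∈ TwoDegrees73.stab (gam P (n + 2)) ν := by
  classical
  haveI := Fact.mk C.prime
  haveI := Fintype.ofFinite (⁅P, H⁆ : Subgroup G)
  obtain ⟨d₂, h12, ⟨j₂, rfl⟩, hmem, hrad⟩ := C.exists_degree_one
  obtain ⟨μ, hμ⟩ := C.exists_dual_ne
  obtain ⟨d, hd0, hd⟩ := exists_degree_pos hφ
  have hgt := C.degree_gt hν hφ hover hd
  rw [C.relIndex_Q, ← C.rad_eq_K0 hX hμ, hrad μ hμ] at hgt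
  have hlt : p ^ j₂ < d := lt_of_pow_lt_pow_left₀ 2 (Nat.zero_le _) hgt
  obtain ⟨e, he⟩ := IsPGroup.iff_card.1 C.pgroup
  obtain ⟨j, -, rfl⟩ : ∃ j ≤ e, d = p ^ j := (Nat.dvd_prime_pow C.prime).1 (by
    obtain ⟨m, ρ, hρ, hρφ⟩ := id hφ
    haveI := hρ
    have h2 := finrank_dvd_card ρ
    rw [Module.finrank_fin_fun] at h2
    have hm : m = d := by
      rw [← hρφ, Representation.char_one, Module.finrank_fin_fun] at hd
      exact_mod_cast hd
    exact he ▸ (hm ▸ h2).trans (Subgroup.card_dvd_of_le C.Q_le))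
  obtain ⟨y, hyH, hyX, hfix⟩ := C.exists_fixing_Q hφ hd (layerKer P) (fun a ha hdvd => by
    have hpos : 0 < (layerKer P).index := Nat.pos_of_ne_zero Subgroup.index_ne_zero_of_finite
    refine C.base.nd _ hmem a ha (lt_of_lt_of_le h12 (Nat.le_mul_of_pos_left _ hpos)) ?_ ?_
    · exact lt_of_lt_of_le (Nat.mul_lt_mul_of_pos_left hlt hpos)
        (Nat.le_of_dvd (DegreeGraph.pos_of_mem ha) hdvd)
    · exact (Nat.mul_dvd_mul_left _ (pow_dvd_pow p
        ((Nat.pow_le_pow_iff_right C.prime.one_lt).1 hlt.le))).trans hdvd) le_layerKer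
  obtain ⟨k, r, i, hr, hord, hk⟩ := exists_pow_notMem (layerKer P) y hyX
  have hfix' : conjBy ⁅P, H⁆ φ (y ^ k) = φ :=
    (DefectOne.inertia ⁅P, H⁆ φ).pow_mem hfix k
  refine ⟨y ^ k, H.pow_mem hyH k, hk, ⟨r, i, hr, hord⟩, hfix', ?_⟩
  have hTQ : gam P (n + 2) ≤ ⁅P, H⁆ := by
    rw [C.gam_eq (n + 1)]
    exact gam_le _ _
  rw [TwoDegrees73.mem_stab]
  intro t
  refine Units.ext (mul_right_cancel₀ (irr_one_ne_zero hφ) ?_)
  rw [← hover _ (hTQ ((gam_normal P (n + 2)).conj_mem t t.2 _)), ← hover t (hTQ t.2)]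
  refine Eq.trans ?_ (congrFun hfix' ⟨t, hTQ t.2⟩)
  exact congrArg φ (Subtype.ext rfl)

theorem exists_fixing_dual_deep {n : ℕ} {ν : gam P (n + 2) →* ℂˣ} (hν : ν ∈ Dual P (n + 2))
    (hne : ν ≠ 1) : ∃ y ∈ H, y ∉ layerKer P ∧ y ∈ TwoDegrees73.stab (gam P (n + 2)) ν := by
  classical
  haveI := C.Q_normal
  haveI := Fintype.ofFinite (⁅P, H⁆ : Subgroup G)
  have hTQ : gam P (n + 2) ≤ ⁅P, H⁆ := by
    rw [C.gam_eq (n + 1)]
    exact gam_le _ _
  obtain ⟨φ, hφ, hover⟩ := exists_over_normal ⁅P, H⁆ (gam P (n + 2)) hTQ ν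
    (C.Q_le.trans (le_stab hν))
  obtain ⟨y, hy, hyX, -, -, hst⟩ :=
    C.exists_fixing_deep hX hne hφ fun t h => hover t
  exact ⟨y, hy, hyX, hst⟩

theorem notMem_of_notMem_layerKer {y : G} (hy : y ∉ layerKer P) : y ∉ P :=
  fun h => hy (le_layerKer h)

/-- `[P, H]` commutes with the centraliser modulo `γ₄`. -/
theorem commutator_centralizer_three :
    ⁅⁅P, H⁆, P ⊓ Subgroup.centralizer (H : Set G)⁆ ≤ gam P 3 := by
  refine Subgroup.commutator_le.2 fun q hq c hc => ?_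
  suffices h : ⁅c, q⁆ ∈ gam P 3 by
    rw [← commutatorElement_inv]; exact inv_mem h
  have hu : ∀ x ∈ P, ⁅c, x⁆ ∈ gam P 2 := fun x hx => by
    rw [← commutatorElement_inv]
    exact inv_mem (C.commutator_centralizer_P hX (Subgroup.commutator_mem_commutator hx hc))
  refine mem_of_forall_dual (n := 2) (hu q (C.Q_le hq)) fun μ hμ => ?_
  by_cases hne : μ = 1
  · rw [hne]; rfl
  obtain ⟨y, hyH, hyX, hy⟩ := C.exists_fixing_dual_deep hX (n := 0) hμ hne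
  refine C.pair_kill (u := c) hμ hu (fun h => hyX (le_layerKer h)) (fun x hx hx' => hμ _ ?_)
    (fun x hx => ?_) hq
  · show ⁅c, x⁆ ∈ gam P 3
    rw [← commutatorElement_inv]
    exact inv_mem (C.commutator_layer_centralizer 0 (Subgroup.commutator_mem_commutator hx' hc))
  · refine Eq.trans ?_ ((TwoDegrees73.mem_stab _).1 hy ⟨⁅c, x⁆, hu x hx⟩)
    refine congrArg μ (Subtype.ext ?_)
    show ⁅c, y * x * y⁻¹⁆ = y * ⁅c, x⁆ * y⁻¹
    conv_lhs => rw [← C.conj_fixed hc hyH]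
    group

/-- Elements of the complement trivial on the first layer move all characters of the second. -/
theorem fpf_two {x : G} (hxH : x ∈ H) (hx1 : x ≠ 1) (hxX : x ∈ layerKer P) :
    ∀ ν ∈ Dual P 2, x ∈ TwoDegrees73.stab (gam P 2) ν → ν = 1 := fun ν hν h =>
  C.dual_eq_one_of_trivial (n := 0) hxH hx1
    (fun u hu => trivial_of_dual (mem_layerKer_iff.1 hxX) hu) hν h

theorem centralizer_self_three {a b : G} (ha : a ∈ P ⊓ Subgroup.centralizer (H : Set G))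
    (hb : b ∈ P ⊓ Subgroup.centralizer (H : Set G)) : ⁅a, b⁆ ∈ gam P 3 := by
  obtain ⟨x, hxH, hx1, hxX⟩ := C.exists_mem_layerKer
  refine fixed_mem (n := 2) (z := x) (C.centralizer_self_le hX ha hb) ?_ (C.fpf_two hX hxH hx1 hxX)
  rw [show ⁅x, ⁅a, b⁆⁆ = 1 from commutatorElement_eq_one_iff_mul_comm.2 (by
    rw [← mul_inv_eq_iff_eq_mul]
    calc x * ⁅a, b⁆ * x⁻¹ = ⁅x * a * x⁻¹, x * b * x⁻¹⁆ := by group
      _ = ⁅a, b⁆ := by rw [C.conj_fixed ha hxH, C.conj_fixed hb hxH])]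
  exact one_mem _

theorem commutator_centralizer_P_three :
    ⁅P, P ⊓ Subgroup.centralizer (H : Set G)⁆ ≤ gam P 3 := by
  conv_lhs => arg 1; rw [← C.sup_eq]
  refine commutator_sup_le _ _ _ _ (C.commutator_centralizer_three hX) ?_
  exact Subgroup.commutator_le.2 fun a ha b hb => C.centralizer_self_three hX ha hb

/-- Ramification over a deeper layer, given the fixed-point-freeness on those above. -/
theorem ramified (n : ℕ)
    (hfpf : ∀ (ν : gam P (n + 2) →* ℂˣ), ν ∈ Dual P (n + 2) → ν ≠ 1 → ∀ y ∈ H, y ∉ layerKer P →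
      y ∈ TwoDegrees73.stab (gam P (n + 2)) ν →
      ∀ u ∈ gam P 2, ⁅y, u⁆ ∈ gam P (n + 3) → u ∈ gam P (n + 2)) :
    Ramified ⁅P, H⁆ (gam P (n + 2)) (gam P (n + 3)) := by
  haveI := C.Q_normal
  have hTQ : gam P (n + 2) ≤ ⁅P, H⁆ := by
    rw [C.gam_eq (n + 1)]
    exact gam_le _ _
  intro ν hνB hν1 g hg hgT
  refine ramified_of_fixed ⁅P, H⁆ (gam P (n + 2)) (gam P (n + 3)) hTQ (gam_succ_le P (n + 2))
    (fun t ht x hx => Subgroup.commutator_mem_commutator ht (C.Q_le hx)) H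
    (fun a ha b hb => C.H_comm ha hb) (C.coprime_H.coprime_dvd_right (Subgroup.card_dvd_of_le C.Q_le))
    ν hνB (fun φ hφ hover => ?_) g hg hgT
  obtain ⟨y, hyH, hyX, ⟨r, k, hr, hord⟩, hfix, hst⟩ :=
    C.exists_fixing_deep hX hν1 hφ fun t h => hover t
  refine ⟨y, hyH, r, k, hr, hord, hfix, fun x hx hxB => ?_⟩
  have h1 : x ∈ ⁅P, P⁆ := C.mem_commutator_of_fixed (fun h => hyX (le_layerKer h)) hx
    (gam_anti P (by omega : 1 ≤ n + 3) hxB)
  have h2 : x ∈ gam P 2 := fixed_mem (n := 1) (z := y) h1 (gam_anti P (by omega : 2 ≤ n + 3) hxB)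
    (C.fpf_of_notMem_layerKer hyX)
  exact hfpf ν hνB hν1 y hyH hyX hst x h2 hxB

theorem ramified_two : Ramified ⁅P, H⁆ (gam P 2) (gam P 3) :=
  C.ramified hX 0 fun ν _ _ y _ _ _ u hu _ => hu

/-- The radical of the second layer. -/
theorem layer_two_char [Fintype P] {ν : gam P 2 →* ℂˣ} (hν : ν ∈ Dual P 2) (hne : ν ≠ 1)
    {ψ : P → ℂ} (hψ : Cfsg.IsIrrCharacter P ψ)
    (hover : ∀ t : gam P 2, ψ ⟨t, gam_le P 2 t.2⟩ = (ν t : ℂ) * ψ 1) {d : ℕ} (hd : ψ 1 = d) :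
    d ^ 2 = (gam P 2 ⊔ (P ⊓ Subgroup.centralizer (H : Set G))).relIndex P ∧
      DefectOne.inertia P ψ = TwoDegrees73.stab (gam P 2) ν := by
  refine C.layer_char hν _ (sup_le (gam_le P 2) inf_le_left) le_sup_left (fun r hr => ?_)
    (fun r hr w hw => ?_) (fun g hg hgR => ?_) hψ hover hd
  · obtain ⟨t, ht, c, hc, e⟩ := Subgroup.mem_sup_of_normal_left.1 hr
    exact ⟨t, ht, c, hc, e.symm⟩
  · have h1 : ⁅r, w⁆ ∈ gam P 3 := by
      refine commutator_sup_le (gam P 2) _ P (gam P 3) le_rfl ?_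
        (Subgroup.commutator_mem_commutator hr hw)
      rw [Subgroup.commutator_comm]
      exact C.commutator_centralizer_P_three hX
    exact ⟨gam_succ_le P 2 h1, hν _ h1⟩
  · obtain ⟨q, hq, c, hc, rfl⟩ := C.exists_mul hg
    have hq2 : q ∉ gam P 2 := fun h => hgR (Subgroup.mul_mem_sup h hc)
    obtain ⟨w, hw, h, h1⟩ := C.ramified_two hX ν hν hne q hq hq2
    have hcw : ⁅c, w⁆ ∈ gam P 3 := by
      rw [← commutatorElement_inv]
      exact inv_mem (C.commutator_centralizer_P_three hX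
        (Subgroup.commutator_mem_commutator (C.Q_le hw) hc))
    have hcw2 : q * ⁅c, w⁆ * q⁻¹ ∈ gam P 3 := (gam_normal P 3).conj_mem _ hcw q
    have e : ⁅q * c, w⁆ = q * ⁅c, w⁆ * q⁻¹ * ⁅q, w⁆ := by group
    refine ⟨w, C.Q_le hw, e ▸ mul_mem (gam_succ_le P 2 hcw2) h, fun h2 => h1 ?_⟩
    rw [← h2]
    conv_rhs => rw [show (⟨⁅q * c, w⁆, e ▸ mul_mem (gam_succ_le P 2 hcw2) h⟩ : gam P 2) =
      ⟨_, gam_succ_le P 2 hcw2⟩ * ⟨⁅q, w⁆, h⟩ from Subtype.ext e, map_mul,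
      hν ⟨_, gam_succ_le P 2 hcw2⟩ hcw2, one_mul]

theorem exists_degree_layer_two {ν : gam P 2 →* ℂˣ} (hν : ν ∈ Dual P 2) (hne : ν ≠ 1) :
    ∃ d, (TwoDegrees73.stab (gam P 2) ν).index * d ∈ Cfsg.charDegrees G ∧
      d ^ 2 = (gam P 2 ⊔ (P ⊓ Subgroup.centralizer (H : Set G))).relIndex P ∧ 1 < d := by
  classical
  haveI := Fintype.ofFinite P
  obtain ⟨ψ, hψ, hover⟩ := exists_over_layer hν
  obtain ⟨d, hd0, hd⟩ := exists_degree_pos hψ
  obtain ⟨hsq, hin⟩ := C.layer_two_char hX hν hne hψ hover hd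
  have hm := C.base.index_mul_mem hψ hd
  rw [hin] at hm
  refine ⟨d, hm, hsq, ?_⟩
  by_contra hle
  have h1 : d = 1 := by omega
  rw [h1, one_pow] at hsq
  obtain ⟨g, hg, hg0⟩ := C.exists_notMem_K0
  refine hg0 ((sup_le ?_ C.centralizer_le_K0) (Subgroup.relIndex_eq_one.1 hsq.symm (C.Q_le hg)))
  exact (gam_succ_le P 1).trans (commutator_le_K0 P)

theorem layer_two_dichotomy (z : G) :
    (∀ ν ∈ Dual P 2, z ∈ TwoDegrees73.stab (gam P 2) ν) ∨
      (∀ ν ∈ Dual P 2, z ∈ TwoDegrees73.stab (gam P 2) ν → ν = 1) := by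
  classical
  haveI : Finite (gam P 2 →* ℂˣ) := TwoComponents73.finite_hom
  let d : Dual P 2 →* Dual P 2 :=
    ((actL (gam P 2) z / MonoidHom.id (gam P 2 →* ℂˣ)).comp (Dual P 2).subtype).codRestrict (Dual P 2)
      fun μ => (Dual P 2).div_mem (dual_actL μ.2 z) μ.2
  let S : Dual P 2 → Subgroup G := fun μ => TwoDegrees73.stab (gam P 2) (μ : gam P 2 →* ℂˣ)
  have hS1 : ∀ g : G, g ∈ S 1 := fun g =>
    (mem_stab_iff_actL (T := gam P 2) (μ := 1)).2 (map_one _)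
  have hz : ∀ μ, z ∈ S μ ↔ d μ = 1 := fun μ =>
    (mem_stab_iff_actL (T := gam P 2) (μ := (μ : gam P 2 →* ℂˣ))).trans
      ⟨fun h => Subtype.ext (div_eq_one.2 h), fun h => div_eq_one.1 (congrArg Subtype.val h)⟩
  have key : ∀ v w : Dual P 2, v ≠ 1 → w ≠ 1 → S v ≤ S w → (⊤ : Subgroup G) ≤ ⊤ → S v = S w := by
    intro v w hv hw hS _
    obtain ⟨dv, hmv, hsv, hv1⟩ :=
      C.exists_degree_layer_two hX v.2 (fun e => hv (Subtype.ext e))
    obtain ⟨dw, hmw, hsw, hw1⟩ :=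
      C.exists_degree_layer_two hX w.2 (fun e => hw (Subtype.ext e))
    have hd : dw = dv := Nat.pow_left_injective two_ne_zero (hsw.trans hsv.symm)
    subst hd
    have hi : (S w).index ∣ (S v).index := Subgroup.index_dvd_of_le hS
    have hne : (S w).index ≠ 0 := Subgroup.index_ne_zero_of_finite
    have heq := C.base.nd.eq_of_dvd hmw hmv
      (lt_of_lt_of_le hw1 (Nat.le_mul_of_pos_left _ (Nat.pos_of_ne_zero hne)))
      (Nat.mul_dvd_mul_right hi dw)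
    refine le_antisymm hS (Subgroup.relIndex_eq_one.1 ?_)
    have h4 := Subgroup.relIndex_mul_index hS
    rw [← Nat.eq_of_mul_eq_mul_right (by omega : 0 < dw) heq] at h4
    exact Nat.eq_of_mul_eq_mul_right (Nat.pos_of_ne_zero hne) (h4.trans (one_mul _).symm)
  rcases all_or_none d S (fun _ => (⊤ : Subgroup G)) z hz (fun v => C.stab_le_twist v.2 z)
    (fun v w => C.stab_mul_le (v : gam P 2 →* ℂˣ) w) hS1 (fun _ _ _ _ => le_rfl)
    (fun _ _ => inf_le_left) (fun _ => le_rfl) key with h | h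
  · exact Or.inl fun μ hμ => (hz ⟨μ, hμ⟩).2 (h _)
  · exact Or.inr fun μ hμ hzμ => congrArg Subtype.val (h _ ((hz ⟨μ, hμ⟩).1 hzμ))

theorem ramified_three : Ramified ⁅P, H⁆ (gam P 3) (gam P 4) := by
  refine C.ramified hX 1 fun ν hν hne y hyH hyX hst u hu huB => ?_
  rcases C.layer_two_dichotomy hX y with h | h
  · exact absurd (C.dual_eq_one_of_trivial (n := 1) hyH (fun e => hyX (e ▸ one_mem _))
      (fun v hv => trivial_of_dual h hv) hν hst) hne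
  · exact fixed_mem hu (gam_succ_le P 3 huB) h

end NotTop

/-- If the complement acts trivially on the first layer the class is two. -/
theorem gam_two_eq_bot (hX : layerKer P = ⊤) : gam P 2 = ⊥ := by
  have h : gam P 2 ≤ gam P 3 := fun u hu => mem_of_forall_dual hu fun ν hν => by
    by_cases hne : ν = 1
    · rw [hne]; rfl
    obtain ⟨h, hh, h1, hst⟩ := C.exists_fixing_dual (n := 1) hν hne
    exact absurd (C.dual_eq_one_of_trivial (n := 0) hh h1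
      (fun v hv => trivial_of_dual (mem_layerKer_iff.1 (hX ▸ Subgroup.mem_top h)) hv) hν hst) hne
  exact le_bot_iff.1 (C.le_of_le_sup (N := ⊥) (gam_le P 2) (h.trans le_sup_right))

/-- **The class is at most three.** -/
theorem gam_three_eq_bot' : gam P 3 = ⊥ := by
  by_cases hX : layerKer P = ⊤
  · exact le_bot_iff.1 ((gam_succ_le P 2).trans (C.gam_two_eq_bot hX).le)
  haveI := Fact.mk C.prime
  haveI := C.Q_normal
  obtain ⟨x, hxH, hx1, hxX⟩ := C.exists_mem_layerKer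
  have e1 : gam ⁅P, H⁆ 1 = gam P 1 := (C.gam_eq 0).symm
  have e2 : gam ⁅P, H⁆ 2 = gam P 2 := (C.gam_eq 1).symm
  have e3 : gam ⁅P, H⁆ 3 = gam P 3 := (C.gam_eq 2).symm
  have e4 : gam ⁅P, H⁆ 4 = gam P 4 := (C.gam_eq 3).symm
  rw [← e3]
  refine gam_three_eq_bot ⁅P, H⁆ (C.pgroup.to_le C.Q_le) C.cam ?_ ?_ x ?_ ?_ ?_ ?_
  · rw [e2, e3]; exact C.ramified_two hX
  · rw [e3, e4]; exact C.ramified_three hX
  · exact ((C.card_H ▸ C.coprime_index.symm).coprime_dvd_left (Subgroup.orderOf_dvd_natCard H hxH))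
  · rw [e1, e2]
    exact fun u hu => trivial_of_dual (mem_layerKer_iff.1 hxX) hu
  · rw [e1]
    exact fun m hm h => C.mem_commutator_of_fixed (C.notMem hxH hx1) hm h
  · rw [e2, e3]
    exact fun l hl h => fixed_mem hl h (C.fpf_two hX hxH hx1 hxX)

end Core

end CfsgLib.NoDivDegrees
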