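import Cfsg.Agent.NoDivDegrees.CoreFour
import Cfsg.Agent.GaloisAverage.Ito

/-!
# The `p`-group case: degrees, derived length and power structure
-/

set_option autoImplicit false
set_option linter.style.haveILetI false
set_option linter.unusedSectionVars false
set_option linter.unusedVariables false

namespace CfsgLib.NoDivDegrees

open CfsgLib.Characters CfsgLib.OddOrderChar CfsgLib.CharactersDeep
open scoped ComplexConjugate commutatorElement

universe u

variable {G : Type u} [Group G] [Fintype G] {P H : Subgroup G} [hP : P.Normal] {p : ℕ}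

/-- The power formula in class two. -/
theorem mul_pow_of_central {E : Type*} [Group E] (a b : E)
    (hz : ∀ x, Commute ⁅b, a⁆ x) (n : ℕ) : (a * b) ^ n = a ^ n * b ^ n * ⁅b, a⁆ ^ n.choose 2 := by
  have hsw : ∀ k : ℕ, b ^ k * a = a * b ^ k * ⁅b, a⁆ ^ k := fun k => by
    induction k with
    | zero => simp
    | succ k ih =>
      calc b ^ (k + 1) * a = b ^ k * (⁅b, a⁆ * (a * b)) := by rw [pow_succ]; group
        _ = b ^ k * ((a * b) * ⁅b, a⁆) := by rw [(hz (a * b)).eq]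
        _ = b ^ k * a * (b * ⁅b, a⁆) := by simp only [mul_assoc]
        _ = a * b ^ k * ⁅b, a⁆ ^ k * (b * ⁅b, a⁆) := by rw [ih]
        _ = a * b ^ k * (⁅b, a⁆ ^ k * b) * ⁅b, a⁆ := by simp only [mul_assoc]
        _ = a * b ^ k * (b * ⁅b, a⁆ ^ k) * ⁅b, a⁆ := by rw [((hz b).pow_left k).eq]
        _ = a * b ^ (k + 1) * ⁅b, a⁆ ^ (k + 1) := by simp only [pow_succ, mul_assoc]
  induction n with
  | zero => simp
  | succ n ih =>
    have e : (n + 1).choose 2 = n + n.choose 2 := by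
      rw [Nat.choose_succ_succ, Nat.choose_one_right]
    calc (a * b) ^ (n + 1) = a ^ n * b ^ n * ⁅b, a⁆ ^ n.choose 2 * (a * b) := by rw [pow_succ, ih]
      _ = a ^ n * b ^ n * ((a * b) * ⁅b, a⁆ ^ n.choose 2) := by
        rw [mul_assoc _ (⁅b, a⁆ ^ n.choose 2), ((hz (a * b)).pow_left _).eq]
      _ = a ^ n * (b ^ n * a) * b * ⁅b, a⁆ ^ n.choose 2 := by simp only [mul_assoc]
      _ = a ^ n * (a * b ^ n * ⁅b, a⁆ ^ n) * b * ⁅b, a⁆ ^ n.choose 2 := by rw [hsw]
      _ = a ^ (n + 1) * b ^ n * (⁅b, a⁆ ^ n * b) * ⁅b, a⁆ ^ n.choose 2 := by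
        simp only [pow_succ, mul_assoc]
      _ = a ^ (n + 1) * b ^ n * (b * ⁅b, a⁆ ^ n) * ⁅b, a⁆ ^ n.choose 2 := by
        rw [((hz b).pow_left n).eq]
      _ = _ := by rw [e, pow_add ⁅b, a⁆, pow_succ b]; simp only [mul_assoc]

/-- Where the commutators with `T` are in the kernel, `T` acts by scalars. -/
theorem exists_dual_over [Fintype P] {θ : P → ℂ} (hθ : Cfsg.IsIrrCharacter P θ) (n : ℕ)
    (hB : ∀ b : gam P (n + 1), θ ⟨b, gam_le P (n + 1) b.2⟩ = θ 1) :
    ∃ ν : gam P n →* ℂˣ, ν ∈ Dual P n ∧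
      ∀ t : gam P n, θ ⟨t, gam_le P n t.2⟩ = (ν t : ℂ) * θ 1 := by
  classical
  obtain ⟨m, ρ, hρ, rfl⟩ := id hθ
  haveI := hρ
  have hker : ∀ b : gam P (n + 1), ρ ⟨b, gam_le P (n + 1) b.2⟩ = 1 := fun b =>
    rep_eq_one_of_char_eq ρ (hB b)
  choose c hc using fun t : gam P n => schur_scalar ρ (ρ ⟨t, gam_le P n t.2⟩) (by
    intro w v
    have hm : ⁅(t : G), (w : G)⁆ ∈ gam P (n + 1) := Subgroup.commutator_mem_commutator t.2 w.2
    have e : (⟨t, gam_le P n t.2⟩ : P) * w =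
        ⟨⁅(t : G), (w : G)⁆, gam_le P (n + 1) hm⟩ * (w * ⟨t, gam_le P n t.2⟩) := Subtype.ext (by
          show (t : G) * w = ⁅(t : G), (w : G)⁆ * (w * t)
          group)
    have h2 : ρ (⟨t, gam_le P n t.2⟩ * w) = ρ (w * ⟨t, gam_le P n t.2⟩) := by
      rw [e, map_mul, hker ⟨_, hm⟩, one_mul]
    rw [map_mul, map_mul] at h2
    exact LinearMap.congr_fun h2 v)
  have hchar : ∀ t : gam P n, ρ.character ⟨t, gam_le P n t.2⟩ = c t * ρ.character 1 := fun t => by
    rw [Representation.character, hc, map_smul, Representation.character, map_one,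
      show (LinearMap.id : (Fin m → ℂ) →ₗ[ℂ] (Fin m → ℂ)) = 1 from rfl, smul_eq_mul]
  have h10 : ρ.character 1 ≠ 0 := irr_one_ne_zero hθ
  have h1 : c 1 = 1 := mul_right_cancel₀ h10 ((hchar 1).symm.trans (one_mul _).symm)
  have hmul : ∀ s t, c (s * t) = c s * c t := fun s t => by
    refine mul_right_cancel₀ h10 ?_
    rw [← hchar, show (⟨((s * t : gam P n) : G), gam_le P n (s * t).2⟩ : P) =
      ⟨s, gam_le P n s.2⟩ * ⟨t, gam_le P n t.2⟩ from rfl, Representation.character, map_mul, hc, hc,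
      smul_mul_smul_comm, map_smul, Representation.character, map_one,
      show (LinearMap.id : (Fin m → ℂ) →ₗ[ℂ] (Fin m → ℂ)) = 1 from rfl, one_mul, smul_eq_mul]
  let f : gam P n →* ℂ := { toFun := c, map_one' := h1, map_mul' := hmul }
  refine ⟨f.toHomUnits, fun b hb => Units.ext (mul_right_cancel₀ h10 ?_), hchar⟩
  rw [Units.val_one, one_mul]
  exact (hchar b).symm.trans (hB ⟨b, hb⟩)

namespace Core

variable (C : Core P H p)

include C

theorem gam_four_eq_bot : gam P 4 = ⊥ :=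
  le_bot_iff.1 ((gam_succ_le P 3).trans C.gam_three_eq_bot'.le)

theorem derived_eq_bot : ⁅⁅P, P⁆, ⁅P, P⁆⁆ = ⊥ :=
  le_bot_iff.1 ((commutator_gam_le P 1 1).trans C.gam_three_eq_bot'.le)

theorem degree_of_constituent [Fintype P] {χ : G → ℂ} (hχ : Cfsg.IsIrrCharacter G χ) {θ : P → ℂ}
    (hθ : Cfsg.IsIrrCharacter P θ) (hne : Cfsg.classInner (fun k : P => χ k) θ ≠ 0) {c d : ℕ}
    (hc : χ 1 = c) (hd : θ 1 = d) : c = (DefectOne.inertia P θ).index * d := by
  classical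
  haveI := C.base.cyc
  have h := clifford_degree P hχ hθ (DefectOne.inertia P θ) (fun g => Iff.rfl) hne
  rw [DefectOne.multiplicity_one (QuotientGroup.mk' P) (QuotientGroup.ker_mk' P) inferInstance hθ
    hχ hne, hd, hc, one_mul, ← Nat.cast_mul] at h
  exact_mod_cast h

/-- **At most four degrees.** -/
theorem degrees : ∃ a b : ℕ, ∀ c ∈ Cfsg.charDegrees G, c = 1 ∨ c = P.index ∨ c = a ∨ c = b := by
  classical
  haveI := Fintype.ofFinite P
  obtain ⟨d₂, h12, -, -, hrad⟩ := C.exists_degree_one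
  obtain ⟨b, hb⟩ : ∃ b : ℕ, ∀ (θ : P → ℂ) (ν : gam P 2 →* ℂˣ) (d : ℕ), Cfsg.IsIrrCharacter P θ →
      ν ∈ Dual P 2 → ν ≠ 1 → θ 1 = d → (∀ t : gam P 2, θ ⟨t, gam_le P 2 t.2⟩ = (ν t : ℂ) * θ 1) →
        (DefectOne.inertia P θ).index * d = b := by
    by_cases hX : layerKer P = ⊤
    · refine ⟨0, fun θ ν d _ hν hne _ _ => absurd ?_ hne⟩
      refine MonoidHom.ext fun t => ?_
      have ht : t = 1 := Subtype.ext (Subgroup.mem_bot.1 (C.gam_two_eq_bot hX ▸ t.2))
      rw [ht, map_one, map_one]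
    by_cases hex : ∃ ν ∈ Dual P 2, ν ≠ 1
    · obtain ⟨ν₀, hν₀, hne₀⟩ := hex
      obtain ⟨d₀, hm₀, hsq₀, h10⟩ := C.exists_degree_layer_two hX hν₀ hne₀
      refine ⟨(TwoDegrees73.stab (gam P 2) ν₀).index * d₀, fun θ ν d hθ hν hne hd hover => ?_⟩
      obtain ⟨hsq, hin⟩ := C.layer_two_char hX hν hne hθ hover hd
      rw [hin, Nat.pow_left_injective two_ne_zero (hsq.trans hsq₀.symm)]
      congr 2
      ext z
      rcases C.layer_two_dichotomy hX z with h | h
      · exact iff_of_true (h ν hν) (h ν₀ hν₀)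
      · exact iff_of_false (fun hz => hne (h ν hν hz)) fun hz => hne₀ (h ν₀ hν₀ hz)
    · push Not at hex
      exact ⟨0, fun θ ν d _ hν hne _ _ => absurd (hex ν hν) hne⟩
  refine ⟨(layerKer P).index * d₂, b, fun c hc => ?_⟩
  obtain ⟨χ, hχ, hχ1, -⟩ := DegreeGraph.exists_of_mem hc
  obtain ⟨θ, hθ, hcon⟩ := DegreeGraph.exists_under P hχ
  obtain ⟨d, hd0, hd⟩ := exists_degree_pos hθ
  have hcd := C.degree_of_constituent hχ hθ hcon hχ1 hd
  by_cases hd1 : d = 1
  · subst hd1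
    rw [mul_one] at hcd
    obtain ⟨l, hl⟩ := exists_hom_of_degree_one (isCharacter_of_isIrr hθ) (by rw [hd, Nat.cast_one])
    have hst : TwoDegrees73.stab P l = DefectOne.inertia P θ :=
      Subgroup.ext fun x => (TwoDegrees73.mem_stab_iff_conjBy P).trans (by rw [hl]; rfl)
    by_cases hg : ∃ g, g ∉ P ∧ g ∈ TwoDegrees73.stab P l
    · obtain ⟨g, hg, hgs⟩ := hg
      left
      rw [hcd, ← hst, C.base.linear_invariant l hg hgs, Subgroup.index_top]
    · push Not at hg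
      right; left
      rw [hcd, ← hst]
      exact congrArg Subgroup.index (le_antisymm (fun x hx => by_contra fun h => hg x h hx)
        (hst ▸ DefectOne.le_inertia P (isClassFunction_of_isIrr hθ)))
  obtain ⟨ν, hν, hover⟩ := exists_dual_over hθ 2 (fun z => by
    refine congrArg θ (Subtype.ext ?_)
    exact Subgroup.mem_bot.1 (C.gam_three_eq_bot' ▸ z.2))
  by_cases hne : ν = 1
  swap
  · exact Or.inr (Or.inr (Or.inr (hcd.trans (hb θ ν d hθ hν hne hd hover))))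
  obtain ⟨μ, hμ, hover1⟩ := exists_dual_over hθ 1 (fun z => by
    rw [hover z, hne, MonoidHom.one_apply, Units.val_one, one_mul])
  by_cases hμ1 : μ = 1
  · exfalso
    refine hd1 ?_
    obtain ⟨ψ, hψ, hψθ⟩ := exists_irr_quotient (commutator P) hθ fun z hz => by
      have h1 : (z : G) ∈ gam P 1 :=
        (Subgroup.map_subtype_commutator P).le (Subgroup.mem_map_of_mem _ hz)
      have := hover1 ⟨z, h1⟩
      rw [hμ1, MonoidHom.one_apply, Units.val_one, one_mul] at this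
      exact this
    haveI := Fintype.ofFinite (P ⧸ commutator P)
    have h2 : ψ 1 = 1 := OddOrderChar.irr_degree_one_of_comm
      (fun x y => @mul_comm (Abelianization P) _ x y) ⟨ψ, hψ⟩
    rw [hψθ 1, QuotientGroup.mk_one, h2] at hd
    exact_mod_cast hd.symm
  · obtain ⟨hsq, hin⟩ := C.layer_one_char ⟨μ, hμ⟩ (fun e => hμ1 (congrArg Subtype.val e)) hθ hover1 hd
    rw [hrad ⟨μ, hμ⟩ (fun e => hμ1 (congrArg Subtype.val e))] at hsq
    rw [hin, C.stab_eq_layerKer hμ hμ1, Nat.pow_left_injective two_ne_zero hsq] at hcd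
    exact Or.inr (Or.inr (Or.inl hcd))

/-- The degree over the first layer is a proper divisor of the index of every abelian subgroup
central modulo the derived subgroup. -/
theorem degree_one_lt {d : ℕ} (h1 : 1 < d)
    (hd : ∀ μ : Dual P 1, μ ≠ 1 → (rad μ).relIndex P = d ^ 2) (A : Subgroup G) (hA : A ≤ K0 P)
    (hAc : ∀ a ∈ A, ∀ b ∈ A, a * b = b * a) : d ∣ A.relIndex P ∧ d < A.relIndex P := by
  classical
  haveI := Fintype.ofFinite P
  obtain ⟨m, hm, hm0⟩ := C.exists_notMem_K0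
  have hmP : m ∈ P := C.Q_le hm
  obtain ⟨μ, hμ⟩ := C.exists_dual_ne
  set N := (gam P 2).subgroupOf P
  haveI : N.Normal := Subgroup.normal_subgroupOf
  haveI := Fintype.ofFinite (P ⧸ N)
  obtain ⟨ψ, hψ, hover⟩ := exists_over_layer μ.2
  obtain ⟨d', -, hd'⟩ := exists_degree_pos hψ
  obtain ⟨hsq, -⟩ := C.layer_one_char μ hμ hψ hover hd'
  rw [hd μ hμ] at hsq
  have hdd : d' = d := Nat.pow_left_injective two_ne_zero hsq
  subst hdd
  obtain ⟨φ, hφ, hφψ⟩ := exists_irr_quotient N hψ (fun z hz => by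
    have hz2 : (z : G) ∈ gam P 2 := Subgroup.mem_subgroupOf.1 hz
    have h := hover ⟨z, gam_succ_le P 1 hz2⟩
    rw [μ.2 ⟨z, gam_succ_le P 1 hz2⟩ hz2, Units.val_one, one_mul] at h
    exact h)
  set π := QuotientGroup.mk' N
  let gens : Set P := {x | (x : G) ∈ A ∨ (x : G) ∈ ⁅P, P⁆ ∨ (x : G) = m}
  let S : Subgroup P := Subgroup.closure gens
  have hSP : commutator P ≤ S := fun x hx => Subgroup.subset_closure
    (Or.inr (Or.inl ((Subgroup.map_subtype_commutator P).le (Subgroup.mem_map_of_mem _ hx))))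
  haveI : S.Normal := Subgroup.Normal.of_commutator_le _ hSP
  haveI : (S.map π).Normal := ‹S.Normal›.map π (QuotientGroup.mk'_surjective N)
  have hgen : ∀ x ∈ gens, ∀ y ∈ gens, ⁅(x : G), (y : G)⁆ ∈ gam P 2 := by
    have hPP : ∀ u ∈ ⁅P, P⁆, ∀ y ∈ P, ⁅u, y⁆ ∈ gam P 2 := fun u hu y hy =>
      Subgroup.commutator_mem_commutator hu hy
    have hsw : ∀ u v : G, ⁅u, v⁆ ∈ gam P 2 → ⁅v, u⁆ ∈ gam P 2 := fun u v h => by
      rw [← commutatorElement_inv]; exact inv_mem h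
    have hmK : ∀ a ∈ A, ⁅m, a⁆ ∈ gam P 2 := fun a ha => by
      obtain ⟨u, hu, c, hc, rfl⟩ := C.K0_eq (hA ha)
      rw [show ⁅m, u * c⁆ = ⁅m, u⁆ * (u * ⁅m, c⁆ * u⁻¹) by group]
      exact mul_mem (hsw _ _ (hPP u hu m hmP)) ((gam_normal P 2).conj_mem _
        (C.commutator_centralizer_le (Subgroup.commutator_mem_commutator hm hc)) u)
    rintro x (hx | hx | hx) y (hy | hy | hy)
    · rw [commutatorElement_eq_one_iff_mul_comm.2 (hAc _ hx _ hy)]; exact one_mem _
    · exact hsw _ _ (hPP _ hy _ x.2)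
    · rw [hy]; exact hsw _ _ (hmK _ hx)
    · exact hPP _ hx _ y.2
    · exact hPP _ hx _ y.2
    · exact hPP _ hx _ y.2
    · rw [hx]; exact hmK _ hy
    · exact hsw _ _ (hPP _ hy _ x.2)
    · rw [hx, hy, commutatorElement_self]; exact one_mem _
  have hcomm : ∀ a ∈ S.map π, ∀ b ∈ S.map π, a * b = b * a := by
    have h1 : S.map π ≤ Subgroup.centralizer (π '' gens) := by
      rw [MonoidHom.map_closure, Subgroup.closure_le]
      rintro _ ⟨x, hx, rfl⟩
      rw [SetLike.mem_coe, Subgroup.mem_centralizer_iff]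
      rintro _ ⟨y, hy, rfl⟩
      rw [← commutatorElement_eq_one_iff_mul_comm, ← map_commutatorElement, QuotientGroup.mk'_apply,
        QuotientGroup.eq_one_iff, Subgroup.mem_subgroupOf]
      exact hgen y hy x hx
    have h2 : π '' gens ⊆ Subgroup.centralizer (S.map π : Set (P ⧸ N)) := fun x hx =>
      Subgroup.mem_centralizer_iff.2 fun y hy =>
        (Subgroup.mem_centralizer_iff.1 (h1 hy) x hx).symm
    intro a ha b hb
    have h3 : S.map π ≤ Subgroup.centralizer (S.map π : Set (P ⧸ N)) := by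
      conv_lhs => rw [MonoidHom.map_closure]
      exact (Subgroup.closure_le _).2 h2
    exact (Subgroup.mem_centralizer_iff.1 (h3 ha) b hb).symm
  obtain ⟨e, he, hdvd⟩ := GaloisAverage.exists_degree_dvd_index hφ (S.map π) hcomm
  have hed : e = d' := by
    have : (e : ℂ) = d' := by rw [← he, ← QuotientGroup.mk_one, ← hφψ, hd']
    exact_mod_cast this
  subst hed
  have hNS : π.ker ≤ S := by
    rw [QuotientGroup.ker_mk']
    exact fun x hx => Subgroup.subset_closure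
      (Or.inr (Or.inl (gam_succ_le P 1 (Subgroup.mem_subgroupOf.1 hx))))
  rw [Subgroup.index_map_eq S (QuotientGroup.mk'_surjective N) hNS] at hdvd
  have hlt : A.subgroupOf P < S := by
    refine lt_of_le_of_ne (fun x hx => Subgroup.subset_closure (Or.inl (Subgroup.mem_subgroupOf.1 hx)))
      fun e => hm0 (hA ?_)
    exact Subgroup.mem_subgroupOf.1 (e ▸ Subgroup.subset_closure (Or.inr (Or.inr rfl)) :
      (⟨m, hmP⟩ : P) ∈ A.subgroupOf P)
  have hpos : 0 < S.index := Nat.pos_of_ne_zero Subgroup.index_ne_zero_of_finite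
  refine ⟨hdvd.trans (Subgroup.index_dvd_of_le hlt.le), lt_of_le_of_lt (Nat.le_of_dvd hpos hdvd) ?_⟩
  exact Subgroup.index_strictAnti hlt

section NotTop

variable (hX : layerKer P ≠ ⊤)

include hX

theorem pow_mem_K0 {g : G} (hg : g ∈ P) : g ^ p ∈ K0 P := by
  haveI := Fact.mk C.prime
  obtain ⟨μ, hμ⟩ := C.exists_dual_ne
  haveI : Finite (gam P 1 →* ℂˣ) := TwoComponents73.finite_hom
  -- a character of order `p`
  obtain ⟨e, he⟩ := IsPGroup.iff_card.1 (C.pgroup.to_le (gam_le P 1))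
  have hpow : μ ^ p ^ e = 1 := Subtype.ext (MonoidHom.ext fun t => by
    rw [SubmonoidClass.coe_pow, MonoidHom.pow_apply, ← map_pow, ← he, pow_card_eq_one', map_one]
    rfl)
  obtain ⟨j, -, hj⟩ := (Nat.dvd_prime_pow C.prime).1 (orderOf_dvd_of_pow_eq_one hpow)
  obtain ⟨i, rfl⟩ : ∃ i, j = i + 1 := ⟨j - 1, by
    have : j ≠ 0 := fun h => hμ (orderOf_eq_one_iff.1 (by rw [hj, h, pow_zero]))
    omega⟩
  set μ₀ := μ ^ p ^ i
  have hμ₀ : μ₀ ≠ 1 := fun h => by
    have h2 := orderOf_dvd_of_pow_eq_one h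
    rw [hj] at h2
    exact absurd (Nat.le_of_dvd (pow_pos C.prime.pos i) h2)
      (not_le.2 (Nat.pow_lt_pow_right C.prime.one_lt (Nat.lt_succ_self i)))
  have hμ₀p : μ₀ ^ p = 1 := by
    rw [← pow_mul, ← pow_succ, ← hj, pow_orderOf_eq_one]
  rw [← C.rad_eq_K0 hX hμ₀]
  refine ⟨P.pow_mem hg p, fun w hw h => ?_⟩
  let φ : P →* ℂˣ := MonoidHom.mk'
    (fun x => (μ₀ : gam P 1 →* ℂˣ) ⟨⁅(x : G), w⁆, Subgroup.commutator_mem_commutator x.2 hw⟩)
    fun a b => by
      have hb : ⁅(b : G), w⁆ ∈ gam P 1 := Subgroup.commutator_mem_commutator b.2 hw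
      have hs := (TwoDegrees73.mem_stab _).1 (le_stab μ₀.2 a.2) ⟨_, hb⟩
      rw [← hs, mul_comm ((μ₀ : gam P 1 →* ℂˣ) _), ← map_mul]
      refine congrArg _ (Subtype.ext ?_)
      show ⁅(a : G) * b, w⁆ = (a : G) * ⁅(b : G), w⁆ * (a : G)⁻¹ * ⁅(a : G), w⁆
      group
  have h1 : φ (⟨g, hg⟩ ^ p) = 1 := by
    rw [map_pow]
    exact DFunLike.congr_fun ((SubmonoidClass.coe_pow μ₀ p).symm.trans (congrArg Subtype.val hμ₀p)) _
  exact h1

theorem pow_mem_two {u : G} (hu : u ∈ gam P 1) : u ^ p ∈ gam P 2 := by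
  refine mem_of_forall_dual (n := 1) ((gam P 1).pow_mem hu p) fun μ hμ => ?_
  by_cases hne : μ = 1
  · rw [hne]; rfl
  obtain ⟨g, hg, hg0⟩ := C.exists_notMem_K0
  have hgP := C.Q_le hg
  obtain ⟨w, hw, rfl⟩ := C.exists_comm hgP hg0 hu
  let φ : P →* ℂˣ := MonoidHom.mk'
    (fun x => μ ⟨⁅(x : G), w⁆, Subgroup.commutator_mem_commutator x.2 hw⟩)
    fun a b => by
      have hb : ⁅(b : G), w⁆ ∈ gam P 1 := Subgroup.commutator_mem_commutator b.2 hw
      have hs := (TwoDegrees73.mem_stab _).1 (le_stab hμ a.2) ⟨_, hb⟩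
      rw [← hs, mul_comm (μ _), ← map_mul]
      refine congrArg _ (Subtype.ext ?_)
      show ⁅(a : G) * b, w⁆ = (a : G) * ⁅(b : G), w⁆ * (a : G)⁻¹ * ⁅(a : G), w⁆
      group
  have h1 : φ (⟨g, hgP⟩ ^ p) = φ ⟨g, hgP⟩ ^ p := map_pow φ _ p
  have h2 : φ (⟨g, hgP⟩ ^ p) = 1 := by
    have h3 := C.pow_mem_K0 hX hgP
    rw [← C.rad_eq_K0 hX (μ := ⟨μ, hμ⟩) (fun e => hne (congrArg Subtype.val e))] at h3
    exact h3.2 w hw _
  rw [h1] at h2
  refine Eq.trans ?_ h2
  show μ _ = μ _ ^ p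
  rw [← map_pow]
  rfl

theorem pow_two_eq_one {z : G} (hz : z ∈ gam P 2) : z ^ p = 1 := by
  have h3 := C.gam_three_eq_bot'
  have hc : ∀ a ∈ gam P 2, ∀ b ∈ P, a * b = b * a := fun a ha b hb =>
    commutatorElement_eq_one_iff_mul_comm.1 (Subgroup.mem_bot.1
      (h3 ▸ Subgroup.commutator_mem_commutator ha hb : ⁅a, b⁆ ∈ (⊥ : Subgroup G)))
  let S : Subgroup G :=
    { carrier := {a | a ∈ gam P 2 ∧ a ^ p = 1}
      one_mem' := ⟨one_mem _, one_pow p⟩
      mul_mem' := fun {a b} ha hb => ⟨mul_mem ha.1 hb.1, by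
        rw [(show Commute a b from hc a ha.1 b (gam_le P 2 hb.1)).mul_pow, ha.2, hb.2, one_mul]⟩
      inv_mem' := fun {a} ha => ⟨inv_mem ha.1, by rw [inv_pow, ha.2, inv_one]⟩ }
  have hle : gam P 2 ≤ S := by
    refine Subgroup.commutator_le.2 fun u hu m hm => ⟨Subgroup.commutator_mem_commutator hu hm, ?_⟩
    have hum : ⁅u, m⁆ ∈ gam P 2 := Subgroup.commutator_mem_commutator hu hm
    have hcu : Commute ⁅u, m⁆ u := hc _ hum u (gam_le P 1 hu)
    have hpow : ∀ k : ℕ, ⁅u ^ k, m⁆ = ⁅u, m⁆ ^ k := fun k => by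
      induction k with
      | zero => simp
      | succ k ih =>
        calc ⁅u ^ (k + 1), m⁆ = u * ⁅u ^ k, m⁆ * u⁻¹ * ⁅u, m⁆ := by rw [pow_succ']; group
          _ = ⁅u, m⁆ ^ (k + 1) := by
            rw [ih, ← (hcu.pow_left k).eq, mul_inv_cancel_right, pow_succ]
    rw [← hpow, commutatorElement_eq_one_iff_mul_comm]
    exact hc _ (C.pow_mem_two hX hu) m hm
  exact (hle hz).2

theorem exists_lift {u : G} (hu : u ∈ gam P 1) : ∃ v ∈ gam P 1, u⁻¹ * v ∈ gam P 2 ∧ v ^ p = 1 := by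
  obtain ⟨x, hxH, hx1, hxX⟩ := C.exists_mem_layerKer
  set A := Subgroup.zpowers x
  have hAH : A ≤ H := Subgroup.zpowers_le.2 hxH
  obtain ⟨c, hc, hcN⟩ := Coprime.exists_fixed_mem_coset (A := A) (N := gam P 2)
    Subgroup.le_normalizer_of_normal
    ((C.coprime_H.coprime_dvd_left (Subgroup.card_dvd_of_le hAH)).coprime_dvd_right
      (Subgroup.card_dvd_of_le (gam_le P 2)))
    (Or.inl (Group.isSolvable_of_comm fun a b => Subtype.ext (C.H_comm (hAH a.2) (hAH b.2)))) (k := u) (fun a ha => by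
      have haX : a ∈ layerKer P := (Subgroup.zpowers_le.2 hxX : A ≤ layerKer P) ha
      have h := trivial_of_dual (n := 1) (mem_layerKer_iff.1 haX) hu
      have := (gam_normal P 2).conj_mem _ h u⁻¹
      simpa [commutatorElement_def, mul_assoc] using this)
  have hcm : c ∈ gam P 1 := by
    have := mul_mem hu (gam_succ_le P 1 hcN)
    rwa [mul_inv_cancel_left] at this
  refine ⟨c, hcm, hcN, ?_⟩
  have h := fixed_mem (n := 2) (z := x) (C.pow_mem_two hX hcm) ?_ (C.fpf_two hX hxH hx1 hxX)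
  · exact Subgroup.mem_bot.1 (C.gam_three_eq_bot' ▸ h)
  · have hxc : Commute x c := Subgroup.mem_centralizer_iff.1 hc x (Subgroup.mem_zpowers x)
    rw [commutatorElement_eq_one_iff_mul_comm.2 (hxc.pow_right p).eq]
    exact one_mem _

theorem pow_mem_two_of_odd (hp2 : p ≠ 2) {g : G} (hg : g ∈ ⁅P, H⁆) : g ^ p ∈ gam P 2 := by
  haveI := C.Q_normal
  obtain ⟨x, hxH, hx1, hxX⟩ := C.exists_mem_layerKer
  set π := QuotientGroup.mk' (gam P 2) with hπ
  obtain ⟨k, hk, t, ht, e⟩ := C.exists_comm_mul (C.notMem hxH hx1) hg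
  obtain ⟨q, hq, c, hc, rfl⟩ := C.exists_mul hk
  have e2 : g = x * q * x⁻¹ * q⁻¹ * t := by
    rw [e, show x * (q * c) * x⁻¹ = x * q * x⁻¹ * (x * c * x⁻¹) by group, C.conj_fixed hc hxH]
    group
  have hqP : q ∈ P := C.Q_le hq
  have hzero : ∀ u ∈ gam P 2, π u = 1 := fun u hu => (QuotientGroup.eq_one_iff u).2 hu
  have hcentral : ∀ u ∈ gam P 1, ∀ y ∈ P, Commute (π u) (π y) := fun u hu y hy => by
    rw [← commutatorElement_eq_one_iff_commute, ← map_commutatorElement]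
    exact hzero _ (Subgroup.commutator_mem_commutator hu hy)
  have hpw : ∀ u ∈ gam P 1, π u ^ p = 1 := fun u hu => by
    rw [← map_pow]; exact hzero _ (C.pow_mem_two hX hu)
  have hxq : x * q * x⁻¹ ∈ P := hP.conj_mem q hqP x
  have hchoose : p ∣ p.choose 2 := C.prime.dvd_choose_self two_ne_zero
    (lt_of_le_of_ne C.prime.two_le (Ne.symm hp2))
  -- powers of products in `P` modulo `γ₃`
  have hmul : ∀ a ∈ P, ∀ b ∈ P, π (a * b) ^ p = π a ^ p * π b ^ p := fun a ha b hb => by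
    have hu : ⁅b, a⁆ ∈ gam P 1 := Subgroup.commutator_mem_commutator hb ha
    have hS : ∀ y ∈ (P.map π), Commute ⁅π b, π a⁆ y := by
      rintro _ ⟨y, hy, rfl⟩
      rw [← map_commutatorElement]
      exact hcentral _ hu y hy
    let A : P.map π := ⟨π a, Subgroup.mem_map_of_mem π ha⟩
    let B : P.map π := ⟨π b, Subgroup.mem_map_of_mem π hb⟩
    have h := congrArg Subtype.val (mul_pow_of_central A B (fun y => Subtype.ext (hS y y.2)) p)
    obtain ⟨i, hi⟩ := hchoose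
    simp only [Subgroup.coe_mul, SubmonoidClass.coe_pow] at h
    rw [map_mul]
    refine h.trans ?_
    rw [show ((⁅B, A⁆ : P.map π) : G ⧸ gam P 2) = π ⁅b, a⁆ from (map_commutatorElement π b a).symm,
      hi, pow_mul, hpw _ hu, one_pow, mul_one]
  have htP : t ∈ P := Subgroup.commutator_le_self P ht
  rw [← QuotientGroup.eq_one_iff, ← QuotientGroup.mk'_apply, ← hπ, map_pow, e2,
    hmul _ (P.mul_mem hxq (P.inv_mem hqP)) _ htP, hmul _ hxq _ (P.inv_mem hqP), hpw t ht, mul_one]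
  have hqp : q ^ p ∈ gam P 1 :=
    C.Q_inf_K0 ((⁅P, H⁆).pow_mem hq p) (C.pow_mem_K0 hX hqP)
  have h2 : π (⁅x, q ^ p⁆) = 1 := hzero _ (trivial_of_dual (n := 1) (mem_layerKer_iff.1 hxX) hqp)
  rw [← map_pow, ← map_pow, ← map_mul, conj_pow, inv_pow,
    show x * q ^ p * x⁻¹ * (q ^ p)⁻¹ = ⁅x, q ^ p⁆ from rfl, h2]

end NotTop

end Core

end CfsgLib.NoDivDegrees
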