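import Cfsg.Agent.DegreeGraph.Components

/-!
# Groups in which no nonlinear character degree divides another
-/

set_option autoImplicit false

namespace CfsgLib.NoDivDegrees

universe u

/-- No nonlinear character degree properly divides another. -/
def ND (G : Type u) [Group G] : Prop :=
  ∀ a ∈ Cfsg.charDegrees G, ∀ b ∈ Cfsg.charDegrees G, 1 < a → a < b → ¬ a ∣ b

variable {G : Type u} [Group G] [Fintype G]

/-- Comparable nonlinear degrees are equal. -/
theorem ND.eq_of_dvd (h : ND G) {a b : ℕ} (ha : a ∈ Cfsg.charDegrees G)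
    (hb : b ∈ Cfsg.charDegrees G) (ha1 : 1 < a) (hab : a ∣ b) : a = b :=
  (Nat.le_of_dvd (DegreeGraph.pos_of_mem hb) hab).eq_or_lt.resolve_right fun hlt => h a ha b hb ha1 hlt hab

/-- Quotients inherit the hypothesis. -/
theorem ND.quotient (h : ND G) (N : Subgroup G) [N.Normal] : ND (G ⧸ N) :=
  haveI := Fintype.ofFinite N
  fun a ha b hb => h a (DegreeGraph.charDegrees_quotient_subset N ha) b (DegreeGraph.charDegrees_quotient_subset N hb)

end CfsgLib.NoDivDegrees
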