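import Cfsg.Agent.NoDivDegrees.Trick
import Cfsg.Agent.DegreeGraph.Components

/-!
# Passing the base data to quotients
-/

set_option autoImplicit false
set_option linter.style.haveILetI false
set_option linter.unusedSectionVars false

namespace CfsgLib.NoDivDegrees

open CfsgLib.Characters CfsgLib.OddOrderChar CfsgLib.CharactersDeep
open scoped commutatorElement

universe u

variable {G : Type u} [Group G] [Fintype G] {K : Subgroup G} [hKn : K.Normal]

/-- The base data pass to a quotient in which `K / K'` still is moved. -/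
theorem Base.quotient (B : Base K) (N : Subgroup G) [hNn : N.Normal] (hNK : N ≤ K)
    (hmov : ∃ g : G, ∃ k ∈ K, ⁅g, k⁆ ∉ ⁅K, K⁆ ⊔ N) :
    @Base (G ⧸ N) _ (K.map (QuotientGroup.mk' N))
      (hKn.map _ (QuotientGroup.mk'_surjective N)) := by
  classical
  set π := QuotientGroup.mk' N with hπdef
  have hπ : Function.Surjective π := QuotientGroup.mk'_surjective N
  haveI : (K.map π).Normal := hKn.map π hπ
  haveI := Fintype.ofFinite (G ⧸ N)
  have hidx : (K.map π).index = K.index :=
    Subgroup.index_map_eq K hπ (by rwa [hπdef, QuotientGroup.ker_mk'])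
  obtain ⟨g, k, hk, hgk⟩ := hmov
  have hne : ⁅π g, π k⁆ ∉ ⁅K.map π, K.map π⁆ := fun h => hgk (by
    rw [← map_commutatorElement, ← Subgroup.map_commutator] at h
    have h1 : ⁅g, k⁆ ∈ (⁅K, K⁆.map π).comap π := h
    rwa [Subgroup.comap_map_eq, hπdef, QuotientGroup.ker_mk'] at h1)
  refine ⟨B.nd.quotient N, ?_, ?_, hidx ▸ B.one_lt, ?_, π g, π k, Subgroup.mem_map_of_mem π hk, hne⟩
  · intro q hq M hM n hn a b
    obtain ⟨a, rfl⟩ := hπ a
    obtain ⟨b, rfl⟩ := hπ b
    rw [← map_commutatorElement]
    exact B.noq q hq (M.comap π) (hM.comap π) n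
      (by rw [Subgroup.index_comap_of_surjective M hπ, hn]) a b
  · haveI := B.cyc
    let ρ : G ⧸ N →* G ⧸ K := QuotientGroup.map N K (MonoidHom.id G) hNK
    have hρ : Function.Surjective ρ := fun y => by
      induction y using QuotientGroup.induction_on with
      | _ y => exact ⟨(y : G ⧸ N), rfl⟩
    have hker : ρ.ker = K.map π := by
      ext y
      obtain ⟨y, rfl⟩ := hπ y
      rw [MonoidHom.mem_ker]
      refine ⟨fun h => Subgroup.mem_map_of_mem π ((QuotientGroup.eq_one_iff y).1 h),
        fun h => ?_⟩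
      obtain ⟨z, hz, e⟩ := h
      rw [← e]
      exact (QuotientGroup.eq_one_iff z).2 hz
    exact isCyclic_of_surjective
      ((QuotientGroup.quotientMulEquivOfEq hker).symm.trans
        (QuotientGroup.quotientKerEquivOfSurjective ρ hρ)).symm.toMonoidHom
      (MulEquiv.surjective _)
  · -- a nonlinear degree of the quotient by the derived subgroup of the image
    set D := ⁅K.map π, K.map π⁆
    set π' := QuotientGroup.mk' D
    haveI := Fintype.ofFinite ((G ⧸ N) ⧸ D)
    haveI := Fintype.ofFinite D
    obtain ⟨β, hβ⟩ : ∃ β : Cfsg.IrrCharacter ((G ⧸ N) ⧸ D),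
        (β : (G ⧸ N) ⧸ D → ℂ) 1 ≠ 1 := by
      by_contra hall
      push Not at hall
      apply hne
      rw [← QuotientGroup.eq_one_iff, ← QuotientGroup.mk'_apply, map_commutatorElement,
        commutatorElement_eq_one_iff_mul_comm]
      exact PrimePowerDegrees.comm_of_linear hall _ _
    haveI : ((K.map π).map π').Normal := Subgroup.Normal.map ‹_› π' (QuotientGroup.mk'_surjective D)
    obtain ⟨d, hd, hdvd⟩ := GaloisAverage.exists_degree_dvd_index β.2 ((K.map π).map π') (by
      rintro _ ⟨a, ha, rfl⟩ _ ⟨b, hb, rfl⟩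
      rw [← commutatorElement_eq_one_iff_mul_comm, ← map_commutatorElement,
        QuotientGroup.mk'_apply, QuotientGroup.eq_one_iff]
      exact Subgroup.commutator_mem_commutator ha hb)
    have hmem := DegreeGraph.charDegrees_quotient_subset D (DegreeGraph.mem_charDegrees β.2 hd)
    have hd1 : 1 < d := by
      have h1 : d ≠ 1 := fun e => hβ (by rw [hd, e, Nat.cast_one])
      have h0 := DegreeGraph.pos_of_mem hmem
      omega
    rw [Subgroup.index_map_eq _ (QuotientGroup.mk'_surjective D)
      (by rw [QuotientGroup.ker_mk']; exact Subgroup.commutator_le_self _), hidx] at hdvd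
    have hfd := B.nd.eq_of_dvd (DegreeGraph.charDegrees_quotient_subset N hmem) B.mem hd1 hdvd
    rw [hidx, ← hfd]
    exact hmem

end CfsgLib.NoDivDegrees
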