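import Cfsg.Agent.NoDivDegrees.LOne.Count
import Cfsg.Agent.NoDivDegrees.LOne.Nondeg
import Cfsg.Agent.NoDivDegrees.Quot

/-!
# The case of a derived subgroup of order prime to `[K : K0]`

Then the derived subgroup of `K` is abelian and there is at most one further degree.
-/

set_option autoImplicit false
set_option linter.style.haveILetI false
set_option linter.unusedSectionVars false

namespace CfsgLib.NoDivDegrees

open CfsgLib.Characters CfsgLib.OddOrderChar CfsgLib.CharactersDeep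
open scoped commutatorElement

universe u

namespace LOne

variable {G : Type u} [Group G] [Fintype G] {K : Subgroup G} [K.Normal]

theorem commutator_map (V : Subgroup G) [V.Normal] (H : Subgroup G) :
    ⁅H.map (QuotientGroup.mk' V), H.map (QuotientGroup.mk' V)⁆ = (⁅H, H⁆).map (QuotientGroup.mk' V) :=
  (Subgroup.map_commutator H H _).symm

/-- The hypothesis passes to quotients by normal subgroups of the derived subgroup. -/
theorem quotient (B : Base K)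
    (h : ∀ p : ℕ, p.Prime → p ∣ (K0 K).relIndex K → ¬ p ∣ Nat.card (⁅K, K⁆ : Subgroup G))
    (V : Subgroup G) [V.Normal] (hV : V ≤ ⁅K, K⁆) [(K.map (QuotientGroup.mk' V)).Normal] :
    Base (K.map (QuotientGroup.mk' V)) ∧
      ∀ p : ℕ, p.Prime → p ∣ (K0 (K.map (QuotientGroup.mk' V))).relIndex (K.map (QuotientGroup.mk' V)) →
        ¬ p ∣ Nat.card (⁅K.map (QuotientGroup.mk' V), K.map (QuotientGroup.mk' V)⁆ : Subgroup (G ⧸ V)) := by
  classical
  haveI := Fintype.ofFinite (G ⧸ V)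
  set π := QuotientGroup.mk' V with hπdef
  have hπ : Function.Surjective π := QuotientGroup.mk'_surjective V
  set K' := K.map π with hK'
  have hVK : V ≤ K := hV.trans (Subgroup.commutator_le_self K)
  have hcm : ⁅K', K'⁆ = (⁅K, K⁆).map π := commutator_map V K
  have hK0 : (K0 K).map π ≤ K0 K' := by
    rintro _ ⟨k, hk, rfl⟩
    refine (mem_K0 K').2 ⟨Subgroup.mem_map_of_mem π (K0_le K hk), fun y => ?_⟩
    obtain ⟨g, rfl⟩ := hπ y
    rw [← map_commutatorElement, hcm]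
    exact Subgroup.mem_map_of_mem π (((mem_K0 K).1 hk).2 g)
  have hB : Base K' := B.quotient V hVK (by
    rw [sup_eq_left.2 hV]; exact B.moved)
  refine ⟨hB, fun p hp hpd hpc => h p hp (hpd.trans ?_) (hpc.trans ?_)⟩
  · calc (K0 K').relIndex K' ∣ ((K0 K).map π).relIndex K' := Subgroup.relIndex_dvd_of_le_left _ hK0
      _ ∣ (K0 K).relIndex K := by
        rw [hK', Subgroup.relIndex_map_map]
        exact dvd_of_eq (by
          rw [hπdef, QuotientGroup.ker_mk', sup_eq_left.2 (hV.trans (commutator_le_K0 K)),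
            sup_eq_left.2 hVK])
  · rw [hcm]
    exact Subgroup.card_map_dvd _ _

/-- The second derived subgroup cannot be a unique minimal normal subgroup inside the first. -/
theorem false_of_minimal [Group.IsSolvable G] (B : Base K)
    (h : ∀ p : ℕ, p.Prime → p ∣ (K0 K).relIndex K → ¬ p ∣ Nat.card (⁅K, K⁆ : Subgroup G))
    (hU : ⁅⁅K, K⁆, ⁅K, K⁆⁆ ≠ (⊥ : Subgroup G))
    (hmin : ∀ W : Subgroup G, W.Normal → W ≤ ⁅K, K⁆ → W ≠ ⊥ → ⁅⁅K, K⁆, ⁅K, K⁆⁆ ≤ W) : False := by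
  classical
  obtain ⟨R, M, D, F⟩ := exists_frame B h
  have hN : ⁅K, K⁆ ≠ (⊥ : Subgroup G) := fun e => hU (by rw [e, Subgroup.commutator_bot_left])
  have hne : ⁅⁅K, K⁆, ⁅K, K⁆⁆ ≠ ⁅K, K⁆ := (Group.IsSolvable.commutator_lt_of_ne_bot hN).ne
  obtain ⟨x, hx, hxU⟩ := SetLike.exists_of_lt
    (lt_of_le_of_ne (Subgroup.commutator_le_self ⁅K, K⁆) hne)
  obtain ⟨v, -, hv⟩ := TwoComponents73.exists_lin (commutator ↥⁅K, K⁆) le_rfl
    (a := ⟨x, hx⟩) (fun hm => hxU ((coe_mem_iff _ _).2 hm))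
  obtain ⟨q, hq, hexp⟩ := second_exponent hU hmin
  have hL := sq_le_card B F hmin (second_central hU hmin B F) hU hq hexp hne
  obtain ⟨f, y, hf, hy, hyf, hcount⟩ := count_bound B F ⟨v, fun e => hv (by rw [e]; rfl)⟩
  set n := (K0 K).relIndex K
  set L := Nat.card (↥⁅K, K⁆ →* ℂˣ)
  have hn1 : 1 ≤ n := Nat.one_le_iff_ne_zero.2 Subgroup.index_ne_zero_of_finite
  obtain ⟨w, hw⟩ : ∃ w, L = w + 1 := ⟨L - 1, by
    have : (n + 1) ^ 2 ≥ 1 := Nat.one_le_pow _ _ (Nat.succ_pos _)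
    omega⟩
  rw [hw, Nat.add_sub_cancel] at hcount
  have h1 : (2 * w) ^ 2 ≤ n ^ 2 * (4 * (w + 1)) :=
    calc (2 * w) ^ 2 ≤ (n * (f * (y - 1))) ^ 2 := Nat.pow_le_pow_left hcount 2
      _ = n ^ 2 * (f * (y - 1)) ^ 2 := mul_pow _ _ _
      _ ≤ n ^ 2 * (4 * y ^ f) := Nat.mul_le_mul_left _ (sq_mul_pred_le hf hy)
      _ ≤ n ^ 2 * (4 * (w + 1)) := Nat.mul_le_mul_left _ (Nat.mul_le_mul_left _ (hw ▸ hyf))
  rw [hw] at hL
  nlinarith [Nat.mul_le_mul hn1 hn1]

/-- The derived subgroup of `K` is abelian. -/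
theorem second_eq_bot [Group.IsSolvable G] (B : Base K)
    (h : ∀ p : ℕ, p.Prime → p ∣ (K0 K).relIndex K → ¬ p ∣ Nat.card (⁅K, K⁆ : Subgroup G)) :
    ⁅⁅K, K⁆, ⁅K, K⁆⁆ = (⊥ : Subgroup G) := by
  classical
  by_contra hU
  obtain ⟨V, -, hV⟩ := Finite.exists_le_maximal
    (p := fun W : Subgroup G => W.Normal ∧ W ≤ ⁅K, K⁆ ∧ ¬ ⁅⁅K, K⁆, ⁅K, K⁆⁆ ≤ W) (a := ⊥)
    ⟨inferInstance, bot_le, fun hle => hU (le_bot_iff.1 hle)⟩
  obtain ⟨hVn, hVK, hVU⟩ := hV.prop
  haveI := hVn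
  haveI := Fintype.ofFinite (G ⧸ V)
  haveI hKn : (K.map (QuotientGroup.mk' V)).Normal :=
    Subgroup.Normal.map ‹_› _ (QuotientGroup.mk'_surjective V)
  obtain ⟨B', h'⟩ := quotient B h V hVK
  set π := QuotientGroup.mk' V with hπdef
  refine false_of_minimal B' h' ?_ ?_
  · rw [commutator_map, commutator_map]
    intro he
    refine hVU ?_
    rwa [Subgroup.map_eq_bot_iff, QuotientGroup.ker_mk'] at he
  · intro W hWn hW hW1
    rw [commutator_map, commutator_map] at *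
    have hle : W.comap π ≤ ⁅K, K⁆ := by
      refine (Subgroup.comap_mono hW).trans ?_
      rw [Subgroup.comap_map_eq, hπdef, QuotientGroup.ker_mk', sup_eq_left.2 hVK]
    have hVW : V ≤ W.comap π := fun g hg => by
      rw [Subgroup.mem_comap, hπdef, QuotientGroup.mk'_apply, (QuotientGroup.eq_one_iff g).2 hg]
      exact one_mem _
    have hUW : ⁅⁅K, K⁆, ⁅K, K⁆⁆ ≤ W.comap π := by
      by_contra hnot
      have heq : V = W.comap π := le_antisymm hVW (hV.2 ⟨hWn.comap π, hle, hnot⟩ hVW)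
      refine hW1 ((Subgroup.eq_bot_iff_forall W).2 fun z hz => ?_)
      obtain ⟨g, rfl⟩ := QuotientGroup.mk'_surjective V z
      exact (QuotientGroup.eq_one_iff g).2 (heq ▸ hz)
    exact Subgroup.map_le_iff_le_comap.2 hUW

end LOne

variable {G : Type u} [Group G] [Fintype G] {K : Subgroup G} [K.Normal]

open LOne in
/-- If no prime of `[K : K0]` divides `|K'|` then `K'` is abelian and there is at most one further degree. -/
theorem Base.case_one [Group.IsSolvable G] (B : Base K)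
    (h : ∀ p : ℕ, p.Prime → p ∣ (K0 K).relIndex K → ¬ p ∣ Nat.card (⁅K, K⁆ : Subgroup G)) :
    (∀ x ∈ ⁅K, K⁆, ∀ y ∈ ⁅K, K⁆, x * y = y * x) ∧
      ∃ a, ∀ d ∈ Cfsg.charDegrees G, d = 1 ∨ d = K.index ∨ d = a := by
  classical
  have hU := second_eq_bot B h
  have hab : ∀ x ∈ ⁅K, K⁆, ∀ y ∈ ⁅K, K⁆, x * y = y * x := fun x hx y hy => by
    rw [← commutatorElement_eq_one_iff_mul_comm, ← Subgroup.mem_bot, ← hU]
    exact Subgroup.commutator_mem_commutator hx hy
  refine ⟨hab, ?_⟩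
  obtain ⟨R, M, D, F⟩ := exists_frame B h
  obtain ⟨a, ha⟩ : ∃ a, ∀ v : ↥⁅K, K⁆ →* ℂˣ, v ≠ 1 → (TwoDegrees73.stab ⁅K, K⁆ v).index = a := by
    by_cases hV : ∃ v : ↥⁅K, K⁆ →* ℂˣ, v ≠ 1
    · obtain ⟨a, f, ζ, -, -, -, ha, -⟩ := exists_common B F hV
      exact ⟨a, ha⟩
    · exact ⟨0, fun v hv => absurd ⟨v, hv⟩ hV⟩
  refine ⟨a, fun d hd => ?_⟩
  obtain ⟨χ, hχ, hχ1, hd0⟩ := DegreeGraph.exists_of_mem hd
  rcases Nat.lt_or_ge 1 d with hd1 | hd1
  swap
  · exact Or.inl (by omega)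
  haveI := Fintype.ofFinite ↥⁅K, K⁆
  haveI : IsMulCommutative ↥⁅K, K⁆ := ⟨⟨fun x y => Subtype.ext (hab x x.2 y y.2)⟩⟩
  obtain ⟨θ, hθ, hne⟩ := DegreeGraph.exists_under ⁅K, K⁆ hχ
  obtain ⟨l, rfl⟩ := exists_hom_of_degree_one (isCharacter_of_isIrr hθ) (GaloisAverage.irr_one_eq_one hθ)
  by_cases hl : l = 1
  · -- trivial on the derived subgroup of `K`
    subst hl
    obtain ⟨k, -, hres, -⟩ := CharactersDeep.Clifford.restrict_eq_smul ⁅K, K⁆ hχ hθ (fun g => rfl) hne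
    have hker : ∀ c ∈ ⁅K, K⁆, χ c = χ 1 := fun c hc => by
      have h1 := congrFun hres ⟨c, hc⟩
      have h2 := congrFun hres 1
      simp only [Pi.smul_apply, MonoidHom.one_apply, OneMemClass.coe_one] at h1 h2
      rw [h1, h2]
    obtain ⟨ψ, hψ, hψe⟩ := exists_irr_quotient ⁅K, K⁆ hχ hker
    haveI : (K.map (QuotientGroup.mk' ⁅K, K⁆)).Normal :=
      Subgroup.Normal.map ‹_› _ (QuotientGroup.mk'_surjective _)
    obtain ⟨e, he, hdvd⟩ := GaloisAverage.exists_degree_dvd_index hψ (K.map (QuotientGroup.mk' ⁅K, K⁆)) (by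
      rintro _ ⟨x, hx, rfl⟩ _ ⟨y, hy, rfl⟩
      rw [← commutatorElement_eq_one_iff_mul_comm, ← map_commutatorElement, QuotientGroup.mk'_apply,
        QuotientGroup.eq_one_iff]
      exact Subgroup.commutator_mem_commutator hx hy)
    rw [Subgroup.index_map_eq K (QuotientGroup.mk'_surjective _)
      (by rw [QuotientGroup.ker_mk']; exact Subgroup.commutator_le_self K)] at hdvd
    have hed : e = d := Nat.cast_injective (R := ℂ) (by
      rw [← he, ← hχ1, hψe, QuotientGroup.mk_one])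
    exact Or.inr (Or.inl (B.nd.eq_of_dvd hd B.mem hd1 (hed ▸ hdvd)))
  · obtain ⟨k, hk⟩ := classInner_character_irr
      (isCharacter_restrict ⁅K, K⁆ (isCharacter_of_isIrr hχ)) hθ
    have hdeg := clifford_degree ⁅K, K⁆ hχ hθ (TwoDegrees73.stab ⁅K, K⁆ l)
      (fun g => TwoDegrees73.mem_stab_iff_conjBy _) hne
    rw [hk, ha l hl, hχ1, map_one, Units.val_one, mul_one, ← Nat.cast_mul, Nat.cast_inj] at hdeg
    exact Or.inr (Or.inr (B.nd.eq_of_dvd (ha l hl ▸ index_mem B F l) hd (ha l hl ▸ one_lt_index B F hl)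
      ⟨k, by rw [hdeg, mul_comm]⟩).symm)

end CfsgLib.NoDivDegrees
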