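import Cfsg.Agent.NoDivDegrees.Module

/-!
# The normal `p`-complement meets the derived subgroup trivially
-/

set_option autoImplicit false
set_option linter.style.haveILetI false
set_option linter.unusedSectionVars false
set_option linter.unusedVariables false

namespace CfsgLib.NoDivDegrees

open CfsgLib.Characters CfsgLib.OddOrderChar CfsgLib.CharactersDeep
open scoped ComplexConjugate commutatorElement

universe u

variable {G : Type u} [Group G] [Fintype G] {K : Subgroup G} [hKn : K.Normal] {p : ℕ}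

instance map_mk_normal (L : Subgroup G) [L.Normal] :
    (K.map (QuotientGroup.mk' L)).Normal :=
  hKn.map _ (QuotientGroup.mk'_surjective L)

namespace Base

variable (B : Base K)

include B

/-- A subgroup of `K` of order prime to `p` lies in `K0` when `[K : K0]` is a power of `p`. -/
theorem le_K0 (hp : p.Prime) (honly : ∀ q : ℕ, q.Prime → q ∣ (K0 K).relIndex K → q = p)
    (L : Subgroup G) (hLK : L ≤ K) (hLc : (Nat.card L).Coprime p) : L ≤ K0 K := fun x hx => by
  obtain ⟨e, he⟩ : ∃ e, (K0 K).relIndex K = p ^ e := ⟨_, Nat.eq_prime_pow_of_unique_prime_dvd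
    Subgroup.index_ne_zero_of_finite fun hq hqd => honly _ hq hqd⟩
  haveI : ((K0 K).subgroupOf K).Normal := Subgroup.normal_subgroupOf
  have h1 : orderOf ((⟨x, hLK hx⟩ : K) : K ⧸ (K0 K).subgroupOf K) = 1 := by
    refine Nat.eq_one_of_dvd_coprimes (hLc.pow_right e) ?_ ?_
    · refine (orderOf_map_dvd (QuotientGroup.mk' ((K0 K).subgroupOf K)) ⟨x, hLK hx⟩).trans ?_
      rw [Subgroup.orderOf_mk]
      exact Subgroup.orderOf_dvd_natCard L hx
    · rw [← he, Subgroup.relIndex, Subgroup.index_eq_card]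
      exact orderOf_dvd_natCard _
  exact Subgroup.mem_subgroupOf.1 ((QuotientGroup.eq_one_iff _).1 (orderOf_eq_one_iff.1 h1))

/-- Elements outside `K0` stay outside in the quotient by a subgroup of `K0`. -/
theorem notMem_K0_map {L : Subgroup G} [L.Normal] [Fintype (G ⧸ L)] (hL0 : L ≤ K0 K) {k : G} (hk : k ∈ K)
    (h0 : k ∉ K0 K) : QuotientGroup.mk' L k ∉ K0 (K.map (QuotientGroup.mk' L)) := fun h => by
  obtain ⟨g₀, hg₀, -, -⟩ := B.exists_gen
  refine h0 (B.mem_K0_of_comm hg₀ hk ?_)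
  have h1 := ((mem_K0 _).1 h).2 (QuotientGroup.mk' L g₀)
  rw [← map_commutatorElement, ← Subgroup.map_commutator] at h1
  have h2 : ⁅g₀, k⁆ ∈ (⁅K, K⁆.map (QuotientGroup.mk' L)).comap (QuotientGroup.mk' L) := h1
  rw [Subgroup.comap_map_eq, QuotientGroup.ker_mk'] at h2
  exact sup_le (commutator_le_K0 K) hL0 h2

/-- Outside `K0` a `p`-subgroup meeting `L` trivially acts without fixed points on `L ∩ K'`. -/
theorem eq_one_of_commute [Group.IsSolvable G] (hp : p.Prime) {L : Subgroup G} [L.Normal]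
    (hLK : L ≤ K) (hL0 : L ≤ K0 K) (hLc : (Nat.card L).Coprime p)
    (Bq : Base (K.map (QuotientGroup.mk' L))) {P : Subgroup G} (hPK : P ≤ K) (hP : IsPGroup p P)
    (hlift : ∀ k ∈ K, ∃ y ∈ P, y⁻¹ * k ∈ L) {g : G} (hgP : g ∈ P) (hg0 : g ∉ K0 K) {x : G}
    (hxL : x ∈ L) (hxK : x ∈ ⁅K, K⁆) (hxg : x * g = g * x) : x = 1 := by
  classical
  haveI := Fact.mk hp
  haveI := Fintype.ofFinite K
  set π := QuotientGroup.mk' L with hπ
  haveI := Fintype.ofFinite (G ⧸ L)
  haveI := Fintype.ofFinite (K.map π)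
  have hPL : ∀ y ∈ P, y ∈ L → y = 1 := fun y hy hy' => by
    obtain ⟨i, hi⟩ := IsPGroup.iff_orderOf.1 hP ⟨y, hy⟩
    refine orderOf_eq_one_iff.1 (Nat.eq_one_of_dvd_coprimes (hLc.pow_right i)
      (Subgroup.orderOf_dvd_natCard L hy') ?_)
    rw [← hi, ← Subgroup.orderOf_coe]
  set kk : K := ⟨g, hPK hgP⟩
  set C : Subgroup K := Subgroup.centralizer ({kk} : Set K) with hC
  set f : K →* K.map π := π.subgroupMap K
  have hf : Function.Surjective f := π.subgroupMap_surjective K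
  have hfker : f.ker = L.subgroupOf K := by
    ext y
    rw [MonoidHom.mem_ker, Subgroup.mem_subgroupOf, ← QuotientGroup.eq_one_iff (N := L)]
    exact Subtype.ext_iff
  set L' := L.subgroupOf K with hL'
  set D := commutator K with hD
  haveI : L'.Normal := Subgroup.normal_subgroupOf
  -- the centraliser in the quotient
  have hrange : C.map f = Subgroup.centralizer ({f kk} : Set (K.map π)) := by
    refine le_antisymm ?_ fun b hb => ?_
    · rintro _ ⟨c, hc, rfl⟩
      exact Subgroup.mem_centralizer_singleton_iff.2 (by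
        rw [← map_mul, ← map_mul, Subgroup.mem_centralizer_singleton_iff.1 hc])
    · obtain ⟨k, rfl⟩ := hf b
      obtain ⟨y, hy, hyk⟩ := hlift k k.2
      have hfy : f ⟨y, hPK hy⟩ = f k := Subtype.ext (QuotientGroup.eq.2 hyk)
      refine ⟨⟨y, hPK hy⟩, Subgroup.mem_centralizer_singleton_iff.2 (Subtype.ext ?_), hfy⟩
      have hb' := Subgroup.mem_centralizer_singleton_iff.1 hb
      rw [← hfy, ← map_mul, ← map_mul] at hb'
      have h2 : π (y * g) = π (g * y) := congrArg Subtype.val hb'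
      have h3 := hPL _ (P.mul_mem (P.inv_mem (P.mul_mem hy hgP)) (P.mul_mem hgP hy))
        (QuotientGroup.eq.1 h2)
      exact inv_mul_eq_one.1 h3
  have hcardq : Nat.card (C.map f) = (commutator (K.map π)).index := by
    rw [hrange]
    exact Bq.card_centralizer (k := f kk) (B.notMem_K0_map hL0 (hPK hgP) hg0)
  have hidx : D.index = (commutator (K.map π)).index * D.relIndex L' := by
    have h1 : D ⊔ L' = (commutator (K.map π)).comap f := by
      rw [← hfker, ← Subgroup.comap_map_eq]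
      congr 1
      rw [hD, commutator_def, commutator_def, Subgroup.map_commutator,
        Subgroup.map_top_of_surjective f hf]
    rw [← Subgroup.relIndex_mul_index (le_sup_left : D ≤ D ⊔ L')]
    rw [sup_comm, Subgroup.relIndex_sup_right, mul_comm, sup_comm, h1,
      Subgroup.index_comap_of_surjective _ hf]
  have hcard : Nat.card (C ⊓ L' : Subgroup K) = D.relIndex L' := by
    have h1 := (f.comp C.subtype).ker.card_mul_index
    rw [Subgroup.index_ker] at h1
    have hk : Nat.card (f.comp C.subtype).ker = Nat.card (C ⊓ L' : Subgroup K) := by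
      rw [← Subgroup.card_map_of_injective C.subtype_injective]
      refine congrArg (fun S : Subgroup K => Nat.card S) ?_
      rw [← MonoidHom.comap_ker, hfker, Subgroup.map_comap_eq, Subgroup.range_subtype]
    have hr : Nat.card (f.comp C.subtype).range = (commutator (K.map π)).index := by
      rw [MonoidHom.range_comp, Subgroup.range_subtype, hcardq]
    rw [hk, hr, B.card_centralizer (k := kk) hg0, hidx, mul_comm ((commutator (K.map π)).index)] at h1
    exact Nat.eq_of_mul_eq_mul_right (Nat.pos_of_ne_zero Subgroup.index_ne_zero_of_finite) h1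
  set L1 := L ⊓ ⁅K, K⁆
  haveI : L1.Normal := inferInstance
  let ψ : (C ⊓ L' : Subgroup K) →* L' ⧸ D.subgroupOf L' :=
    (QuotientGroup.mk' (D.subgroupOf L')).comp (Subgroup.inclusion inf_le_right)
  have hψ : Function.Surjective ψ := by
    intro z
    induction z using QuotientGroup.induction_on with
    | _ l =>
      have hlL : ((l : K) : G) ∈ L := Subgroup.mem_subgroupOf.1 l.2
      have hA : Subgroup.zpowers g ≤ K := Subgroup.zpowers_le.2 (hPK hgP)
      have hcop : (Nat.card (Subgroup.zpowers g)).Coprime (Nat.card L1) := by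
        obtain ⟨i, hi⟩ := IsPGroup.iff_orderOf.1 hP ⟨g, hgP⟩
        rw [Nat.card_zpowers, show orderOf g = p ^ i by rw [← hi, ← Subgroup.orderOf_coe]]
        exact ((hLc.coprime_dvd_left (Subgroup.card_dvd_of_le inf_le_left)).symm).pow_left i
      obtain ⟨c, hc, hcl⟩ := Coprime.exists_fixed_mem_coset (A := Subgroup.zpowers g) (N := L1)
        Subgroup.le_normalizer_of_normal hcop
        (Or.inr (Coprime.isSolvable_of_le (le_top : L1 ≤ ⊤)))
        (k := ((l : K) : G)) (fun a ha => by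
          refine ⟨L.mul_mem (L.inv_mem hlL) (‹L.Normal›.conj_mem _ hlL a), ?_⟩
          have h := Subgroup.commutator_mem_commutator (K.inv_mem (l : K).2) (hA ha)
          rw [commutatorElement_def, inv_inv] at h
          simpa [mul_assoc] using h)
      have hcL : c ∈ L := by
        have h := L.mul_mem hlL hcl.1
        rwa [mul_inv_cancel_left] at h
      have hcc : c * g = g * c :=
        (Subgroup.mem_centralizer_iff.1 hc g (Subgroup.mem_zpowers g)).symm
      refine ⟨⟨⟨c, hLK hcL⟩, ⟨Subgroup.mem_centralizer_singleton_iff.2 (Subtype.ext hcc),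
        Subgroup.mem_subgroupOf.2 hcL⟩⟩, QuotientGroup.eq.2 ?_⟩
      rw [Subgroup.mem_subgroupOf, hD]
      have h4 : c⁻¹ * ((l : K) : G) ∈ ⁅K, K⁆ := by
        have h5 := (⁅K, K⁆ : Subgroup G).inv_mem hcl.2
        rwa [mul_inv_rev, inv_inv] at h5
      rw [← Subgroup.map_subtype_commutator K] at h4
      obtain ⟨z, hz, ez⟩ := h4
      have e : z = (⟨c, hLK hcL⟩ : K)⁻¹ * (l : K) := Subtype.ext ez
      rw [e] at hz; exact hz
  have hinj := (hψ.bijective_of_nat_card_le (le_of_eq hcard)).1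
  have hxD : (⟨x, hLK hxL⟩ : K) ∈ D := by
    rw [← Subgroup.map_subtype_commutator K] at hxK
    obtain ⟨z, hz, ez⟩ := hxK
    rwa [show (⟨x, hLK hxL⟩ : K) = z from Subtype.ext ez.symm]
  let xx : (C ⊓ L' : Subgroup K) := ⟨⟨x, hLK hxL⟩,
    ⟨Subgroup.mem_centralizer_singleton_iff.2 (Subtype.ext hxg), Subgroup.mem_subgroupOf.2 hxL⟩⟩
  have h6 : ψ xx = ψ 1 := by
    rw [map_one]
    exact (QuotientGroup.eq_one_iff _).2 (Subgroup.mem_subgroupOf.2 hxD)
  exact congrArg (fun z : (C ⊓ L' : Subgroup K) => ((z : K) : G)) (hinj h6)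

/-- **The normal `p`-complement meets the derived subgroup trivially.** -/
theorem inf_commutator_eq_bot [Group.IsSolvable G] (hp : p.Prime) (L : Subgroup G) [L.Normal]
    (hLK : L ≤ K) (hLc : (Nat.card L).Coprime p)
    (honly : ∀ q : ℕ, q.Prime → q ∣ (K0 K).relIndex K → q = p) {H : Subgroup (G ⧸ L)}
    [Fintype (G ⧸ L)] (C : Core (K.map (QuotientGroup.mk' L)) H p) : L ⊓ ⁅K, K⁆ = ⊥ := by
  classical
  haveI := Fact.mk hp
  by_contra hne
  set π := QuotientGroup.mk' L with hπ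
  have hπs : Function.Surjective π := QuotientGroup.mk'_surjective L
  have hL0 := B.le_K0 hp honly L hLK hLc
  set L1 := L ⊓ ⁅K, K⁆ with hL1
  haveI : L1.Normal := inferInstance
  haveI := Fintype.ofFinite L1
  -- a Sylow subgroup of `K`
  obtain ⟨S⟩ : Nonempty (Sylow p K) := inferInstance
  set P := (S : Subgroup K).map K.subtype with hPdef
  have hPK : P ≤ K := Subgroup.map_subtype_le _
  have hP : IsPGroup p P := S.2.map _
  have hPL : ∀ y ∈ P, y ∈ L → y = 1 := fun y hy hy' => by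
    obtain ⟨i, hi⟩ := IsPGroup.iff_orderOf.1 hP ⟨y, hy⟩
    refine orderOf_eq_one_iff.1 (Nat.eq_one_of_dvd_coprimes (hLc.pow_right i)
      (Subgroup.orderOf_dvd_natCard L hy') ?_)
    rw [← hi, ← Subgroup.orderOf_coe]
  have hcopP : (Nat.card P).Coprime (Nat.card L) := by
    obtain ⟨e, he⟩ := IsPGroup.iff_card.1 hP
    rw [he]
    exact hLc.symm.pow_left e
  have hmap : P.map π = K.map π := by
    have h1 : (S : Subgroup K).map (π.subgroupMap K) = ⊤ := by
      refine Subgroup.index_eq_one.1 (Nat.eq_one_of_dvd_coprimes (?_ : (Nat.card (K.map π)).Coprime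
        ((S : Subgroup K).index)) (Subgroup.index_dvd_card _)
        (Subgroup.index_map_dvd (S : Subgroup K) (π.subgroupMap_surjective K)))
      obtain ⟨e, he⟩ := IsPGroup.iff_card.1 C.pgroup
      rw [he]
      exact (hp.coprime_iff_not_dvd.2 S.not_dvd_index).pow_left e
    refine le_antisymm (Subgroup.map_mono hPK) ?_
    rintro _ ⟨k, hk, rfl⟩
    obtain ⟨s, hs, es⟩ := (h1 ▸ Subgroup.mem_top (π.subgroupMap K ⟨k, hk⟩) :
      π.subgroupMap K ⟨k, hk⟩ ∈ (S : Subgroup K).map (π.subgroupMap K))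
    exact ⟨s, Subgroup.mem_map_of_mem _ hs, congrArg Subtype.val es⟩
  have hlift : ∀ k ∈ K, ∃ y ∈ P, y⁻¹ * k ∈ L := fun k hk => by
    obtain ⟨y, hy, e⟩ := (hmap.symm ▸ Subgroup.mem_map_of_mem π hk : π k ∈ P.map π)
    exact ⟨y, hy, QuotientGroup.eq.1 e⟩
  have hfpf : ∀ g ∈ P, g ∉ K0 K → ∀ x ∈ L1, x * g = g * x → x = 1 := fun g hg hg0 x hx hxg =>
    B.eq_one_of_commute hp hLK hL0 hLc C.base hPK hP hlift hg hg0 hx.1 hx.2 hxg
  obtain ⟨g₁, hg₁P, hg₁0⟩ : ∃ g ∈ P, g ∉ K0 K := by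
    by_contra hall
    push Not at hall
    refine B.K0_lt (le_antisymm (K0_le K) fun k hk => ?_)
    obtain ⟨y, hy, hyk⟩ := hlift k hk
    simpa using (K0 K).mul_mem (hall y hy) (hL0 hyk)
  -- the complement of `L1`
  set R := Subgroup.normalizer (P : Set G) with hR
  have hcentR : Subgroup.centralizer (P : Set G) ≤ R := Subgroup.centralizer_le_normalizer (P : Set G)
  have hRcent : ∀ x ∈ R, x ∈ L → ∀ y ∈ P, x * y = y * x := fun x hx hxL y hy => by
    rw [← commutatorElement_eq_one_iff_mul_comm]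
    refine hPL _ ?_ ?_
    · exact P.mul_mem ((Subgroup.mem_normalizer_iff.1 hx y).1 hy) (P.inv_mem hy)
    · rw [show ⁅x, y⁆ = x * (y * x⁻¹ * y⁻¹) by group]
      exact L.mul_mem hxL (‹L.Normal›.conj_mem _ (L.inv_mem hxL) y)
  have hdisj : R ⊓ L1 = ⊥ := (Subgroup.eq_bot_iff_forall _).2 fun x hx =>
    hfpf g₁ hg₁P hg₁0 x hx.2 (hRcent x hx.1 hx.2.1 g₁ hg₁P)
  have hdec : ∀ g : G, ∃ x ∈ L1, ∃ r ∈ R, g = x * r := by
    intro g
    obtain ⟨k, hk, r, hr, rfl⟩ := Subgroup.mem_sup_of_normal_left.1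
      ((sup_comm K R).trans (Sylow.normalizer_sup_eq_top S) ▸ Subgroup.mem_top g : g ∈ K ⊔ R)
    obtain ⟨y, hy, hyk⟩ := hlift k hk
    have hyR : y ∈ R := Subgroup.le_normalizer hy
    set l := y⁻¹ * k with hl
    obtain ⟨c, hc, hcl⟩ := Coprime.exists_fixed_mem_coset (A := P) (N := L1)
      Subgroup.le_normalizer_of_normal (hcopP.coprime_dvd_right (Subgroup.card_dvd_of_le inf_le_left))
      (Or.inr (Coprime.isSolvable_of_le (le_top : L1 ≤ ⊤))) (k := l) (fun a ha => by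
        refine ⟨L.mul_mem (L.inv_mem hyk) (‹L.Normal›.conj_mem _ hyk a), ?_⟩
        have h := Subgroup.commutator_mem_commutator (K.inv_mem (hLK hyk)) (hPK ha)
        rw [commutatorElement_def, inv_inv] at h
        simpa [mul_assoc] using h)
    refine ⟨y * c * (l⁻¹ * c)⁻¹ * (y * c)⁻¹, ‹L1.Normal›.conj_mem _ (L1.inv_mem hcl) (y * c),
      y * c * r, R.mul_mem (R.mul_mem hyR (hcentR hc)) hr, ?_⟩
    rw [hl]; group
  -- stabilisers of linear characters
  have hlin : ∀ g ∈ P, g ∉ K0 K → ∀ l : L1 →* ℂˣ, g ∈ TwoDegrees73.stab L1 l → l = 1 := by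
    intro g hg hg0 l hl
    let f : L1 → L1 := fun x => ⟨g * x * g⁻¹ * (x : G)⁻¹,
      L1.mul_mem (‹L1.Normal›.conj_mem x x.2 g) (L1.inv_mem x.2)⟩
    have hinj : Function.Injective f := by
      intro a b hab
      have h : g * a * g⁻¹ * (a : G)⁻¹ = g * b * g⁻¹ * (b : G)⁻¹ := congrArg Subtype.val hab
      have h2 := hfpf g hg hg0 ((b : G)⁻¹ * a) (L1.mul_mem (L1.inv_mem b.2) a.2) (by
        calc (b : G)⁻¹ * a * g = (b : G)⁻¹ * g * (g⁻¹ * a * g * (a : G)⁻¹) * a := by group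
          _ = (b : G)⁻¹ * g * (g⁻¹ * (g * a * g⁻¹ * (a : G)⁻¹)⁻¹ * g) * a := by group
          _ = (b : G)⁻¹ * g * (g⁻¹ * (g * b * g⁻¹ * (b : G)⁻¹)⁻¹ * g) * a := by rw [h]
          _ = g * ((b : G)⁻¹ * a) := by group)
      exact Subtype.ext (inv_mul_eq_one.1 h2).symm
    refine MonoidHom.ext fun y => ?_
    obtain ⟨x, rfl⟩ := (Finite.injective_iff_surjective.1 hinj) y
    rw [show f x = ⟨g * x * g⁻¹, ‹L1.Normal›.conj_mem x x.2 g⟩ * x⁻¹ from rfl, map_mul, map_inv,
      (TwoDegrees73.mem_stab _).1 hl x, mul_inv_cancel]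
    rfl
  have hcomm : ∀ l : L1 →* ℂˣ, l ≠ 1 →
      (TwoDegrees73.stab L1 l).index ∈ Cfsg.charDegrees G ∧
        ∀ r ∈ R ⊓ TwoDegrees73.stab L1 l, ∀ s ∈ R ⊓ TwoDegrees73.stab L1 l, r * s = s * r :=
    fun l hl => stab_complement B.nd L1 R hdisj hdec l fun h =>
      hl (hlin g₁ hg₁P hg₁0 l (h ▸ Subgroup.mem_top g₁))
  have hπ1 : ∀ x ∈ L, π x = 1 := fun x hx => (QuotientGroup.eq_one_iff x).2 hx
  have hnotin : ∀ l : L1 →* ℂˣ, l ≠ 1 →
      ∃ t ∈ R ⊓ TwoDegrees73.stab L1 l, π t ∉ layerKer (K.map π) := by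
    intro l hl
    obtain ⟨hmem, hab⟩ := hcomm l hl
    set T := TwoDegrees73.stab L1 l
    have hLT : L1 ≤ T := fun x hx => by
      rw [TwoDegrees73.mem_stab]
      intro t
      rw [show (⟨x * t * x⁻¹, ‹L1.Normal›.conj_mem t t.2 x⟩ : L1) = ⟨x, hx⟩ * t * ⟨x, hx⟩⁻¹ from rfl,
        map_mul, map_mul, map_inv, mul_inv_cancel_comm]
    by_contra hall
    push Not at hall
    set X' := (layerKer (K.map π)).comap π
    have hKX : K ≤ X' := fun k hk => le_layerKer (Subgroup.mem_map_of_mem π hk)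
    have hTX : T ≤ X' := fun t ht => by
      obtain ⟨x, hx, r, hr, rfl⟩ := hdec t
      have hrT : r ∈ T := (T.mul_mem_cancel_left (hLT hx)).1 ht
      show π (x * r) ∈ layerKer (K.map π)
      rw [map_mul, hπ1 x hx.1, one_mul]
      exact hall r ⟨hr, hrT⟩
    set A := (T ⊓ K).map π
    have hAmem : ∀ a ∈ A, ∃ r, r ∈ R ⊓ T ∧ r ∈ K ∧ π r = a := by
      rintro _ ⟨t, ⟨htT, htK⟩, rfl⟩
      obtain ⟨x, hx, r, hr, rfl⟩ := hdec t
      exact ⟨r, ⟨hr, (T.mul_mem_cancel_left (hLT hx)).1 htT⟩,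
        (K.mul_mem_cancel_left (hLK hx.1)).1 htK, by rw [map_mul, hπ1 x hx.1, one_mul]⟩
    have hAc : ∀ a ∈ A, ∀ b ∈ A, a * b = b * a := fun a ha b hb => by
      obtain ⟨r, hr, -, rfl⟩ := hAmem a ha
      obtain ⟨s, hs, -, rfl⟩ := hAmem b hb
      rw [← map_mul, ← map_mul, hab r hr s hs]
    have hA0 : A ≤ K0 (K.map π) := fun a ha => by
      obtain ⟨r, ⟨hrR, hrT⟩, hrK, rfl⟩ := hAmem a ha
      obtain ⟨x, hx, hxr⟩ := hlift r hrK
      have hy : x⁻¹ * r ∈ R := R.mul_mem (R.inv_mem (Subgroup.le_normalizer hx)) hrR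
      have hcm : x * (x⁻¹ * r) = x⁻¹ * r * x := (hRcent _ hy hxr x hx).symm
      have hxT : x ∈ T := by
        obtain ⟨k, hk⟩ := exists_pow_extract hcopP
        rw [← hk G x (x⁻¹ * r) hcm
          (congrArg Subtype.val (pow_card_eq_one' (G := P) (x := ⟨x, hx⟩)))
          (congrArg Subtype.val (pow_card_eq_one' (G := L) (x := ⟨_, hxr⟩))), mul_inv_cancel_left]
        exact T.pow_mem hrT k
      have hx0 : x ∈ K0 K := by_contra fun h => hl (hlin x hx h l hxT)
      have hr0 : r ∈ K0 K := by simpa using (K0 K).mul_mem hx0 (hL0 hxr)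
      refine (mem_K0 _).2 ⟨Subgroup.mem_map_of_mem π hrK, fun z => ?_⟩
      obtain ⟨z, rfl⟩ := hπs z
      rw [← map_commutatorElement, ← Subgroup.map_commutator]
      exact Subgroup.mem_map_of_mem π (((mem_K0 K).1 hr0).2 z)
    obtain ⟨d, h1d, -, hmemd, hrad⟩ := C.exists_degree_one
    obtain ⟨hdvd, hlt⟩ := C.degree_one_lt h1d hrad A hA0 hAc
    have h1 : A.relIndex (K.map π) ∣ T.relIndex X' := by
      have e1 : A.relIndex (K.map π) ∣ (T ⊓ K).relIndex K := by
        rw [Subgroup.relIndex_map_map]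
        refine (Subgroup.relIndex_dvd_of_le_left _ (le_sup_left : T ⊓ K ≤ (T ⊓ K) ⊔ π.ker)).trans ?_
        rw [sup_eq_left.2 (show π.ker ≤ K by rw [QuotientGroup.ker_mk']; exact hLK)]
      have e2 : K.relIndex T ∣ K.relIndex X' := by
        haveI : (K.subgroupOf X').Normal := Subgroup.normal_subgroupOf
        have h := Subgroup.relIndex_dvd_index_of_normal (K.subgroupOf X') (T.subgroupOf X')
        rwa [Subgroup.relIndex_subgroupOf hTX] at h
      have e3 : (T ⊓ K).relIndex T * T.relIndex X' = (T ⊓ K).relIndex K * K.relIndex X' := by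
        rw [Subgroup.relIndex_mul_relIndex _ _ _ inf_le_left hTX,
          Subgroup.relIndex_mul_relIndex _ _ _ inf_le_right hKX]
      rw [Subgroup.inf_relIndex_left] at e3
      obtain ⟨e, he⟩ := e2
      rw [he, ← mul_assoc, mul_comm _ (K.relIndex T), mul_assoc] at e3
      have hpos : 0 < K.relIndex T := Nat.pos_of_ne_zero Subgroup.index_ne_zero_of_finite
      exact e1.trans ⟨e, Nat.eq_of_mul_eq_mul_left hpos e3⟩
    have hX0 : 0 < (layerKer (K.map π)).index := Nat.pos_of_ne_zero Subgroup.index_ne_zero_of_finite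
    have hTindex : T.index = (layerKer (K.map π)).index * T.relIndex X' := by
      rw [← Subgroup.relIndex_mul_index hTX, Subgroup.index_comap_of_surjective _ hπs, mul_comm]
    have hTX0 : T.relIndex X' ≠ 0 := Subgroup.index_ne_zero_of_finite
    refine B.nd _ (DegreeGraph.charDegrees_quotient_subset L hmemd) _ hmem
      (lt_of_lt_of_le h1d (Nat.le_mul_of_pos_left _ hX0)) ?_ ?_
    · rw [hTindex]
      exact Nat.mul_lt_mul_of_pos_left
        (lt_of_lt_of_le hlt (Nat.le_of_dvd (Nat.pos_of_ne_zero hTX0) h1)) hX0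
    · rw [hTindex]
      exact Nat.mul_dvd_mul_left _ (hdvd.trans h1)
  -- a nontrivial linear character
  obtain ⟨l₀, hl₀⟩ : ∃ l : L1 →* ℂˣ, l ≠ 1 := by
    haveI := Fact.mk hp
    haveI : Nontrivial L1 := (Subgroup.nontrivial_iff_ne_bot L1).2 hne
    haveI : Group.IsSolvable L1 := Coprime.isSolvable_of_le (le_top : L1 ≤ ⊤)
    obtain ⟨a, -, ha⟩ := SetLike.exists_of_lt (Group.IsSolvable.commutator_lt_top_of_nontrivial L1)
    obtain ⟨l, -, hl⟩ := TwoComponents73.exists_lin (commutator L1) le_rfl ha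
    exact ⟨l, fun h => hl (by rw [h]; rfl)⟩
  have hXne : layerKer (K.map π) ≠ ⊤ := fun h => by
    obtain ⟨t, -, ht⟩ := hnotin l₀ hl₀
    exact ht (h ▸ Subgroup.mem_top _)
  have hfix2 : ∀ u ∈ P, π u ∈ gam (K.map π) 1 → π u ∉ gam (K.map π) 2 → ∀ l : L1 →* ℂˣ,
      u ∈ TwoDegrees73.stab L1 l → l = 1 := by
    intro u hu hu1 hu2 l hst
    by_contra hl
    obtain ⟨t, ht, htX⟩ := hnotin l hl
    refine hu2 (fixed_mem (n := 1) (z := π t) hu1 ?_ (C.fpf_of_notMem_layerKer htX))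
    rw [← map_commutatorElement, commutatorElement_eq_one_iff_mul_comm.2
      ((hcomm l hl).2 t ht u ⟨Subgroup.le_normalizer hu, hst⟩), map_one]
    exact one_mem _
  have hcop1 : (Nat.card L1).Coprime p :=
    hLc.coprime_dvd_left (Subgroup.card_dvd_of_le inf_le_left)
  have hone : ∀ l : L1 →* ℂˣ, (1 : G) ∈ TwoDegrees73.stab L1 l := fun l => one_mem _
  have hinjP : ∀ x ∈ P, π x = 1 → x = 1 := fun x hx h =>
    hPL x hx ((QuotientGroup.eq_one_iff x).1 h)
  have hpowlift : ∀ v ∈ gam (K.map π) 1, v ^ p = 1 → ∃ u ∈ P, π u = v ∧ u ^ p = 1 := by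
    intro v hv hvp
    obtain ⟨u, hu, rfl⟩ := (hmap.symm ▸ gam_le (K.map π) 1 hv : v ∈ P.map π)
    exact ⟨u, hu, rfl, hinjP _ (P.pow_mem hu p) (by rw [map_pow, hvp])⟩
  have hdiv : ∀ {S : Subgroup (G ⧸ L)} {v : G ⧸ L} {i : ℕ}, v ^ p ∈ S → i ≠ 0 → i < p →
      v ^ i ∈ S → v ∈ S := by
    intro S v i hvp hi hip hvi
    obtain ⟨a, b, hab⟩ : ∃ a b : ℤ, 1 = (i : ℤ) * a + (p : ℤ) * b := by
      refine ⟨Nat.gcdA i p, Nat.gcdB i p, ?_⟩
      rw [← Nat.gcd_eq_gcd_ab, ((hp.coprime_iff_not_dvd.2 fun hd =>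
        absurd (Nat.le_of_dvd (Nat.pos_of_ne_zero hi) hd) (not_le.2 hip)).symm).gcd_eq_one,
        Nat.cast_one]
    rw [← zpow_one v, hab, zpow_add, zpow_mul, zpow_mul, zpow_natCast, zpow_natCast]
    exact S.mul_mem (S.zpow_mem hvi a) (S.zpow_mem hvp b)
  obtain ⟨v₀, hv₀, hv₀2, hv₀p⟩ :
      ∃ v ∈ gam (K.map π) 1, v ∉ gam (K.map π) 2 ∧ v ^ p = 1 := by
    obtain ⟨w, hw, hw2⟩ := SetLike.not_le_iff_exists.1 (show ¬ gam (K.map π) 1 ≤ gam (K.map π) 2
      from fun h => C.nonab (le_bot_iff.1 (C.le_of_le_sup (N := ⊥) (gam_le (K.map π) 1)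
        (h.trans le_sup_right))))
    obtain ⟨v, hv, hvw, hvp⟩ := C.exists_lift hXne hw
    refine ⟨v, hv, fun h => hw2 ?_, hvp⟩
    have := mul_mem h (inv_mem hvw)
    rwa [mul_inv_rev, inv_inv, mul_inv_cancel_left] at this
  obtain ⟨u₀, hu₀, eu₀, hu₀p⟩ := hpowlift v₀ hv₀ hv₀p
  -- the second layer acts trivially
  have htriv : ∀ z ∈ P, π z ∈ gam (K.map π) 2 → ∀ l : L1 →* ℂˣ, z ∈ TwoDegrees73.stab L1 l := by
    intro z hz hz2
    have hcz : u₀ * z = z * u₀ := by
      rw [← commutatorElement_eq_one_iff_mul_comm]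
      refine hinjP _ (P.mul_mem (P.mul_mem (P.mul_mem hu₀ hz) (P.inv_mem hu₀)) (P.inv_mem hz)) ?_
      rw [map_commutatorElement, eu₀, ← commutatorElement_inv, inv_eq_one]
      exact Subgroup.mem_bot.1 (C.gam_three_eq_bot' ▸
        Subgroup.commutator_mem_commutator hz2 (gam_le (K.map π) 1 hv₀))
    have hzp : z ^ p = 1 := hinjP _ (P.pow_mem hz p) (by rw [map_pow, C.pow_two_eq_one hXne hz2])
    let W : Subgroup (L1 →* ℂˣ) :=
      { carrier := {l | z ∈ TwoDegrees73.stab L1 l}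
        one_mem' := mem_stab_iff_actL.2 (map_one _)
        mul_mem' := fun {a b} ha hb => mem_stab_iff_actL.2 (by
          rw [map_mul, mem_stab_iff_actL.1 ha, mem_stab_iff_actL.1 hb])
        inv_mem' := fun {a} ha => mem_stab_iff_actL.2 (by rw [map_inv, mem_stab_iff_actL.1 ha]) }
    refine fun l => mem_of_pair L1 hcop1 u₀ z (fun v => ?_) (fun v => ?_) (fun v => ?_) W
      (fun i j hi hj hij v hv => ?_) l
    · rw [commutatorElement_eq_one_iff_mul_comm.2 hcz]; exact hone v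
    · rw [hu₀p]; exact hone v
    · rw [hzp]; exact hone v
    · by_cases hi0 : i = 0
      · subst hi0
        rw [pow_zero, one_mul] at hv
        show z ∈ TwoDegrees73.stab L1 v
        have hj0 : j ≠ 0 := hij.resolve_left fun h => h rfl
        obtain ⟨a, b, hab⟩ : ∃ a b : ℤ, 1 = (j : ℤ) * a + (p : ℤ) * b := by
          refine ⟨Nat.gcdA j p, Nat.gcdB j p, ?_⟩
          rw [← Nat.gcd_eq_gcd_ab, ((hp.coprime_iff_not_dvd.2 fun hd =>
            absurd (Nat.le_of_dvd (Nat.pos_of_ne_zero hj0) hd) (not_le.2 hj)).symm).gcd_eq_one,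
            Nat.cast_one]
        rw [← zpow_one z, hab, zpow_add, zpow_mul, zpow_mul, zpow_natCast, zpow_natCast, hzp,
          one_zpow, mul_one]
        exact zpow_mem hv a
      · have hmem1 : π (u₀ ^ i * z ^ j) ∈ gam (K.map π) 1 := by
          rw [map_mul, map_pow, map_pow, eu₀]
          exact mul_mem (pow_mem hv₀ i) (pow_mem (gam_succ_le (K.map π) 1 hz2) j)
        have hv1 := hfix2 _ (P.mul_mem (P.pow_mem hu₀ i) (P.pow_mem hz j)) hmem1 (fun h => hv₀2 ?_) v hv
        · rw [hv1]; exact W.one_mem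
        · refine hdiv (hv₀p ▸ one_mem _) hi0 hi ?_
          rw [map_mul, map_pow, map_pow, eu₀] at h
          exact (Subgroup.mul_mem_cancel_right _ (pow_mem hz2 j)).1 h
  have hfin : ∀ a b : G, a ∈ P → b ∈ P → (∀ v : L1 →* ℂˣ, ⁅a, b⁆ ∈ TwoDegrees73.stab L1 v) →
      (∀ v : L1 →* ℂˣ, a ^ p ∈ TwoDegrees73.stab L1 v) →
      (∀ v : L1 →* ℂˣ, b ^ p ∈ TwoDegrees73.stab L1 v) →
      (∀ i j : ℕ, i < p → j < p → i ≠ 0 ∨ j ≠ 0 → ∀ v,
        a ^ i * b ^ j ∈ TwoDegrees73.stab L1 v → v = 1) → False := fun a b _ _ h1 h2 h3 h4 =>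
    hl₀ (Subgroup.mem_bot.1 (mem_of_pair L1 hcop1 a b h1 h2 h3 ⊥
      (fun i j hi hj hij v hv => Subgroup.mem_bot.2 (h4 i j hi hj hij v hv)) l₀))
  -- the first layer is cyclic of order `p`
  have hcyc : ∀ v ∈ gam (K.map π) 1, v ^ p = 1 →
      ∃ i : ℕ, i < p ∧ (v₀ ^ i)⁻¹ * v ∈ gam (K.map π) 2 := by
    intro v hv hvp
    by_contra hall
    push Not at hall
    obtain ⟨u, hu, eu, hup⟩ := hpowlift v hv hvp
    refine hfin u₀ u hu₀ hu (fun w => htriv _ ?_ ?_ w) (fun w => hu₀p ▸ hone w)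
      (fun w => hup ▸ hone w) fun i j hi hj hij w hw => hfix2 _ ?_ ?_ ?_ w hw
    · exact P.mul_mem (P.mul_mem (P.mul_mem hu₀ hu) (P.inv_mem hu₀)) (P.inv_mem hu)
    · rw [map_commutatorElement, eu₀, eu]
      exact gam_succ_le (K.map π) 2 (commutator_gam_le (K.map π) 1 1
        (Subgroup.commutator_mem_commutator hv₀ hv))
    · exact P.mul_mem (P.pow_mem hu₀ i) (P.pow_mem hu j)
    · rw [map_mul, map_pow, map_pow, eu₀, eu]
      exact mul_mem (pow_mem hv₀ i) (pow_mem hv j)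
    · intro h
      rw [map_mul, map_pow, map_pow, eu₀, eu] at h
      by_cases hj0 : j = 0
      · subst hj0
        rw [pow_zero, mul_one] at h
        exact hv₀2 (hdiv (hv₀p ▸ one_mem _) (hij.resolve_right fun h => h rfl) hi h)
      · obtain ⟨a, b, hab⟩ : ∃ a b : ℤ, 1 = (j : ℤ) * a + (p : ℤ) * b := by
          refine ⟨Nat.gcdA j p, Nat.gcdB j p, ?_⟩
          rw [← Nat.gcd_eq_gcd_ab, ((hp.coprime_iff_not_dvd.2 fun hd =>
            absurd (Nat.le_of_dvd (Nat.pos_of_ne_zero hj0) hd) (not_le.2 hj)).symm).gcd_eq_one,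
            Nat.cast_one]
        set π₂ := QuotientGroup.mk' (gam (K.map π) 2)
        have h' : π₂ v₀ ^ i * π₂ v ^ j = 1 := by
          rw [← map_pow, ← map_pow, ← map_mul]
          exact (QuotientGroup.eq_one_iff _).2 h
        have e : π₂ v = π₂ v₀ ^ (-(i : ℤ) * a) := by
          have h2 : π₂ v ^ j = π₂ v₀ ^ (-(i : ℤ)) := by
            rw [zpow_neg, zpow_natCast]
            exact eq_inv_of_mul_eq_one_right h'
          calc π₂ v = π₂ v ^ ((j : ℤ) * a + (p : ℤ) * b) := by rw [← hab, zpow_one]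
            _ = (π₂ v ^ j) ^ a * (π₂ v ^ p) ^ b := by
              rw [zpow_add, zpow_mul, zpow_mul, zpow_natCast, zpow_natCast]
            _ = π₂ v₀ ^ (-(i : ℤ) * a) := by
              rw [h2, ← zpow_mul, ← map_pow, hvp, map_one, one_zpow, mul_one]
        refine hall ((-(i : ℤ) * a) % (p : ℤ)).toNat ?_ ?_
        · have h1 := Int.emod_lt_of_pos (-(i : ℤ) * a) (by exact_mod_cast hp.pos : (0 : ℤ) < p)
          have h2 := Int.emod_nonneg (-(i : ℤ) * a) (by exact_mod_cast hp.ne_zero : (p : ℤ) ≠ 0)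
          omega
        · refine QuotientGroup.eq.1 ?_
          show π₂ (v₀ ^ _) = π₂ v
          rw [e, map_pow, ← zpow_natCast, Int.toNat_of_nonneg
            (Int.emod_nonneg _ (by exact_mod_cast hp.ne_zero))]
          refine (zpow_eq_zpow_emod _ ?_).symm
          rw [zpow_natCast, ← map_pow, hv₀p, map_one]
  have hp2 : p ≠ 2 := by
    intro h2
    obtain ⟨h, hh, hhX⟩ := C.exists_notMem_layerKer hXne
    refine hv₀2 (fixed_mem (n := 1) (z := h) hv₀ ?_ (C.fpf_of_notMem_layerKer hhX))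
    have hmem : h * v₀ * h⁻¹ ∈ gam (K.map π) 1 := (gam_normal _ 1).conj_mem v₀ hv₀ h
    obtain ⟨i, hi, hiv⟩ := hcyc _ hmem (by rw [conj_pow, hv₀p, mul_one, mul_inv_cancel])
    have hcases : i = 0 ∨ i = 1 := by omega
    rcases hcases with rfl | rfl
    · exfalso
      rw [pow_zero, inv_one, one_mul] at hiv
      refine hv₀2 ?_
      simpa [mul_assoc] using (gam_normal (K.map π) 2).conj_mem _ hiv h⁻¹
    · rw [pow_one] at hiv
      have := (gam_normal (K.map π) 2).conj_mem _ hiv v₀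
      simpa [commutatorElement_def, mul_assoc] using this
  obtain ⟨m, hm, hm0⟩ := C.exists_notMem_K0
  obtain ⟨g, hg, rfl⟩ := (hmap.symm ▸ C.Q_le hm : m ∈ P.map π)
  refine hfin g u₀ hg hu₀ (fun w => htriv _ ?_ ?_ w) (fun w => htriv _ (P.pow_mem hg p) ?_ w)
    (fun w => hu₀p ▸ hone w) fun i j hi hj hij w hw => ?_
  · exact P.mul_mem (P.mul_mem (P.mul_mem hg hu₀) (P.inv_mem hg)) (P.inv_mem hu₀)
  · rw [map_commutatorElement, eu₀, ← commutatorElement_inv]
    exact inv_mem (Subgroup.commutator_mem_commutator hv₀ (Subgroup.mem_map_of_mem π (hPK hg)))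
  · rw [map_pow]
    exact C.pow_mem_two_of_odd hXne hp2 hm
  · by_cases hi0 : i = 0
    · subst hi0
      rw [pow_zero, one_mul] at hw
      have hj0 : j ≠ 0 := hij.resolve_left fun h => h rfl
      refine hfix2 _ (P.pow_mem hu₀ j) (by rw [map_pow, eu₀]; exact pow_mem hv₀ j) (fun h => ?_) w hw
      rw [map_pow, eu₀] at h
      exact hv₀2 (hdiv (hv₀p ▸ one_mem _) hj0 hj h)
    · refine hlin _ (P.mul_mem (P.pow_mem hg i) (P.pow_mem hu₀ j)) (fun h => hm0 ?_) w hw
      have hin : π (g ^ i * u₀ ^ j) ∈ K0 (K.map π) := by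
        refine (mem_K0 _).2 ⟨Subgroup.mem_map_of_mem π (K0_le K h), fun z => ?_⟩
        obtain ⟨z, rfl⟩ := hπs z
        rw [← map_commutatorElement, ← Subgroup.map_commutator]
        exact Subgroup.mem_map_of_mem π (((mem_K0 K).1 h).2 z)
      rw [map_mul, map_pow, map_pow, eu₀,
        Subgroup.mul_mem_cancel_right _ (pow_mem (commutator_le_K0 (K.map π) hv₀) j)] at hin
      exact hdiv (C.pow_mem_K0 hXne (C.Q_le hm)) hi0 hi hin

end Base

end CfsgLib.NoDivDegrees
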