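import Cfsg.Agent.NoDivDegrees.Layers

/-!
# The degrees over the linear characters of the first layer
-/

set_option autoImplicit false
set_option linter.style.haveILetI false
set_option linter.unusedSectionVars false
set_option linter.unusedVariables false

namespace CfsgLib.NoDivDegrees

open CfsgLib.Characters CfsgLib.OddOrderChar CfsgLib.CharactersDeep
open scoped ComplexConjugate commutatorElement

universe u

variable {G : Type u} [Group G] [Fintype G] {P H : Subgroup G} [hP : P.Normal] {p : ℕ}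

/-- An endomorphism fixed-point dichotomy for a family of characters with stabilisers and
radicals. -/
theorem all_or_none {V : Type*} [CommGroup V] [Finite V] (d : V →* V) (S R : V → Subgroup G)
    (z : G) (hz : ∀ v, z ∈ S v ↔ d v = 1) (hSd : ∀ v, S v ≤ S (d v))
    (hSmul : ∀ v w, S v ⊓ S w ≤ S (v * w)) (hSone : ∀ g, g ∈ S 1)
    (hRd : ∀ v w, v ≠ 1 → R v ≤ R w → R v ≤ R (d w))
    (hRmul : ∀ v w, R v ⊓ R w ≤ R (v * w)) (hRone : ∀ v, R v ≤ R 1)
    (key : ∀ v w, v ≠ 1 → w ≠ 1 → S v ≤ S w → R v ≤ R w → S v = S w) :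
    (∀ v, d v = 1) ∨ (∀ v, d v = 1 → v = 1) := by
  classical
  by_contra h
  push Not at h
  obtain ⟨⟨v, hv⟩, μ, hμ, hμ1⟩ := h
  have hv1 : v ≠ 1 := fun e => hv (by rw [e, map_one])
  have h2 : ∀ w, d (d w) = 1 → d w = 1 := fun w hw => by
    by_contra hne
    have hw1 : w ≠ 1 := fun e => hne (by rw [e, map_one])
    have heq := key w (d w) hw1 hne (hSd w) (hRd w w hw1 le_rfl)
    exact hne ((hz w).1 (heq ▸ (hz (d w)).2 hw))
  set e := μ * d v with he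
  have hde : d e ≠ 1 := fun h0 => hv (h2 v (by rwa [he, map_mul, hμ, one_mul] at h0))
  have he1 : e ≠ 1 := fun h0 => hde (by rw [h0, map_one])
  haveI := Fintype.ofFinite V
  let W : Subgroup V :=
    { carrier := {w | S e ≤ S w ∧ R e ≤ R w}
      one_mem' := ⟨fun g _ => hSone g, hRone e⟩
      mul_mem' := fun {a b} ha hb =>
        ⟨(le_inf ha.1 hb.1).trans (hSmul a b), (le_inf ha.2 hb.2).trans (hRmul a b)⟩
      inv_mem' := fun {a} ha => by
        have hk : ∀ k : ℕ, S e ≤ S (a ^ k) ∧ R e ≤ R (a ^ k) := fun k => by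
          induction k with
          | zero => rw [pow_zero]; exact ⟨fun g _ => hSone g, hRone e⟩
          | succ k ih =>
            rw [pow_succ]
            exact ⟨(le_inf ih.1 ha.1).trans (hSmul _ _), (le_inf ih.2 ha.2).trans (hRmul _ _)⟩
        rw [show a⁻¹ = a ^ (orderOf a - 1) from inv_eq_of_mul_eq_one_right (by
          rw [← pow_succ', Nat.sub_add_cancel (orderOf_pos a), pow_orderOf_eq_one])]
        exact hk _ }
  have hμW := mem_of_mul_mem d h2 hμ W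
    (fun w hw => ⟨hw.1.trans (hSd w), hRd e w he1 hw.2⟩) (β := v) ⟨le_rfl, le_rfl⟩
  have heq := key e μ he1 hμ1 hμW.1 hμW.2
  exact hde ((hz e).1 (heq ▸ (hz μ).2 hμ))

/-- The elements of `P` whose commutators are killed by a linear character of the first layer. -/
def rad (μ : Dual P 1) : Subgroup G where
  carrier := {g | g ∈ P ∧ ∀ w ∈ P, ∀ h : ⁅g, w⁆ ∈ gam P 1, (μ : gam P 1 →* ℂˣ) ⟨⁅g, w⁆, h⟩ = 1}
  one_mem' := ⟨P.one_mem, fun w _ h => by
    rw [show (⟨⁅(1 : G), w⁆, h⟩ : gam P 1) = 1 from Subtype.ext (commutatorElement_one_left w),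
      map_one]⟩
  mul_mem' {a b} ha hb := ⟨P.mul_mem ha.1 hb.1, fun w hw h => by
    have h1 : ⁅b, w⁆ ∈ gam P 1 := Subgroup.commutator_mem_commutator hb.1 hw
    have h2 : ⁅a, w⁆ ∈ gam P 1 := Subgroup.commutator_mem_commutator ha.1 hw
    have hs := (TwoDegrees73.mem_stab _).1 (le_stab μ.2 ha.1) ⟨⁅b, w⁆, h1⟩
    rw [show (⟨⁅a * b, w⁆, h⟩ : gam P 1) =
        ⟨a * ⁅b, w⁆ * a⁻¹, (gam_normal P 1).conj_mem _ h1 a⟩ * ⟨⁅a, w⁆, h2⟩ from
        Subtype.ext (by show ⁅a * b, w⁆ = a * ⁅b, w⁆ * a⁻¹ * ⁅a, w⁆; group),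
      map_mul, hs, hb.2 w hw h1, ha.2 w hw h2, one_mul]⟩
  inv_mem' {a} ha := ⟨P.inv_mem ha.1, fun w hw h => by
    have h2 : ⁅a, w⁆ ∈ gam P 1 := Subgroup.commutator_mem_commutator ha.1 hw
    have hs := (TwoDegrees73.mem_stab _).1 (le_stab μ.2 (P.inv_mem ha.1))
      ⟨⁅a, w⁆⁻¹, (gam P 1).inv_mem h2⟩
    rw [show (⟨⁅a⁻¹, w⁆, h⟩ : gam P 1) =
        ⟨a⁻¹ * ⁅a, w⁆⁻¹ * a⁻¹⁻¹, (gam_normal P 1).conj_mem _ ((gam P 1).inv_mem h2) a⁻¹⟩ from
        Subtype.ext (by show ⁅a⁻¹, w⁆ = a⁻¹ * ⁅a, w⁆⁻¹ * a⁻¹⁻¹; group),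
      hs, show (⟨⁅a, w⁆⁻¹, (gam P 1).inv_mem h2⟩ : gam P 1) = ⟨⁅a, w⁆, h2⟩⁻¹ from rfl, map_inv,
      ha.2 w hw h2, inv_one]⟩

/-- The kernel of the action on the first layer. -/
def layerKer (P : Subgroup G) [P.Normal] : Subgroup G :=
  ⨅ μ : Dual P 1, TwoDegrees73.stab (gam P 1) (μ : gam P 1 →* ℂˣ)

theorem le_layerKer : P ≤ layerKer P := le_iInf fun μ => le_stab μ.2

theorem mem_layerKer_iff {z : G} :
    z ∈ layerKer P ↔ ∀ μ ∈ Dual P 1, z ∈ TwoDegrees73.stab (gam P 1) μ :=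
  Subgroup.mem_iInf.trans ⟨fun h μ hμ => h ⟨μ, hμ⟩, fun h μ => h μ μ.2⟩

/-- A trivial action on the characters of a layer is trivial on the layer. -/
theorem trivial_of_dual {n : ℕ} {z : G}
    (h : ∀ μ ∈ Dual P n, z ∈ TwoDegrees73.stab (gam P n) μ) {u : G} (hu : u ∈ gam P n) :
    ⁅z, u⁆ ∈ gam P (n + 1) := by
  have hc : ⁅z, u⁆ ∈ gam P n :=
    mul_mem ((gam_normal P n).conj_mem u hu z) (inv_mem hu)
  refine mem_of_forall_dual hc fun μ hμ => ?_
  have h1 := (TwoDegrees73.mem_stab _).1 (h μ hμ) ⟨u, hu⟩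
  have e : (⟨z * u * z⁻¹, (gam_normal P n).conj_mem u hu z⟩ : gam P n) =
      ⟨⁅z, u⁆, hc⟩ * ⟨u, hu⟩ := Subtype.ext (by
        show z * u * z⁻¹ = ⁅z, u⁆ * u
        group)
  rwa [e, map_mul, mul_eq_right] at h1

namespace Core

variable (C : Core P H p)

include C

/-- Characters of `P` over a linear character `ν` of a layer whose radical is `R`: their degree
and their inertia group. -/
theorem layer_char [Fintype P] {n : ℕ} {ν : gam P n →* ℂˣ} (hν : ν ∈ Dual P n) (R : Subgroup G)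
    (hRP : R ≤ P) (hTR : gam P n ≤ R)
    (hdec : ∀ r ∈ R, ∃ t ∈ gam P n, ∃ c ∈ P ⊓ Subgroup.centralizer (H : Set G), r = t * c)
    (hR : ∀ r ∈ R, ∀ w ∈ P, ∃ h : ⁅r, w⁆ ∈ gam P n, ν ⟨⁅r, w⁆, h⟩ = 1)
    (hnot : ∀ g ∈ P, g ∉ R → ∃ w ∈ P, ∃ h : ⁅g, w⁆ ∈ gam P n, ν ⟨⁅g, w⁆, h⟩ ≠ 1)
    {ψ : P → ℂ} (hψ : Cfsg.IsIrrCharacter P ψ)
    (hover : ∀ t : gam P n, ψ ⟨t, gam_le P n t.2⟩ = (ν t : ℂ) * ψ 1) {d : ℕ} (hd : ψ 1 = d) :
    d ^ 2 = R.relIndex P ∧ DefectOne.inertia P ψ = TwoDegrees73.stab (gam P n) ν := by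
  classical
  set R' := R.subgroupOf P
  haveI : R'.Normal := ⟨fun r hr w => by
    rw [Subgroup.mem_subgroupOf] at hr ⊢
    obtain ⟨h, -⟩ := hR _ hr _ w.2
    rw [Subgroup.coe_mul, Subgroup.coe_mul, Subgroup.coe_inv,
      show (w : G) * (r : G) * (w : G)⁻¹ = ⁅(r : G), (w : G)⁆⁻¹ * r by group]
    exact mul_mem (inv_mem (hTR h)) hr⟩
  haveI := Fintype.ofFinite R'
  set T' := (gam P n).subgroupOf P
  let e : T' ≃* gam P n := Subgroup.subgroupOfEquivOfLe (gam_le P n)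
  have hT : ∀ t : T', ψ t = ((ν.comp e.toMonoidHom) t : ℂ) * d := fun t => by
    rw [← hd]
    exact (congrArg ψ (Subtype.ext rfl)).trans (hover (e t))
  obtain ⟨hsq, hvan, η, hη⟩ := degree_sq R' T' (ν.comp e.toMonoidHom) hψ hd hT
    (fun r hr w => by
      obtain ⟨h, h1⟩ := hR _ (Subgroup.mem_subgroupOf.1 hr) _ w.2
      exact ⟨Subgroup.mem_subgroupOf.2 h, (congrArg ν (Subtype.ext rfl)).trans h1⟩)
    (fun g hg => by
      obtain ⟨w, hw, h, h1⟩ := hnot g g.2 fun h' => hg (Subgroup.mem_subgroupOf.2 h')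
      exact ⟨⟨w, hw⟩, Subgroup.mem_subgroupOf.2 h,
        fun h2 => h1 ((congrArg ν (Subtype.ext rfl)).trans h2)⟩)
  refine ⟨hsq, le_antisymm (fun g hg => ?_) fun g hg => ?_⟩
  · rw [TwoDegrees73.mem_stab]
    intro t
    refine Units.ext (mul_right_cancel₀ (irr_one_ne_zero hψ) ?_)
    rw [← hover, ← hover]
    refine Eq.trans ?_ (congrFun (hg : conjBy P ψ g = ψ) ⟨t, gam_le P n t.2⟩)
    exact congrArg ψ (Subtype.ext rfl)
  · obtain ⟨k, hk, h, hh, rfl⟩ := C.exists_decomp g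
    have hst : h ∈ TwoDegrees73.stab (gam P n) ν :=
      ((TwoDegrees73.stab (gam P n) ν).mul_mem_cancel_left (le_stab hν hk)).1 hg
    refine (DefectOne.inertia P ψ).mul_mem
      (DefectOne.le_inertia P (isClassFunction_of_isIrr hψ) hk) ?_
    have hmem : ∀ x ∈ H, ∀ r ∈ R, x * r * x⁻¹ ∈ R := fun x hx r hr => by
      obtain ⟨t, ht, c, hc, rfl⟩ := hdec r hr
      rw [show x * (t * c) * x⁻¹ = x * t * x⁻¹ * (x * c * x⁻¹) by group, C.conj_fixed hc hx]
      exact mul_mem (hTR ((gam_normal P n).conj_mem t ht x)) ((R.mul_mem_cancel_left (hTR ht)).1 hr)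
    show conjBy P ψ h = ψ
    funext x
    by_cases hx : x ∈ R'
    · rw [Subgroup.mem_subgroupOf] at hx
      obtain ⟨t, ht, c, hc, hxe⟩ := hdec _ hx
      have hcR : c ∈ R := (R.mul_mem_cancel_left (hTR ht)).1 (hxe ▸ hx)
      have ht' : h * t * h⁻¹ ∈ gam P n := (gam_normal P n).conj_mem t ht h
      let rt : R' := ⟨⟨t, gam_le P n ht⟩, Subgroup.mem_subgroupOf.2 (hTR ht)⟩
      let rt' : R' := ⟨⟨h * t * h⁻¹, gam_le P n ht'⟩, Subgroup.mem_subgroupOf.2 (hTR ht')⟩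
      let rc : R' := ⟨⟨c, hc.1⟩, Subgroup.mem_subgroupOf.2 hcR⟩
      have e2 : η rt' = η rt := by
        refine Units.ext (mul_right_cancel₀ (show (d : ℂ) ≠ 0 from hd ▸ irr_one_ne_zero hψ) ?_)
        rw [← hη, ← hη]
        refine (hover ⟨_, ht'⟩).trans (Eq.trans ?_ (hover ⟨t, ht⟩).symm)
        rw [(TwoDegrees73.mem_stab _).1 hst ⟨t, ht⟩]
      calc conjBy P ψ h x = ψ (rt' * rc : R') := by
            rw [conjBy_apply]
            refine congrArg ψ (Subtype.ext ?_)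
            show h * (x : G) * h⁻¹ = h * t * h⁻¹ * c
            rw [hxe]
            conv_rhs => rw [← C.conj_fixed hc hh]
            group
        _ = ψ (rt * rc : R') := by rw [hη, hη, map_mul, map_mul, e2]
        _ = ψ x := congrArg ψ (Subtype.ext hxe.symm)
    · rw [hvan x hx, conjBy_apply]
      refine hvan _ fun hx' => hx ?_
      rw [Subgroup.mem_subgroupOf] at hx' ⊢
      have := hmem h⁻¹ (H.inv_mem hh) _ hx'
      simpa [mul_assoc] using this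

theorem rad_le_K0 (μ : Dual P 1) (hμ : μ ≠ 1) : rad μ ≤ K0 P := by
  intro g hg
  by_contra h0
  refine hμ (Subtype.ext (Dual.eq_one_iff.2 fun t ht => ?_))
  obtain ⟨w, hw, rfl⟩ := C.exists_comm hg.1 h0 ht
  exact hg.2 w hw ht

theorem commutator_le_rad (μ : Dual P 1) : gam P 1 ≤ rad μ := fun t ht =>
  ⟨gam_le P 1 ht, fun w hw h => μ.2 _ (Subgroup.commutator_mem_commutator ht hw)⟩

/-- Over a nontrivial character of the first layer there is exactly the degree given by the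
radical. -/
theorem layer_one_char [Fintype P] (μ : Dual P 1) (hμ : μ ≠ 1) {ψ : P → ℂ}
    (hψ : Cfsg.IsIrrCharacter P ψ)
    (hover : ∀ t : gam P 1, ψ ⟨t, gam_le P 1 t.2⟩ = ((μ : gam P 1 →* ℂˣ) t : ℂ) * ψ 1) {d : ℕ}
    (hd : ψ 1 = d) :
    d ^ 2 = (rad μ).relIndex P ∧
      DefectOne.inertia P ψ = TwoDegrees73.stab (gam P 1) (μ : gam P 1 →* ℂˣ) := by
  refine C.layer_char μ.2 (rad μ) (fun g hg => hg.1) (C.commutator_le_rad μ) (fun r hr => ?_)
    (fun r hr w hw => ⟨Subgroup.commutator_mem_commutator hr.1 hw, hr.2 w hw _⟩)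
    (fun g hg hgR => ?_) hψ hover hd
  · obtain ⟨u, hu, c, hc, e⟩ := C.K0_eq (C.rad_le_K0 μ hμ hr)
    exact ⟨u, hu, c, hc, e⟩
  · by_contra hall
    push Not at hall
    exact hgR ⟨hg, hall⟩

theorem exists_degree_layer_one (μ : Dual P 1) (hμ : μ ≠ 1) :
    ∃ d, (TwoDegrees73.stab (gam P 1) (μ : gam P 1 →* ℂˣ)).index * d ∈ Cfsg.charDegrees G ∧
      d ^ 2 = (rad μ).relIndex P ∧ 1 < d ∧ ∃ j, d = p ^ j := by
  classical
  haveI := Fintype.ofFinite P
  haveI := Fact.mk C.prime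
  obtain ⟨ψ, hψ, hover⟩ := exists_over_layer μ.2
  obtain ⟨d, hd0, hd⟩ := exists_degree_pos hψ
  obtain ⟨hsq, hin⟩ := C.layer_one_char μ hμ hψ hover hd
  have hm := C.base.index_mul_mem hψ hd
  rw [hin] at hm
  refine ⟨d, hm, hsq, ?_, ?_⟩
  · by_contra hle
    have h1 : d = 1 := by omega
    rw [h1, one_pow] at hsq
    obtain ⟨g, hg, hg0⟩ := C.exists_notMem_K0
    exact hg0 (C.rad_le_K0 μ hμ (Subgroup.relIndex_eq_one.1 hsq.symm (C.Q_le hg)))
  · obtain ⟨e, he⟩ := IsPGroup.iff_card.1 C.pgroup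
    obtain ⟨k, -, hk⟩ := (Nat.dvd_prime_pow C.prime).1 (he ▸ Subgroup.relIndex_dvd_card (rad μ) P)
    rw [hk] at hsq
    obtain ⟨j, -, hj⟩ := (Nat.dvd_prime_pow C.prime).1
      ((dvd_pow_self d two_ne_zero).trans hsq.dvd)
    exact ⟨j, hj⟩

theorem actL_comm {n : ℕ} {v : gam P n →* ℂˣ} (hv : v ∈ Dual P n) (a b : G) :
    actL (gam P n) a (actL (gam P n) b v) = actL (gam P n) b (actL (gam P n) a v) := by
  have hmul : ∀ x y : G, ∀ w : gam P n →* ℂˣ,
      actL (gam P n) x (actL (gam P n) y w) = actL (gam P n) (y * x) w := fun x y w =>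
    MonoidHom.ext fun t => by
      rw [actL_apply, actL_apply, actL_apply]
      exact congrArg w (Subtype.ext (by simp [mul_assoc]))
  have hs := le_stab (n := n) (dual_actL hv (a * b)) (C.base.comm_mem b⁻¹ a⁻¹)
  rw [hmul, hmul, ← mem_stab_iff_actL.1 hs, hmul]
  exact congrArg (fun g => actL (gam P n) g v) (by group)

/-- The stabilisers pass to the twisted characters. -/
theorem stab_le_twist {n : ℕ} {v : gam P n →* ℂˣ} (hv : v ∈ Dual P n) (z : G) :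
    TwoDegrees73.stab (gam P n) v ≤ TwoDegrees73.stab (gam P n) (actL (gam P n) z v / v) :=
  fun g hg => by
    rw [mem_stab_iff_actL] at hg ⊢
    refine (map_div (actL (gam P n) g) _ _).trans ?_
    rw [C.actL_comm hv, hg]

theorem stab_mul_le {n : ℕ} (v w : gam P n →* ℂˣ) :
    TwoDegrees73.stab (gam P n) v ⊓ TwoDegrees73.stab (gam P n) w ≤
      TwoDegrees73.stab (gam P n) (v * w) := fun g hg => by
  rw [mem_stab_iff_actL, map_mul, mem_stab_iff_actL.1 hg.1, mem_stab_iff_actL.1 hg.2]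

/-- An element either fixes all characters of the first layer or only the trivial one. -/
theorem layer_one_dichotomy (z : G) :
    (∀ μ ∈ Dual P 1, z ∈ TwoDegrees73.stab (gam P 1) μ) ∨
      (∀ μ ∈ Dual P 1, z ∈ TwoDegrees73.stab (gam P 1) μ → μ = 1) := by
  classical
  haveI : Finite (gam P 1 →* ℂˣ) := TwoComponents73.finite_hom
  let d : Dual P 1 →* Dual P 1 :=
    ((actL (gam P 1) z / MonoidHom.id (gam P 1 →* ℂˣ)).comp (Dual P 1).subtype).codRestrict (Dual P 1)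
      fun μ => (Dual P 1).div_mem (dual_actL μ.2 z) μ.2
  let S : Dual P 1 → Subgroup G := fun μ => TwoDegrees73.stab (gam P 1) (μ : gam P 1 →* ℂˣ)
  have hS1 : ∀ g : G, g ∈ S 1 := fun g => (mem_stab_iff_actL (T := gam P 1) (μ := 1)).2 (map_one _)
  have hz : ∀ μ, z ∈ S μ ↔ d μ = 1 := fun μ =>
    (mem_stab_iff_actL (T := gam P 1) (μ := (μ : gam P 1 →* ℂˣ))).trans
      ⟨fun h => Subtype.ext (div_eq_one.2 h), fun h => div_eq_one.1 (congrArg Subtype.val h)⟩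
  have hRd : ∀ v w : Dual P 1, v ≠ 1 → rad v ≤ rad w → rad v ≤ rad (d w) := by
    intro v w hv hle r hr
    refine ⟨hr.1, fun x hx h => ?_⟩
    show (actL (gam P 1) z w / (w : gam P 1 →* ℂˣ)) ⟨⁅r, x⁆, h⟩ = 1
    rw [MonoidHom.div_apply, (hle hr).2 x hx h, div_one, actL_apply]
    have hr0 := (mem_K0 P).1 (C.rad_le_K0 v hv hr)
    have hr' : z * r * z⁻¹ ∈ rad w := by
      rw [show z * r * z⁻¹ = ⁅z, r⁆ * r by group]
      exact mul_mem (C.commutator_le_rad w (hr0.2 z)) (hle hr)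
    refine Eq.trans ?_ (hr'.2 _ (hP.conj_mem x hx z)
      (Subgroup.commutator_mem_commutator hr'.1 (hP.conj_mem x hx z)))
    exact congrArg (w : gam P 1 →* ℂˣ) (Subtype.ext (by
      show z * ⁅r, x⁆ * z⁻¹ = ⁅z * r * z⁻¹, z * x * z⁻¹⁆
      group))
  have key : ∀ v w : Dual P 1, v ≠ 1 → w ≠ 1 → S v ≤ S w → rad v ≤ rad w → S v = S w := by
    intro v w hv hw hS hR
    obtain ⟨dv, hmv, hsv, hv1, -⟩ := C.exists_degree_layer_one v hv
    obtain ⟨dw, hmw, hsw, hw1, -⟩ := C.exists_degree_layer_one w hw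
    have hd : dw ∣ dv := (Nat.pow_dvd_pow_iff two_ne_zero).1
      (by rw [hsv, hsw]; exact Subgroup.relIndex_dvd_of_le_left P hR)
    have hi : (S w).index ∣ (S v).index := Subgroup.index_dvd_of_le hS
    have hne : (S w).index ≠ 0 := Subgroup.index_ne_zero_of_finite
    have h1 : 1 < (S w).index * dw :=
      lt_of_lt_of_le hw1 (Nat.le_mul_of_pos_left dw (Nat.pos_of_ne_zero hne))
    have heq := C.base.nd.eq_of_dvd hmw hmv h1 (Nat.mul_dvd_mul hi hd)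
    obtain ⟨a, ha⟩ := hi
    obtain ⟨b, hb⟩ := hd
    rw [ha, hb, show (S w).index * a * (dw * b) = (S w).index * dw * (a * b) by ring] at heq
    have hab : a * b = 1 := (Nat.mul_eq_left (by omega : (S w).index * dw ≠ 0)).1 heq.symm
    refine le_antisymm hS (Subgroup.relIndex_eq_one.1 ?_)
    have h4 := Subgroup.relIndex_mul_index hS
    rw [ha, Nat.eq_one_of_mul_eq_one_right hab, mul_one] at h4
    exact Nat.eq_of_mul_eq_mul_right (Nat.pos_of_ne_zero hne) (h4.trans (one_mul _).symm)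
  have hRmul : ∀ v w : Dual P 1, rad v ⊓ rad w ≤ rad (v * w) := fun v w g hg =>
    ⟨hg.1.1, fun x hx h => by
      show ((v : gam P 1 →* ℂˣ) * (w : gam P 1 →* ℂˣ)) ⟨⁅g, x⁆, h⟩ = 1
      rw [MonoidHom.mul_apply, hg.1.2 x hx h, hg.2.2 x hx h, one_mul]⟩
  rcases all_or_none d S rad z hz (fun v => C.stab_le_twist v.2 z)
    (fun v w => C.stab_mul_le (v : gam P 1 →* ℂˣ) w) hS1 hRd hRmul
    (fun v g hg => ⟨hg.1, fun x hx h => rfl⟩) key with h | h
  · exact Or.inl fun μ hμ => (hz ⟨μ, hμ⟩).2 (h _)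
  · exact Or.inr fun μ hμ hzμ => congrArg Subtype.val (h _ ((hz ⟨μ, hμ⟩).1 hzμ))

theorem stab_eq_layerKer {μ : gam P 1 →* ℂˣ} (hμ : μ ∈ Dual P 1) (hne : μ ≠ 1) :
    TwoDegrees73.stab (gam P 1) μ = layerKer P := by
  refine le_antisymm (fun z hz => ?_) (iInf_le _ (⟨μ, hμ⟩ : Dual P 1))
  rw [mem_layerKer_iff]
  rcases C.layer_one_dichotomy z with h | h
  · exact h
  · exact absurd (h μ hμ hz) hne

theorem fpf_of_notMem_layerKer {z : G} (hz : z ∉ layerKer P) :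
    ∀ μ ∈ Dual P 1, z ∈ TwoDegrees73.stab (gam P 1) μ → μ = 1 := by
  rcases C.layer_one_dichotomy z with h | h
  · exact absurd (mem_layerKer_iff.2 h) hz
  · exact h

theorem exists_dual_ne : ∃ μ : Dual P 1, μ ≠ 1 := by
  by_contra hall
  push Not at hall
  refine C.nonab ?_
  have h : gam P 1 ≤ gam P 2 := fun u hu => mem_of_forall_dual hu fun μ hμ => by
    rw [show μ = 1 from congrArg Subtype.val (hall ⟨μ, hμ⟩)]; rfl
  exact le_bot_iff.1 (C.le_of_le_sup (N := ⊥) (gam_le P 1) (h.trans le_sup_right))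

/-- A nontrivial element of the complement fixes the first layer. -/
theorem exists_mem_layerKer : ∃ x ∈ H, x ≠ 1 ∧ x ∈ layerKer P := by
  obtain ⟨μ, hμ⟩ := C.exists_dual_ne
  obtain ⟨h, hh, h1, hst⟩ := C.exists_fixing_dual μ.2 fun e => hμ (Subtype.ext e)
  exact ⟨h, hh, h1, C.stab_eq_layerKer μ.2 (fun e => hμ (Subtype.ext e)) ▸ hst⟩

/-- **The degree over the first layer.** -/
theorem exists_degree_one : ∃ d, 1 < d ∧ (∃ j, d = p ^ j) ∧
    (layerKer P).index * d ∈ Cfsg.charDegrees G ∧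
      ∀ μ : Dual P 1, μ ≠ 1 → (rad μ).relIndex P = d ^ 2 := by
  obtain ⟨μ₀, hμ₀⟩ := C.exists_dual_ne
  have hne : ∀ μ : Dual P 1, μ ≠ 1 → (μ : gam P 1 →* ℂˣ) ≠ 1 := fun μ h e => h (Subtype.ext e)
  obtain ⟨d, hm, hsq, h1, j, rfl⟩ := C.exists_degree_layer_one μ₀ hμ₀
  rw [C.stab_eq_layerKer μ₀.2 (hne μ₀ hμ₀)] at hm
  refine ⟨p ^ j, h1, ⟨j, rfl⟩, hm, fun μ hμ => ?_⟩
  obtain ⟨d', hm', hsq', h1', j', rfl⟩ := C.exists_degree_layer_one μ hμ
  rw [C.stab_eq_layerKer μ.2 (hne μ hμ)] at hm'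
  have hpos : 0 < (layerKer P).index := Nat.pos_of_ne_zero Subgroup.index_ne_zero_of_finite
  rw [← hsq']
  congr 1
  refine Nat.eq_of_mul_eq_mul_left hpos ?_
  rcases le_total j' j with h | h
  · exact C.base.nd.eq_of_dvd hm' hm (lt_of_lt_of_le h1' (Nat.le_mul_of_pos_left _ hpos))
      (Nat.mul_dvd_mul_left _ (pow_dvd_pow p h))
  · exact (C.base.nd.eq_of_dvd hm hm' (lt_of_lt_of_le h1 (Nat.le_mul_of_pos_left _ hpos))
      (Nat.mul_dvd_mul_left _ (pow_dvd_pow p h))).symm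

end Core

end CfsgLib.NoDivDegrees
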