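import Cfsg.Agent.NoDivDegrees.Tools
import Cfsg.Agent.NoDivDegrees.ClassFour
import Cfsg.Agent.Coprime.Action
import Cfsg.Agent.Coprime.PTimesQ
import Cfsg.Agent.CharactersDeep.Clifford

/-!
# The `p`-group case: the setting and the linear characters of the lower central layers
-/

set_option autoImplicit false
set_option linter.style.haveILetI false
set_option linter.unusedSectionVars false

namespace CfsgLib.NoDivDegrees

open CfsgLib.Characters CfsgLib.OddOrderChar CfsgLib.CharactersDeep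
open scoped ComplexConjugate commutatorElement

universe u

variable {G : Type u} [Group G] [Fintype G]

instance gam_normal (P : Subgroup G) [hP : P.Normal] : ∀ n, (gam P n).Normal
  | 0 => hP
  | n + 1 => @Subgroup.commutator_normal _ _ _ _ (gam_normal P n) hP

theorem gam_le (P : Subgroup G) [P.Normal] : ∀ n, gam P n ≤ P
  | 0 => le_rfl
  | n + 1 => Subgroup.commutator_le_right (gam P n) P

theorem gam_succ_le (P : Subgroup G) [P.Normal] (n : ℕ) : gam P (n + 1) ≤ gam P n :=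
  Subgroup.commutator_le_left (gam P n) P

theorem gam_anti (P : Subgroup G) [P.Normal] {m n : ℕ} (h : m ≤ n) : gam P n ≤ gam P m := by
  induction h with
  | refl => exact le_rfl
  | step _ ih => exact (gam_succ_le P _).trans ih

theorem commutator_gam_le (P : Subgroup G) (i j : ℕ) :
    ⁅gam P i, gam P j⁆ ≤ gam P (i + j + 1) := by
  rw [← ClassFour.map_gam P i, ← ClassFour.map_gam P j, ← ClassFour.map_gam P (i + j + 1),
    ← Subgroup.map_commutator]
  exact Subgroup.map_mono (FpfClass.commutator_gam_le i j)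

/-- Three subgroups, modulo a normal subgroup. -/
theorem three_subgroups (A B D N : Subgroup G) [N.Normal] (h1 : ⁅⁅B, D⁆, A⁆ ≤ N)
    (h2 : ⁅⁅D, A⁆, B⁆ ≤ N) : ⁅⁅A, B⁆, D⁆ ≤ N := by
  have key : ∀ K : Subgroup G, K.map (QuotientGroup.mk' N) = ⊥ ↔ K ≤ N := fun K => by
    rw [Subgroup.map_eq_bot_iff, QuotientGroup.ker_mk']
  rw [← key, Subgroup.map_commutator, Subgroup.map_commutator] at h1 h2 ⊢
  exact Subgroup.commutator_commutator_eq_bot_of_rotate h1 h2

theorem commutator_sup_le (A B D N : Subgroup G) [N.Normal] (h1 : ⁅A, D⁆ ≤ N) (h2 : ⁅B, D⁆ ≤ N) :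
    ⁅A ⊔ B, D⁆ ≤ N := by
  have key : ∀ K : Subgroup G, K.map (QuotientGroup.mk' N) = ⊥ ↔ K ≤ N := fun K => by
    rw [Subgroup.map_eq_bot_iff, QuotientGroup.ker_mk']
  rw [← key, Subgroup.map_commutator, Subgroup.commutator_eq_bot_iff_le_centralizer] at h1 h2 ⊢
  rw [Subgroup.map_sup]
  exact sup_le h1 h2

/-- The setting: `P` is a nonabelian normal `p`-subgroup with complement `H` and base data. -/
structure Core (P H : Subgroup G) [P.Normal] (p : ℕ) : Prop where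
  base : Base P
  prime : p.Prime
  pgroup : IsPGroup p P
  compl : Subgroup.IsComplement' P H
  nonab : ⁅P, P⁆ ≠ ⊥

/-- Linear characters of a layer. -/
def Dual (P : Subgroup G) (n : ℕ) : Subgroup (gam P n →* ℂˣ) where
  carrier := {l | ∀ b : gam P n, (b : G) ∈ gam P (n + 1) → l b = 1}
  one_mem' _ _ := rfl
  mul_mem' {l l'} hl hl' b hb := by rw [MonoidHom.mul_apply, hl b hb, hl' b hb, one_mul]
  inv_mem' {l} hl b hb := by rw [MonoidHom.inv_apply, hl b hb, inv_one]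

variable {P H : Subgroup G} [hP : P.Normal] {p : ℕ}

theorem Dual.eq_one_iff {n : ℕ} {μ : gam P n →* ℂˣ} :
    μ = 1 ↔ ∀ (t : G) (ht : t ∈ gam P n), μ ⟨t, ht⟩ = 1 :=
  ⟨fun h t ht => by rw [h]; rfl, fun h => MonoidHom.ext fun t => h t t.2⟩

/-- Linear characters separate the elements of a layer. -/
theorem mem_of_forall_dual {n : ℕ} {u : G} (hu : u ∈ gam P n)
    (h : ∀ μ ∈ Dual P n, μ ⟨u, hu⟩ = 1) : u ∈ gam P (n + 1) := by
  by_contra hne
  obtain ⟨l, hl, hl1⟩ := TwoComponents73.exists_lin ((gam P (n + 1)).subgroupOf (gam P n))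
    (fun x hx => by
      have h2 : (x : G) ∈ ⁅gam P n, gam P n⁆ :=
        Subgroup.map_subtype_commutator (gam P n) ▸ Subgroup.mem_map_of_mem _ hx
      exact Subgroup.mem_subgroupOf.2 (Subgroup.commutator_mono le_rfl (gam_le P n) h2))
    (a := ⟨u, hu⟩) (fun h' => hne (Subgroup.mem_subgroupOf.1 h'))
  exact hl1 (h l fun b hb => hl b (Subgroup.mem_subgroupOf.2 hb))

/-- Elements of `P` act trivially on the layers. -/
theorem le_stab {n : ℕ} {μ : gam P n →* ℂˣ} (hμ : μ ∈ Dual P n) :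
    P ≤ TwoDegrees73.stab (gam P n) μ := fun k hk => by
  rw [TwoDegrees73.mem_stab]
  intro t
  have hc : ⁅(t : G)⁻¹, k⁆ ∈ gam P (n + 1) :=
    Subgroup.commutator_mem_commutator (inv_mem t.2) hk
  have e : (⟨k * t * k⁻¹, (gam_normal P n).conj_mem t t.2 k⟩ : gam P n) =
      t * ⟨⁅(t : G)⁻¹, k⁆, gam_succ_le P n hc⟩ := Subtype.ext (by
        show k * (t : G) * k⁻¹ = (t : G) * ⁅(t : G)⁻¹, k⁆
        group)
  rw [e, map_mul, hμ ⟨_, gam_succ_le P n hc⟩ hc, mul_one]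

theorem dual_actL {n : ℕ} {μ : gam P n →* ℂˣ} (hμ : μ ∈ Dual P n) (g : G) :
    actL (gam P n) g μ ∈ Dual P n := fun b hb => by
  rw [actL_apply]
  exact hμ _ ((gam_normal P (n + 1)).conj_mem _ hb g)

theorem mem_stab_iff_actL {T : Subgroup G} [T.Normal] {μ : T →* ℂˣ} {g : G} :
    g ∈ TwoDegrees73.stab T μ ↔ actL T g μ = μ := by
  rw [TwoDegrees73.mem_stab, MonoidHom.ext_iff]
  exact forall_congr' fun t => by rw [actL_apply]

/-- A fixed-point-free action on the characters of a layer has no fixed points on the layer. -/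
theorem fixed_mem {n : ℕ} {z u : G} (hu : u ∈ gam P n) (hzu : ⁅z, u⁆ ∈ gam P (n + 1))
    (hfpf : ∀ μ ∈ Dual P n, z ∈ TwoDegrees73.stab (gam P n) μ → μ = 1) : u ∈ gam P (n + 1) := by
  haveI : Finite (gam P n →* ℂˣ) := TwoComponents73.finite_hom
  let d : Dual P n → Dual P n := fun μ => ⟨actL (gam P n) z μ / μ,
    (Dual P n).div_mem (dual_actL μ.2 z) μ.2⟩
  have hinj : Function.Injective d := fun a b hab => by
    have h1 : actL (gam P n) z a / (a : gam P n →* ℂˣ) = actL (gam P n) z b / b :=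
      congrArg Subtype.val hab
    refine Subtype.ext (div_eq_one.1 (hfpf _ ((Dual P n).div_mem a.2 b.2) (mem_stab_iff_actL.2 ?_)))
    rw [map_div]
    exact div_eq_div_iff_div_eq_div.1 h1
  refine mem_of_forall_dual hu fun μ hμ => ?_
  obtain ⟨ν, hν⟩ := (Finite.injective_iff_surjective.1 hinj) ⟨μ, hμ⟩
  rw [← show actL (gam P n) z ν / (ν : gam P n →* ℂˣ) = μ from congrArg Subtype.val hν,
    MonoidHom.div_apply, actL_apply]
  have e : (⟨z * u * z⁻¹, (gam_normal P n).conj_mem u hu z⟩ : gam P n) =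
      ⟨⁅z, u⁆, gam_succ_le P n hzu⟩ * ⟨u, hu⟩ := Subtype.ext (by
        show z * u * z⁻¹ = ⁅z, u⁆ * u
        group)
  rw [e, map_mul, ν.2 ⟨_, gam_succ_le P n hzu⟩ hzu, one_mul, div_self']

namespace Core

variable (C : Core P H p)

include C

theorem p_dvd : p ∣ (K0 P).relIndex P := by
  haveI := Fact.mk C.prime
  obtain ⟨e, he⟩ := IsPGroup.iff_card.1 C.pgroup
  obtain ⟨k, -, hk⟩ := (Nat.dvd_prime_pow C.prime).1
    (he ▸ Subgroup.relIndex_dvd_card (K0 P) P)
  rw [hk]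
  refine dvd_pow_self p fun h0 => C.base.K0_lt ?_
  rw [h0, pow_zero, Subgroup.relIndex_eq_one] at hk
  exact le_antisymm (K0_le P) hk

theorem coprime_index : Nat.Coprime p P.index :=
  C.base.coprime_relIndex.coprime_dvd_left C.p_dvd

theorem card_H : Nat.card H = P.index := C.compl.symm.index_eq_card.symm

theorem coprime_H : (Nat.card H).Coprime (Nat.card P) := by
  haveI := Fact.mk C.prime
  obtain ⟨e, he⟩ := IsPGroup.iff_card.1 C.pgroup
  rw [C.card_H, he]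
  exact C.coprime_index.symm.pow_right e

theorem coprime_orderOf {h : G} (hh : h ∈ H) : (orderOf h).Coprime (Nat.card P) :=
  C.coprime_H.coprime_dvd_left (Subgroup.orderOf_dvd_natCard H hh)

theorem eq_one_of_mem {h : G} (hh : h ∈ H) (hP' : h ∈ P) : h = 1 :=
  Subgroup.disjoint_def.1 C.compl.disjoint hP' hh

theorem notMem {h : G} (hh : h ∈ H) (h1 : h ≠ 1) : h ∉ P := fun h' => h1 (C.eq_one_of_mem hh h')

theorem H_comm {a b : G} (ha : a ∈ H) (hb : b ∈ H) : a * b = b * a := by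
  rw [← commutatorElement_eq_one_iff_mul_comm]
  exact C.eq_one_of_mem (H.mul_mem (H.mul_mem (H.mul_mem ha hb) (H.inv_mem ha)) (H.inv_mem hb))
    (C.base.comm_mem a b)

theorem exists_decomp (g : G) : ∃ k ∈ P, ∃ h ∈ H, g = k * h := by
  obtain ⟨⟨⟨k, hk⟩, ⟨h, hh⟩⟩, e⟩ := C.compl.2 g
  exact ⟨k, hk, h, hh, e.symm⟩

theorem exists_ne_one : ∃ h ∈ H, h ≠ 1 := by
  by_contra hall
  push Not at hall
  have h1 : Nat.card H = 1 := Subgroup.card_eq_one.2 ((Subgroup.eq_bot_iff_forall H).2 hall)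
  have := C.card_H ▸ h1
  exact absurd this C.base.one_lt.ne'

theorem Q_le : ⁅P, H⁆ ≤ P := Subgroup.commutator_le_left P H

theorem Q_normal : (⁅P, H⁆).Normal := by
  rw [← Subgroup.normalizer_eq_top_iff, ← top_le_iff, ← C.compl.sup_eq_top]
  exact Coprime.sup_le_normalizer_commutator P H

theorem sup_eq : ⁅P, H⁆ ⊔ (P ⊓ Subgroup.centralizer (H : Set G)) = P :=
  Coprime.commutator_sup_centralizer Subgroup.le_normalizer_of_normal C.coprime_H
    (Or.inl (Group.isSolvable_of_comm fun a b => Subtype.ext (C.H_comm a.2 b.2)))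

theorem exists_mul {k : G} (hk : k ∈ P) :
    ∃ q ∈ ⁅P, H⁆, ∃ c ∈ P ⊓ Subgroup.centralizer (H : Set G), k = q * c := by
  haveI := C.Q_normal
  obtain ⟨q, hq, c, hc, e⟩ := Subgroup.mem_sup_of_normal_left.1 (C.sup_eq.symm ▸ hk :
    k ∈ ⁅P, H⁆ ⊔ (P ⊓ Subgroup.centralizer (H : Set G)))
  exact ⟨q, hq, c, hc, e.symm⟩

theorem conj_fixed {c h : G} (hc : c ∈ P ⊓ Subgroup.centralizer (H : Set G)) (hh : h ∈ H) :
    h * c * h⁻¹ = c := by
  rw [Subgroup.mem_centralizer_iff.1 hc.2 h hh, mul_inv_cancel_right]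

theorem centralizer_le_K0 : P ⊓ Subgroup.centralizer (H : Set G) ≤ K0 P := fun c hc => by
  obtain ⟨h, hh, h1⟩ := C.exists_ne_one
  refine C.base.mem_K0_of (C.notMem hh h1) hc.1 ?_
  rw [commutatorElement_eq_one_iff_mul_comm.2 (Subgroup.mem_centralizer_iff.1 hc.2 h hh)]
  exact one_mem _

/-- Modulo the derived subgroup, elements of `[P, H]` are commutators with any element outside. -/
theorem mem_range_of_mem_Q {z : G} (hz : z ∉ P) {q : G} (hq : q ∈ ⁅P, H⁆) :
    Abelianization.of (⟨q, C.Q_le hq⟩ : P) ∈ (dd P z).range := by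
  suffices h : ⁅P, H⁆ ≤ (((dd P z).range).comap Abelianization.of).map P.subtype by
    obtain ⟨x, hx, e⟩ := h hq
    rwa [show (⟨q, C.Q_le hq⟩ : P) = x from Subtype.ext e.symm]
  refine Subgroup.commutator_le.2 fun k hk h _ => ?_
  refine ⟨⟨⁅k, h⁆, C.base.comm_mem k h⟩, ?_, rfl⟩
  refine C.base.range_dd_le hz ?_ (g' := h)
  refine ⟨(Abelianization.of (⟨k, hk⟩ : P))⁻¹, ?_⟩
  rw [map_inv, dd_apply, sig_of, ← map_div, ← map_inv]
  refine congrArg Abelianization.of (Subtype.ext ?_)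
  simp [commutatorElement_def, div_eq_mul_inv, mul_assoc]

theorem exists_comm_mul {z : G} (hz : z ∉ P) {q : G} (hq : q ∈ ⁅P, H⁆) :
    ∃ x ∈ P, ∃ t ∈ ⁅P, P⁆, q = z * x * z⁻¹ * x⁻¹ * t := by
  obtain ⟨a, ha⟩ := C.mem_range_of_mem_Q hz hq
  induction a using QuotientGroup.induction_on with
  | _ x =>
    refine ⟨x, x.2, (z * x * z⁻¹ * (x : G)⁻¹)⁻¹ * q, ?_, by group⟩
    have e : dd P z (Abelianization.of x) =
        Abelianization.of (⟨z * x * z⁻¹ * (x : G)⁻¹, C.base.comm_mem z x⟩ : P) := by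
      rw [dd_apply, sig_of, ← map_div]
      exact congrArg Abelianization.of (Subtype.ext (by simp [div_eq_mul_inv]))
    have h2 : Abelianization.of ((⟨z * x * z⁻¹ * (x : G)⁻¹, C.base.comm_mem z x⟩ : P)⁻¹ *
        ⟨q, C.Q_le hq⟩) = 1 := by
      rw [map_mul, map_inv, ← e, inv_mul_eq_one]
      exact ha
    exact (of_eq_one_iff P).1 h2

theorem Q_inf_K0 {q : G} (hq : q ∈ ⁅P, H⁆) (h0 : q ∈ K0 P) : q ∈ ⁅P, P⁆ := by
  obtain ⟨h, hh, h1⟩ := C.exists_ne_one
  refine (of_eq_one_iff P (k := ⟨q, C.Q_le hq⟩)).1 (C.base.eq_one_of_fixed_range (C.notMem hh h1)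
    ?_ (C.mem_range_of_mem_Q (C.notMem hh h1) hq))
  rw [mem_ker_dd, sig_of_eq_iff]
  exact ((mem_K0 P).1 h0).2 h

theorem mem_commutator_of_fixed {z : G} (hz : z ∉ P) {q : G} (hq : q ∈ ⁅P, H⁆)
    (h : ⁅z, q⁆ ∈ ⁅P, P⁆) : q ∈ ⁅P, P⁆ :=
  C.Q_inf_K0 hq (C.base.mem_K0_of hz (C.Q_le hq) h)

theorem K0_eq {k : G} (hk : k ∈ K0 P) :
    ∃ u ∈ ⁅P, P⁆, ∃ c ∈ P ⊓ Subgroup.centralizer (H : Set G), k = u * c := by
  obtain ⟨q, hq, c, hc, rfl⟩ := C.exists_mul (K0_le P hk)
  exact ⟨q, C.Q_inf_K0 hq (((K0 P).mul_mem_cancel_right (C.centralizer_le_K0 hc)).1 hk), c, hc, rfl⟩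

theorem exists_notMem_K0 : ∃ g ∈ ⁅P, H⁆, g ∉ K0 P := by
  by_contra hall
  push Not at hall
  refine C.base.K0_lt (le_antisymm (K0_le P) ?_)
  intro k hk
  obtain ⟨q, hq, c, hc, rfl⟩ := C.exists_mul hk
  exact (K0 P).mul_mem (hall q hq) (C.centralizer_le_K0 hc)

/-- A normal subgroup absorbing the commutators of `X` absorbs `X`. -/
theorem le_of_le_sup {N X : Subgroup G} [N.Normal] [X.Normal] (hX : X ≤ P)
    (h : X ≤ N ⊔ ⁅X, P⁆) : X ≤ N := by
  haveI := Fact.mk C.prime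
  have key : ∀ K : Subgroup G, K.map (QuotientGroup.mk' N) = ⊥ ↔ K ≤ N := fun K => by
    rw [Subgroup.map_eq_bot_iff, QuotientGroup.ker_mk']
  rw [← key]
  by_contra hne
  set π := QuotientGroup.mk' N with hπ
  haveI : (X.map π).Normal := ‹X.Normal›.map π (QuotientGroup.mk'_surjective N)
  have hlt := Coprime.commutator_lt_of_isPGroup (U := X.map π) (P := P.map π)
    ((C.pgroup.to_le hX).map π) (C.pgroup.map π) Subgroup.le_normalizer_of_normal hne
  have hle : X.map π ≤ ⁅X.map π, P.map π⁆ := by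
    refine (Subgroup.map_mono h).trans ?_
    rw [Subgroup.map_sup, hπ, (key N).2 le_rfl, bot_sup_eq, Subgroup.map_commutator]
  exact hlt.not_ge hle

/-- Every element of the derived subgroup is a commutator with a given element outside `K0`. -/
theorem exists_comm {g : G} (hg : g ∈ P) (h0 : g ∉ K0 P) {u : G} (hu : u ∈ ⁅P, P⁆) :
    ∃ w ∈ P, ⁅g, w⁆ = u := by
  haveI := Fintype.ofFinite P
  exact exists_commutator_of_card P ⟨g, hg⟩ (C.base.card_centralizer (k := ⟨g, hg⟩) h0) u hu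

end Core

/-- An irreducible character of a normal subgroup over an invariant linear character of a smaller
one. -/
theorem exists_over_normal (K T : Subgroup G) [T.Normal] [Fintype K] (hTK : T ≤ K)
    (ν : T →* ℂˣ) (hinv : K ≤ TwoDegrees73.stab T ν) :
    ∃ ψ : K → ℂ, Cfsg.IsIrrCharacter K ψ ∧
      ∀ t : T, ψ ⟨t, hTK t.2⟩ = (ν t : ℂ) * ψ 1 := by
  classical
  set T' := T.subgroupOf K with hT'
  haveI : T'.Normal := Subgroup.normal_subgroupOf
  haveI := Fintype.ofFinite T'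
  let e : T' ≃* T := Subgroup.subgroupOfEquivOfLe hTK
  let ν' : T' →* ℂˣ := ν.comp e.toMonoidHom
  obtain ⟨ψ, hψ, hne⟩ := CharactersDeep.Clifford.exists_over T' (isIrr_linChar ν')
  have hinv' : ∀ g : K, conjBy T' (fun t => (ν' t : ℂ)) g = fun t => (ν' t : ℂ) := fun g =>
    funext fun t => by
      have h := hinv g.2
      rw [TwoDegrees73.mem_stab] at h
      exact congrArg Units.val (h (e t))
  obtain ⟨k, -, hk, -⟩ :=
    CharactersDeep.Clifford.restrict_eq_smul T' hψ (isIrr_linChar ν') hinv' hne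
  refine ⟨ψ, hψ, fun t => ?_⟩
  have h1 := congrFun hk (e.symm t)
  have h0 := congrFun hk 1
  simp only [Pi.smul_apply, smul_eq_mul, map_one, Units.val_one, mul_one, OneMemClass.coe_one] at h0
  rw [h0, mul_comm]
  refine Eq.trans ?_ (h1.trans ?_)
  · exact congrArg ψ (Subtype.ext rfl)
  · simp [ν']

/-- An irreducible character of `P` over a linear character of a layer. -/
theorem exists_over_layer {n : ℕ} [Fintype P] {μ : gam P n →* ℂˣ} (hμ : μ ∈ Dual P n) :
    ∃ ψ : P → ℂ, Cfsg.IsIrrCharacter P ψ ∧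
      ∀ t : gam P n, ψ ⟨t, gam_le P n t.2⟩ = (μ t : ℂ) * ψ 1 :=
  exists_over_normal P (gam P n) (gam_le P n) μ (le_stab hμ)

namespace Core

variable (C : Core P H p)

include C

/-- An element of the complement fixing a linear character of a layer inside the derived subgroup. -/
theorem exists_fixing_dual {n : ℕ} {μ : gam P (n + 1) →* ℂˣ} (hμ : μ ∈ Dual P (n + 1))
    (hne : μ ≠ 1) : ∃ h ∈ H, h ≠ 1 ∧ h ∈ TwoDegrees73.stab (gam P (n + 1)) μ := by
  classical
  haveI := Fintype.ofFinite P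
  obtain ⟨ψ, hψ, hover⟩ := exists_over_layer hμ
  have h1 : ψ 1 ≠ 1 := fun h1 => hne (MonoidHom.ext fun t => Units.ext (by
    have hc : (⟨t, gam_le P (n + 1) t.2⟩ : P) ∈ commutator P := by
      have h2 : ((t : G)) ∈ ⁅P, P⁆ := by
        have := gam_anti P (Nat.succ_pos n : 1 ≤ n + 1) t.2
        exact this
      rw [← Subgroup.map_subtype_commutator P] at h2
      obtain ⟨x, hx, e⟩ := h2
      rwa [show (⟨t, gam_le P (n + 1) t.2⟩ : P) = x from Subtype.ext e.symm]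
    have h3 := hover t
    rw [SameDegree.linear_commutator hψ h1 hc, h1, mul_one] at h3
    exact h3.symm))
  obtain ⟨g, hg, hfix⟩ := C.base.exists_fixing hψ h1
  obtain ⟨k, hk, h, hh, rfl⟩ := C.exists_decomp g
  refine ⟨h, hh, fun e => hg (by rw [e, mul_one]; exact hk), ?_⟩
  have hfull : k * h ∈ TwoDegrees73.stab (gam P (n + 1)) μ := by
    rw [TwoDegrees73.mem_stab]
    intro t
    refine Units.ext (mul_right_cancel₀ (irr_one_ne_zero hψ) ?_)
    rw [← hover, ← hover]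
    refine Eq.trans ?_ (congrFun hfix ⟨t, gam_le P (n + 1) t.2⟩)
    exact congrArg ψ (Subtype.ext rfl)
  exact ((TwoDegrees73.stab (gam P (n + 1)) μ).mul_mem_cancel_left (le_stab hμ hk)).1 hfull

/-- A pairing `x ↦ ν [u, x]` invariant under an element outside `P` kills `[P, H]`. -/
theorem pair_kill {n : ℕ} {ν : gam P n →* ℂˣ} (hν : ν ∈ Dual P n) {u z : G}
    (hu : ∀ x ∈ P, ⁅u, x⁆ ∈ gam P n) (hz : z ∉ P)
    (hu' : ∀ (x : G) (hx : x ∈ P), x ∈ ⁅P, P⁆ → ν ⟨⁅u, x⁆, hu x hx⟩ = 1)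
    (hinv : ∀ (x : G) (hx : x ∈ P), ν ⟨⁅u, z * x * z⁻¹⁆, hu _ (hP.conj_mem x hx z)⟩ =
      ν ⟨⁅u, x⁆, hu x hx⟩)
    {q : G} (hq : q ∈ ⁅P, H⁆) : ν ⟨⁅u, q⁆, hu q (C.Q_le hq)⟩ = 1 := by
  let φ : P →* ℂˣ := MonoidHom.mk' (fun x => ν ⟨⁅u, (x : G)⁆, hu x x.2⟩) fun a b => by
    have hs := (TwoDegrees73.mem_stab _).1 (le_stab hν a.2) ⟨⁅u, (b : G)⁆, hu b b.2⟩
    rw [← hs, ← map_mul]
    refine congrArg ν (Subtype.ext ?_)
    show ⁅u, (a : G) * b⁆ = ⁅u, (a : G)⁆ * ((a : G) * ⁅u, (b : G)⁆ * (a : G)⁻¹)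
    group
  obtain ⟨x, hx, t, ht, e⟩ := C.exists_comm_mul hz hq
  have htP : t ∈ P := Subgroup.commutator_le_self P ht
  have h1 : (⟨q, C.Q_le hq⟩ : P) = ⟨z * x * z⁻¹, hP.conj_mem x hx z⟩ * ⟨x, hx⟩⁻¹ * ⟨t, htP⟩ :=
    Subtype.ext e
  show φ ⟨q, C.Q_le hq⟩ = 1
  rw [h1, map_mul, map_mul, map_inv,
    show φ ⟨z * x * z⁻¹, hP.conj_mem x hx z⟩ = φ ⟨x, hx⟩ from hinv x hx, mul_inv_cancel, one_mul]
  exact hu' t htP ht

/-- `[P, H]` commutes with `C_P(H)` modulo `γ₃`. -/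
theorem commutator_centralizer_le :
    ⁅⁅P, H⁆, P ⊓ Subgroup.centralizer (H : Set G)⁆ ≤ gam P 2 := by
  refine Subgroup.commutator_le.2 fun q hq c hc => ?_
  have hcP : c ∈ P := hc.1
  suffices h : ⁅c, q⁆ ∈ gam P 2 by
    rw [← commutatorElement_inv]; exact inv_mem h
  refine mem_of_forall_dual (n := 1) (Subgroup.commutator_mem_commutator hcP (C.Q_le hq))
    fun μ hμ => ?_
  by_cases hne : μ = 1
  · rw [hne]; rfl
  obtain ⟨z, hzH, hz1, hz⟩ := C.exists_fixing_dual hμ hne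
  refine C.pair_kill (u := c) hμ (fun x hx => Subgroup.commutator_mem_commutator hcP hx)
    (C.notMem hzH hz1) (fun x hx hx' => hμ _ ?_) (fun x hx => ?_) hq
  · show ⁅c, x⁆ ∈ gam P 2
    rw [← commutatorElement_inv]
    exact inv_mem (Subgroup.commutator_mem_commutator hx' hcP)
  · refine Eq.trans ?_ ((TwoDegrees73.mem_stab _).1 hz ⟨⁅c, x⁆, _⟩)
    refine congrArg μ (Subtype.ext ?_)
    show ⁅c, z * x * z⁻¹⁆ = z * ⁅c, x⁆ * z⁻¹
    conv_lhs => rw [← C.conj_fixed hc hzH]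
    group

/-- The derived subgroup is that of `[P, H]`. -/
theorem commutator_eq : ⁅P, P⁆ = ⁅⁅P, H⁆, ⁅P, H⁆⁆ := by
  haveI := C.Q_normal
  refine le_antisymm ?_ (Subgroup.commutator_mono C.Q_le C.Q_le)
  refine C.le_of_le_sup (Subgroup.commutator_le_self P) fun u hu => ?_
  obtain ⟨g, hg, hg0⟩ := C.exists_notMem_K0
  obtain ⟨w, hw, rfl⟩ := C.exists_comm (C.Q_le hg) hg0 hu
  obtain ⟨q, hq, c, hc, rfl⟩ := C.exists_mul hw
  rw [show ⁅g, q * c⁆ = ⁅g, q⁆ * (q * ⁅g, c⁆ * q⁻¹) by group]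
  refine Subgroup.mul_mem_sup (Subgroup.commutator_mem_commutator hg hq) ?_
  exact (gam_normal P 2).conj_mem _
    (C.commutator_centralizer_le (Subgroup.commutator_mem_commutator hg hc)) q

theorem gam_one : gam P 1 = gam ⁅P, H⁆ 1 := C.commutator_eq

/-- `C_P(H)` moves the terms of the series of `[P, H]` two steps down. -/
theorem commutator_gam_centralizer (m : ℕ) :
    ⁅gam ⁅P, H⁆ m, P ⊓ Subgroup.centralizer (H : Set G)⁆ ≤ gam P (m + 2) := by
  induction m with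
  | zero => exact C.commutator_centralizer_le
  | succ m ih =>
    have hQ : ∀ k, gam ⁅P, H⁆ k ≤ gam P k := fun k => by
      induction k with
      | zero => exact C.Q_le
      | succ k ih => exact Subgroup.commutator_mono ih C.Q_le
    refine three_subgroups (gam ⁅P, H⁆ m) ⁅P, H⁆ _ (gam P (m + 1 + 2)) ?_ ?_
    · refine (Subgroup.commutator_mono C.commutator_centralizer_le (hQ m)).trans ?_
      exact (commutator_gam_le P 2 m).trans (gam_anti P (by omega))
    · rw [Subgroup.commutator_comm _ (gam ⁅P, H⁆ m)]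
      exact Subgroup.commutator_mono ih C.Q_le

/-- The series of `P` and `[P, H]` agree from the derived subgroup on. -/
theorem gam_eq (n : ℕ) : gam P (n + 1) = gam ⁅P, H⁆ (n + 1) := by
  haveI := C.Q_normal
  induction n with
  | zero => exact C.gam_one
  | succ n ih =>
    refine le_antisymm (C.le_of_le_sup (gam_le P _) ?_) ?_
    · show ⁅gam P (n + 1), P⁆ ≤ gam ⁅P, H⁆ (n + 2) ⊔ gam P (n + 3)
      conv_lhs => rw [Subgroup.commutator_comm]; arg 1; rw [← C.sup_eq]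
      refine commutator_sup_le _ _ _ _ ?_ ?_
      · rw [Subgroup.commutator_comm, ih]; exact le_sup_left
      · rw [Subgroup.commutator_comm, ih]
        exact (C.commutator_gam_centralizer (n + 1)).trans le_sup_right
    · exact Subgroup.commutator_mono ih.ge C.Q_le

/-- `C_P(H)` moves each term two steps down. -/
theorem commutator_layer_centralizer (m : ℕ) :
    ⁅gam P (m + 1), P ⊓ Subgroup.centralizer (H : Set G)⁆ ≤ gam P (m + 3) := by
  rw [C.gam_eq m]
  exact C.commutator_gam_centralizer (m + 1)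

/-- An element of the complement trivial on one layer fixes no nontrivial character of the next. -/
theorem dual_eq_one_of_trivial {n : ℕ} {x : G} (hxH : x ∈ H) (hx1 : x ≠ 1)
    (htriv : ∀ u ∈ gam P (n + 1), ⁅x, u⁆ ∈ gam P (n + 2)) {ν : gam P (n + 2) →* ℂˣ}
    (hν : ν ∈ Dual P (n + 2)) (hfix : x ∈ TwoDegrees73.stab (gam P (n + 2)) ν) : ν = 1 := by
  have hker : gam P (n + 2) ≤ ν.ker.map (gam P (n + 2)).subtype := by
    refine Subgroup.commutator_le.2 fun u hu m hm => ?_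
    suffices h : ν ⟨⁅u, m⁆, Subgroup.commutator_mem_commutator hu hm⟩ = 1 from
      ⟨⟨⁅u, m⁆, Subgroup.commutator_mem_commutator hu hm⟩, h, rfl⟩
    obtain ⟨q, hq, c, hc, rfl⟩ := C.exists_mul hm
    have hcP : c ∈ P := hc.1
    have hu' : ∀ y ∈ P, ⁅u, y⁆ ∈ gam P (n + 2) := fun y hy =>
      Subgroup.commutator_mem_commutator hu hy
    have hq1 : ν ⟨⁅u, q⁆, hu' q (C.Q_le hq)⟩ = 1 := by
      refine C.pair_kill hν hu' (C.notMem hxH hx1) (fun y hy hy' => hν _ ?_) (fun y hy => ?_) hq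
      · exact commutator_gam_le P (n + 1) 1 (Subgroup.commutator_mem_commutator hu hy')
      · -- `x` moves `u` into the next term, which commutes with `y` one step below
        have hyx : x * y * x⁻¹ ∈ P := hP.conj_mem y hy x
        set v := ⁅x, u⁆ with hv
        have hvm : v ∈ gam P (n + 2) := htriv u hu
        have e1 := (TwoDegrees73.mem_stab _).1 hfix ⟨⁅u, y⁆, hu' y hy⟩
        rw [← e1]
        have hvy : ⁅v, x * y * x⁻¹⁆ ∈ gam P (n + 3) := Subgroup.commutator_mem_commutator hvm hyx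
        have e3 := (TwoDegrees73.mem_stab _).1 (le_stab hν (gam_le P _ hvm)) ⟨⁅u, x * y * x⁻¹⁆, hu' _ hyx⟩
        rw [← e3]
        refine Eq.symm ?_
        calc _ = ν (⟨v * ⁅u, x * y * x⁻¹⁆ * v⁻¹, (gam_normal P (n + 2)).conj_mem _ (hu' _ hyx) v⟩ *
              ⟨⁅v, x * y * x⁻¹⁆, gam_succ_le P (n + 2) hvy⟩) := congrArg ν (Subtype.ext (by
                show x * ⁅u, y⁆ * x⁻¹ = v * ⁅u, x * y * x⁻¹⁆ * v⁻¹ * ⁅v, x * y * x⁻¹⁆
                rw [hv]; group))
          _ = _ := by rw [map_mul, hν ⟨_, gam_succ_le P (n + 2) hvy⟩ hvy, mul_one]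
    have hc1 : ⁅u, c⁆ ∈ gam P (n + 3) :=
      C.commutator_layer_centralizer n (Subgroup.commutator_mem_commutator hu hc)
    have hs := (TwoDegrees73.mem_stab _).1 (le_stab hν (C.Q_le hq)) ⟨⁅u, c⁆, hu' c hcP⟩
    rw [hν ⟨⁅u, c⁆, hu' c hcP⟩ hc1] at hs
    calc _ = ν (⟨⁅u, q⁆, hu' q (C.Q_le hq)⟩ *
          ⟨q * ⁅u, c⁆ * q⁻¹, (gam_normal P (n + 2)).conj_mem _ (hu' c hcP) q⟩) :=
          congrArg ν (Subtype.ext (by
            show ⁅u, q * c⁆ = ⁅u, q⁆ * (q * ⁅u, c⁆ * q⁻¹)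
            group))
      _ = 1 := by rw [map_mul, hq1, hs, one_mul]
  refine MonoidHom.ext fun t => ?_
  obtain ⟨s, hs, e⟩ := hker t.2
  rw [← show s = t from Subtype.ext e]
  exact hs

end Core

end CfsgLib.NoDivDegrees
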