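import Cfsg.Agent.NoDivDegrees.CoreResult
import Cfsg.Agent.Coprime.Generation

/-!
# A complement acting on the linear characters of a normal subgroup
-/

set_option autoImplicit false
set_option linter.style.haveILetI false
set_option linter.unusedSectionVars false
set_option linter.unusedVariables false

namespace CfsgLib.NoDivDegrees

open CfsgLib.Characters CfsgLib.OddOrderChar CfsgLib.CharactersDeep
open scoped ComplexConjugate commutatorElement

universe u

variable {G : Type u} [Group G] [Fintype G]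

theorem actL_actL (N : Subgroup G) [N.Normal] (x y : G) (v : N →* ℂˣ) :
    actL N x (actL N y v) = actL N (y * x) v :=
  MonoidHom.ext fun t => by
    rw [actL_apply, actL_apply, actL_apply]
    exact congrArg v (Subtype.ext (by simp [mul_assoc]))

/-- Two commuting elements of order `p` modulo the kernel: every character is a product of ones
fixed by some nontrivial combination. -/
theorem mem_of_pair (N : Subgroup G) [N.Normal] {p : ℕ} [Fact p.Prime]
    (hcop : (Nat.card N).Coprime p) (a b : G)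
    (hab : ∀ v : N →* ℂˣ, ⁅a, b⁆ ∈ TwoDegrees73.stab N v)
    (ha : ∀ v : N →* ℂˣ, a ^ p ∈ TwoDegrees73.stab N v)
    (hb : ∀ v : N →* ℂˣ, b ^ p ∈ TwoDegrees73.stab N v) (W : Subgroup (N →* ℂˣ))
    (hW : ∀ i j : ℕ, i < p → j < p → i ≠ 0 ∨ j ≠ 0 → ∀ v,
      a ^ i * b ^ j ∈ TwoDegrees73.stab N v → v ∈ W)
    (v : N →* ℂˣ) : v ∈ W := by
  haveI : NeZero p := ⟨(Fact.out : p.Prime).ne_zero⟩
  let F : Subgroup G := ⨅ v : N →* ℂˣ, TwoDegrees73.stab N v
  have hF : ∀ f, f ∈ F ↔ ∀ v : N →* ℂˣ, actL N f v = v := fun f =>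
    Subgroup.mem_iInf.trans (forall_congr' fun v => mem_stab_iff_actL)
  haveI : F.Normal := ⟨fun f hf g => (hF _).2 fun v => by
    rw [mul_assoc, ← actL_actL, ← actL_actL, (hF f).1 hf, actL_actL, mul_inv_cancel]
    exact mem_stab_iff_actL.1 (TwoDegrees73.stab N v).one_mem⟩
  set π := QuotientGroup.mk' F
  have hzero : ∀ x : G, (∀ v, x ∈ TwoDegrees73.stab N v) → π x = 1 := fun x hx =>
    (QuotientGroup.eq_one_iff x).2 (Subgroup.mem_iInf.2 hx)
  have hcomm : Commute (π a) (π b) := by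
    rw [← commutatorElement_eq_one_iff_commute, ← map_commutatorElement]
    exact hzero _ hab
  have hpow : ∀ x : G ⧸ F, x ^ p = 1 → ∀ i k : ZMod p, x ^ (i + k).val = x ^ i.val * x ^ k.val :=
    fun x hx i k => by
      rw [← pow_add, ZMod.val_add, ← pow_mod_orderOf, Nat.mod_mod_of_dvd _
        (orderOf_dvd_of_pow_eq_one hx), pow_mod_orderOf]
  have heq : ∀ (x y : G), π x = π y → ∀ v, actL N x v = actL N y v := fun x y h v => by
    have hm : x⁻¹ * y ∈ F := QuotientGroup.eq.1 h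
    conv_rhs => rw [show y = x * (x⁻¹ * y) by group, ← actL_actL, (hF _).1 hm]
  refine CfsgLib.Coprime.mem_of_fixed_mem (q := p)
    (fun u => actL N (a ^ u.1.val * b ^ u.2.val)) (fun z => ?_) (fun u w z => ?_) W
    (fun u hu z hz => ?_) v ?_
  · simp only [Prod.fst_zero, Prod.snd_zero, ZMod.val_zero, pow_zero, mul_one]
    exact mem_stab_iff_actL.1 (TwoDegrees73.stab N z).one_mem
  · rw [actL_actL]
    refine heq _ _ ?_ z
    simp only [map_mul, map_pow, Prod.fst_add, Prod.snd_add]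
    rw [hpow _ (by rw [← map_pow]; exact hzero _ ha), hpow _ (by rw [← map_pow]; exact hzero _ hb)]
    calc π a ^ w.1.val * π b ^ w.2.val * (π a ^ u.1.val * π b ^ u.2.val)
        = π a ^ w.1.val * (π b ^ w.2.val * π a ^ u.1.val) * π b ^ u.2.val := by
          simp only [mul_assoc]
      _ = π a ^ w.1.val * (π a ^ u.1.val * π b ^ w.2.val) * π b ^ u.2.val := by
          rw [((hcomm.pow_pow _ _).symm).eq]
      _ = π a ^ u.1.val * π a ^ w.1.val * (π b ^ u.2.val * π b ^ w.2.val) := by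
          rw [← pow_mul_comm (π a) w.1.val, ← pow_mul_comm (π b) w.2.val]
          simp only [mul_assoc]
  · refine hW _ _ (ZMod.val_lt _) (ZMod.val_lt _) ?_ z (mem_stab_iff_actL.2 hz)
    by_contra h
    push Not at h
    exact hu (Prod.ext ((ZMod.val_eq_zero _).1 h.1) ((ZMod.val_eq_zero _).1 h.2))
  · refine Nat.Coprime.coprime_dvd_left (orderOf_dvd_of_pow_eq_one ?_) hcop
    exact MonoidHom.ext fun t => by
      rw [MonoidHom.pow_apply, ← map_pow, pow_card_eq_one', map_one]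
      rfl

/-- With an abelian-by-hypothesis complement, a moved linear character has exactly one degree
above it. -/
theorem stab_complement (hnd : ND G) (N R : Subgroup G) [N.Normal] (hdisj : R ⊓ N = ⊥)
    (hdec : ∀ g : G, ∃ x ∈ N, ∃ r ∈ R, g = x * r) (l : N →* ℂˣ)
    (hl : TwoDegrees73.stab N l ≠ ⊤) :
    (TwoDegrees73.stab N l).index ∈ Cfsg.charDegrees G ∧
      ∀ r ∈ R ⊓ TwoDegrees73.stab N l, ∀ s ∈ R ⊓ TwoDegrees73.stab N l, r * s = s * r := by
  classical
  set T := TwoDegrees73.stab N l with hTdef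
  haveI := Fintype.ofFinite N
  haveI := Fintype.ofFinite T
  set N' := N.subgroupOf T
  haveI : N'.Normal := Subgroup.normal_subgroupOf
  haveI := Fintype.ofFinite N'
  have hNT : N ≤ T := fun x hx => by
    rw [TwoDegrees73.mem_stab]
    intro t
    rw [show (⟨x * t * x⁻¹, ‹N.Normal›.conj_mem t t.2 x⟩ : N) = ⟨x, hx⟩ * t * ⟨x, hx⟩⁻¹ from rfl,
      map_mul, map_mul, map_inv, mul_inv_cancel_comm]
  have hdecT : ∀ t : T, ∃ x : N, ∃ r : (R ⊓ T : Subgroup G), (t : G) = x * r := fun t => by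
    obtain ⟨x, hx, r, hr, e⟩ := hdec t
    have hrT : r ∈ T := by
      have h := T.mul_mem (T.inv_mem (hNT hx)) t.2
      rwa [e, inv_mul_cancel_left] at h
    exact ⟨⟨x, hx⟩, ⟨r, hr, hrT⟩, e⟩
  choose xc rc hxr using hdecT
  have huniq : ∀ (x x' : N) (r r' : (R ⊓ T : Subgroup G)),
      (x : G) * r = x' * r' → x = x' ∧ r = r' := fun x x' r r' h => by
    have h1 : (r : G) * (r' : G)⁻¹ = (x : G)⁻¹ * x' := by
      calc (r : G) * (r' : G)⁻¹ = (x : G)⁻¹ * ((x : G) * r) * (r' : G)⁻¹ := by group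
        _ = _ := by rw [h]; group
    have h2 : (r : G) * (r' : G)⁻¹ ∈ R ⊓ N :=
      ⟨R.mul_mem r.2.1 (R.inv_mem r'.2.1), h1 ▸ N.mul_mem (N.inv_mem x.2) x'.2⟩
    rw [hdisj, Subgroup.mem_bot, mul_inv_eq_one] at h2
    refine ⟨Subtype.ext ?_, Subtype.ext h2⟩
    rw [h2] at h
    exact mul_right_cancel h
  have hmul : ∀ s t : T, (xc (s * t) : G) = xc s * ((rc s : G) * xc t * (rc s : G)⁻¹) ∧
      rc (s * t) = rc s * rc t := fun s t => by
    obtain ⟨h1, h2⟩ := huniq (xc (s * t))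
      (xc s * ⟨(rc s : G) * xc t * (rc s : G)⁻¹, ‹N.Normal›.conj_mem _ (xc t).2 _⟩)
      (rc (s * t)) (rc s * rc t) (by
        rw [← hxr, Subgroup.coe_mul, Subgroup.coe_mul, Subgroup.coe_mul, hxr s, hxr t]
        group)
    exact ⟨congrArg Subtype.val h1, h2⟩
  let ρ : T →* (R ⊓ T : Subgroup G) := MonoidHom.mk' rc fun s t => (hmul s t).2
  let L : T →* ℂˣ := MonoidHom.mk' (fun t => l (xc t)) fun s t => by
    have h := (TwoDegrees73.mem_stab _).1 (rc s).2.2 (xc t)
    rw [← h, ← map_mul]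
    exact congrArg l (Subtype.ext (hmul s t).1)
  have hρ : Function.Surjective ρ := fun r => by
    refine ⟨⟨r, r.2.2⟩, ((huniq 1 (xc ⟨r, r.2.2⟩) r (rc ⟨r, r.2.2⟩) ?_).2).symm⟩
    rw [OneMemClass.coe_one, one_mul]
    exact hxr ⟨r, r.2.2⟩
  have hN' : ∀ x : N', L x = l ⟨((x : T) : G), x.2⟩ ∧ ρ x = 1 := fun x => by
    obtain ⟨h1, h2⟩ := huniq (xc (x : T)) ⟨((x : T) : G), x.2⟩ (rc (x : T)) 1 (by
      rw [OneMemClass.coe_one, mul_one]
      exact (hxr (x : T)).symm)
    exact ⟨congrArg l h1, h2⟩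
  have key : ∀ τ : (R ⊓ T : Subgroup G) → ℂ, Cfsg.IsIrrCharacter _ τ → ∀ d : ℕ, τ 1 = d →
      T.index * d ∈ Cfsg.charDegrees G := by
    intro τ hτ d hd
    haveI := Fintype.ofFinite (R ⊓ T : Subgroup G)
    have h1 : Cfsg.IsIrrCharacter T (fun t => τ (ρ t)) := isIrr_comp ρ hρ hτ
    have hψ := (ExtensionCriteria.twist (G := T) h1 (d := d) (by rw [map_one, hd]) L).1
    have hres : (fun x : N' => (L x : ℂ) * τ (ρ x)) =
        (d : ℂ) • onSubgroupOf N T (fun n => (l n : ℂ)) := funext fun x => by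
      rw [(hN' x).1, (hN' x).2, hd, Pi.smul_apply, smul_eq_mul, mul_comm]
      rfl
    have hne : Cfsg.classInner (fun x : N.subgroupOf T => (L x : ℂ) * τ (ρ x))
        (onSubgroupOf N T fun n => (l n : ℂ)) ≠ 0 := by
      rw [hres, classInner_smul_left,
        classInner_isIrr_self (isIrr_onSubgroupOf N T hNT (isIrr_linChar l)), mul_one, ← hd]
      exact irr_one_ne_zero hτ
    obtain ⟨hirr, -, -⟩ := clifford_correspondence N T (isIrr_linChar l)
      (fun g => TwoDegrees73.mem_stab_iff_conjBy N) hψ hne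
    refine DegreeGraph.mem_charDegrees hirr ?_
    rw [CfsgLib.Characters.indFun_one, Nat.cast_mul]
    simp [hd]
  haveI := Fintype.ofFinite (R ⊓ T : Subgroup G)
  have htriv := key (fun _ => 1) isIrr_one 1 (by simp)
  rw [mul_one] at htriv
  refine ⟨htriv, fun r hr s hs => ?_⟩
  have hT1 : 1 < T.index := by
    have h0 : T.index ≠ 0 := Subgroup.index_ne_zero_of_finite
    have h1 : T.index ≠ 1 := fun h => hl (Subgroup.index_eq_one.1 h)
    omega
  have h := PrimePowerDegrees.comm_of_linear (G := (R ⊓ T : Subgroup G)) (fun τ => by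
    obtain ⟨d, hd0, hd⟩ := exists_degree_pos τ.2
    have heq := hnd.eq_of_dvd htriv (key τ τ.2 d hd) hT1 (dvd_mul_right _ _)
    rw [hd, (Nat.mul_eq_left (by omega : T.index ≠ 0)).1 heq.symm, Nat.cast_one]) ⟨r, hr⟩ ⟨s, hs⟩
  exact congrArg Subtype.val h

end CfsgLib.NoDivDegrees
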