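import Cfsg.Agent.NoDivDegrees.LPart
import Cfsg.Agent.NoDivDegrees.CoreResult
import Cfsg.Agent.NoDivDegrees.Quot
import Cfsg.Agent.CharactersDeep.ExtensionCriteria

/-!
# The case of a prime dividing both `[K : K0]` and `|K'|`

The normal `p`-complement of `K` is central and meets the derived subgroup of `G` trivially.
-/

set_option autoImplicit false
set_option linter.style.haveILetI false
set_option linter.unusedSectionVars false

namespace CfsgLib.NoDivDegrees

open CfsgLib.Characters CfsgLib.OddOrderChar CfsgLib.CharactersDeep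
open scoped commutatorElement

universe u

variable {G : Type u} [Group G] [Fintype G] {K : Subgroup G} [hKn : K.Normal]

/-- A linear character of a subgroup meeting the derived subgroup trivially extends. -/
theorem exists_extend_hom (L : Subgroup G) (hL : ∀ x ∈ L, x ∈ commutator G → x = 1)
    (l : L →* ℂˣ) : ∃ m : G →* ℂˣ, ∀ x : L, m x = l x := by
  haveI : Finite (Abelianization G) := Quotient.finite _
  let f : L →* Abelianization G := Abelianization.of.comp L.subtype
  have hf : Function.Injective f := (injective_iff_map_eq_one f).2 fun x hx =>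
    Subtype.ext (hL x x.2 ((QuotientGroup.eq_one_iff (x : G)).1 hx))
  let e : L ≃* f.range := MonoidHom.ofInjective hf
  obtain ⟨m, hm⟩ := MonoidHom.domRestrict_surjective (M := ℂ) f.range (l.comp e.symm.toMonoidHom)
  refine ⟨m.comp Abelianization.of, fun x => ?_⟩
  have h := congrArg (fun q : f.range →* ℂˣ => q (e x)) hm
  simp only [MonoidHom.comp_apply, MulEquiv.coe_toMonoidHom, MulEquiv.symm_apply_apply] at h
  exact h

/-- Degrees of a group with a central subgroup meeting the derived subgroup trivially. -/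
theorem charDegrees_subset_quotient (L : Subgroup G) [hLn : L.Normal]
    (hL : ∀ x ∈ L, x ∈ commutator G → x = 1) {c : ℕ} (hc : c ∈ Cfsg.charDegrees G) :
    c ∈ Cfsg.charDegrees (G ⧸ L) := by
  classical
  haveI := Fintype.ofFinite L
  haveI := Fintype.ofFinite (G ⧸ L)
  have hcent : ∀ (g : G), ∀ x ∈ L, g * x * g⁻¹ = x := fun g x hx => by
    rw [← mul_inv_eq_one]
    refine hL _ (L.mul_mem (hLn.conj_mem x hx g) (L.inv_mem hx)) ?_
    exact Subgroup.commutator_mem_commutator (Subgroup.mem_top g) (Subgroup.mem_top x)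
  obtain ⟨χ, hχ, hχ1, -⟩ := DegreeGraph.exists_of_mem hc
  obtain ⟨θ, hθ, hne⟩ := DegreeGraph.exists_under L hχ
  have hθ1 : θ 1 = 1 := OddOrderChar.irr_degree_one_of_comm (fun a b : L => Subtype.ext (by
    show (a : G) * b = b * a
    rw [← mul_inv_eq_iff_eq_mul]
    exact hcent a b b.2)) ⟨θ, hθ⟩
  obtain ⟨l, rfl⟩ := exists_hom_of_degree_one (isCharacter_of_isIrr hθ) hθ1
  obtain ⟨e, -, hres, -⟩ := CharactersDeep.Clifford.restrict_eq_smul L hχ hθ (fun g => funext fun x => by
    rw [conjBy_apply]
    exact congrArg (fun z : L => (l z : ℂ)) (Subtype.ext (hcent g x x.2))) hne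
  obtain ⟨m, hm⟩ := exists_extend_hom L hL l
  obtain ⟨hirr, -⟩ := ExtensionCriteria.twist hχ hχ1 m⁻¹
  obtain ⟨ψ, hψ, hψe⟩ := exists_irr_quotient L hirr fun x hx => by
    have h1 := congrFun hres ⟨x, hx⟩
    have h2 := congrFun hres 1
    simp only [Pi.smul_apply, smul_eq_mul, OneMemClass.coe_one, map_one, Units.val_one,
      mul_one] at h1 h2
    simp only [map_one, Units.val_one, one_mul, h2, h1, MonoidHom.inv_apply,
      hm ⟨x, hx⟩]
    rw [mul_left_comm, Units.inv_mul, mul_one]
  refine DegreeGraph.mem_charDegrees hψ ?_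
  have := hψe 1
  rw [map_one, Units.val_one, one_mul, QuotientGroup.mk_one, hχ1] at this
  exact this.symm

/-- **The case of a prime dividing both `[K : K0]` and `|K'|`.** -/
theorem Base.case_two [Group.IsSolvable G] (B : Base K) {p : ℕ} (hp : p.Prime)
    (hpd : p ∣ (K0 K).relIndex K) (hpK : p ∣ Nat.card (⁅K, K⁆ : Subgroup G))
    (honly : ∀ q : ℕ, q.Prime → q ∣ (K0 K).relIndex K → q = p) :
    derivedSeries G 3 = ⊥ ∧
      ∃ a b, ∀ d ∈ Cfsg.charDegrees G, d = 1 ∨ d = K.index ∨ d = a ∨ d = b := by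
  classical
  haveI := Fact.mk hp
  obtain ⟨L, hLn, hLK, hLc, ⟨k, hk⟩, -⟩ := B.exists_compl hp hpd
  haveI := hLn
  haveI := Fintype.ofFinite (G ⧸ L)
  have hL0 := B.le_K0 hp honly L hLK hLc
  set π := QuotientGroup.mk' L with hπ
  have hπs : Function.Surjective π := QuotientGroup.mk'_surjective L
  obtain ⟨g₀, hg₀, -, -⟩ := B.exists_gen
  have hmov : ∃ g : G, ∃ x ∈ K, ⁅g, x⁆ ∉ ⁅K, K⁆ ⊔ L := by
    obtain ⟨x, hx, hx0⟩ := SetLike.exists_of_lt (lt_of_le_of_ne (K0_le K) B.K0_lt)
    exact ⟨g₀, x, hx, fun h => hx0 (B.mem_K0_of_comm hg₀ hx (sup_le (commutator_le_K0 K) hL0 h))⟩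
  have Bq := B.quotient L hLK hmov
  have hidx : (K.map π).index = K.index :=
    Subgroup.index_map_eq K hπs (by rwa [hπ, QuotientGroup.ker_mk'])
  have hcard : Nat.card (K.map π) = p ^ k := by
    rw [← hk, ← Subgroup.relIndex_bot_left, show (⊥ : Subgroup (G ⧸ L)) = L.map π by
      rw [eq_comm, Subgroup.map_eq_bot_iff, hπ, QuotientGroup.ker_mk'],
      Subgroup.relIndex_map_map, hπ, QuotientGroup.ker_mk', sup_idem, sup_eq_left.2 hLK]
  obtain ⟨H, hH⟩ := Subgroup.exists_right_complement'_of_coprime (N := K.map π) (by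
    rw [hcard, hidx]
    exact (B.coprime_relIndex.coprime_dvd_left hpd).pow_left k)
  have hnonab : ⁅K.map π, K.map π⁆ ≠ ⊥ := fun h => by
    rw [← Subgroup.map_commutator, Subgroup.map_eq_bot_iff, hπ, QuotientGroup.ker_mk'] at h
    exact hp.coprime_iff_not_dvd.1 hLc.symm (hpK.trans (Subgroup.card_dvd_of_le h))
  have C : Core (K.map π) H p := ⟨Bq, hp, IsPGroup.of_card hcard, hH, hnonab⟩
  have hLK' : L ⊓ ⁅K, K⁆ = ⊥ := B.inf_commutator_eq_bot hp L hLK hLc honly C
  have hW : ∀ x ∈ commutator G, ∀ hx : x ∈ K, Abelianization.of (⟨x, hx⟩ : K) ∈ (dd K g₀).range := by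
    set W := ((dd K g₀).range.comap Abelianization.of).map K.subtype
    have hTW : ⁅(⊤ : Subgroup G), K⁆ ≤ W := by
      refine Subgroup.commutator_le.2 fun g _ x hx => ?_
      refine ⟨⟨⁅g, x⁆, B.comm_mem g x⟩, B.range_dd_le (g' := g) hg₀ ⟨Abelianization.of ⟨x, hx⟩, ?_⟩, rfl⟩
      rw [dd_apply, sig_of, ← map_div]
      exact congrArg Abelianization.of (Subtype.ext (by simp [commutatorElement_def, div_eq_mul_inv]))
    set T := ⁅(⊤ : Subgroup G), K⁆ with hT
    have hTK : T ≤ K := Subgroup.commutator_le_right ⊤ K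
    haveI := B.cyc
    have hcomm := commutative_of_cyclic_center_quotient (QuotientGroup.map T K (MonoidHom.id G) hTK)
      (fun z hz => by
        induction z using QuotientGroup.induction_on with
        | _ z =>
          rw [Subgroup.mem_center_iff]
          intro y
          induction y using QuotientGroup.induction_on with
          | _ y =>
            rw [← commutatorElement_eq_one_iff_mul_comm, ← QuotientGroup.mk'_apply,
              ← QuotientGroup.mk'_apply, ← map_commutatorElement, QuotientGroup.mk'_apply,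
              QuotientGroup.eq_one_iff]
            exact Subgroup.commutator_mem_commutator (Subgroup.mem_top y)
              ((QuotientGroup.eq_one_iff (N := K) z).1 hz))
    have hGT : commutator G ≤ T := by
      rw [commutator_def, Subgroup.commutator_le]
      intro a _ b _
      rw [← QuotientGroup.eq_one_iff, ← QuotientGroup.mk'_apply, map_commutatorElement,
        commutatorElement_eq_one_iff_mul_comm]
      exact hcomm _ _
    intro x hx hxK
    obtain ⟨y, hy, e⟩ := hTW (hGT hx)
    rw [show (⟨x, hxK⟩ : K) = y from Subtype.ext e.symm]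
    exact hy
  have hLG : ∀ x ∈ L, x ∈ commutator G → x = 1 := by
    intro x hxL hx
    obtain ⟨e, he⟩ : ∃ e, (K0 K).relIndex K = p ^ e := ⟨_, Nat.eq_prime_pow_of_unique_prime_dvd
      Subgroup.index_ne_zero_of_finite fun hq hqd => honly _ hq hqd⟩
    have h1 : Abelianization.of (⟨x, hLK hxL⟩ : K) = 1 := by
      refine orderOf_eq_one_iff.1 (Nat.eq_one_of_dvd_coprimes (hLc.pow_right e) ?_ ?_)
      · refine (orderOf_map_dvd Abelianization.of (⟨x, hLK hxL⟩ : K)).trans ?_
        rw [Subgroup.orderOf_mk]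
        exact Subgroup.orderOf_dvd_natCard L hxL
      · rw [← he, B.relIndex_K0 hg₀]
        exact Subgroup.orderOf_dvd_natCard _ (hW x hx (hLK hxL))
    exact Subgroup.mem_bot.1 (hLK'.le ⟨hxL, (of_eq_one_iff K).1 h1⟩)
  constructor
  · have h1 : derivedSeries (G ⧸ L) 1 ≤ K.map π := by
      rw [← map_derivedSeries_eq hπs, derivedSeries_one, commutator_def]
      exact Subgroup.map_mono (Subgroup.commutator_le.2 fun a _ b _ => B.comm_mem a b)
    have h3 : derivedSeries (G ⧸ L) 3 = ⊥ := by
      rw [derivedSeries_succ, derivedSeries_succ, ← le_bot_iff, ← C.derived_eq_bot]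
      exact Subgroup.commutator_mono (Subgroup.commutator_mono h1 h1) (Subgroup.commutator_mono h1 h1)
    rw [← map_derivedSeries_eq hπs, Subgroup.map_eq_bot_iff, hπ, QuotientGroup.ker_mk'] at h3
    refine (Subgroup.eq_bot_iff_forall _).2 fun x hx => hLG x (h3 hx) ?_
    exact derivedSeries_one G ▸ derivedSeries_antitone G (by norm_num) hx
  · obtain ⟨a, b, hab⟩ := C.degrees
    refine ⟨a, b, fun d hd => ?_⟩
    rw [← hidx]
    exact hab d (charDegrees_subset_quotient L hLG hd)

end CfsgLib.NoDivDegrees
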