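import Cfsg.Agent.NoDivDegrees.Defs
import Cfsg.Agent.TwoComponents73.QuotientNonabelian
import Cfsg.Agent.S4456

/-!
# A nonabelian quotient of prime power order: only one nonlinear degree
-/

set_option autoImplicit false
set_option linter.style.haveILetI false
set_option linter.unusedSectionVars false

namespace CfsgLib.NoDivDegrees

open CfsgLib.Characters CfsgLib.OddOrderChar
open scoped commutatorElement

universe u

variable {G : Type u} [Group G] [Fintype G]

/-- With a nonabelian quotient of prime power order and no divisibility there is one nonlinear degree. -/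
theorem unique_of_primePow_quotient (hnd : ND G) {q : ℕ} (hq : q.Prime) (K : Subgroup G) [K.Normal]
    {n : ℕ} (hn : K.index = q ^ n) (hab : ∃ a b : G, ⁅a, b⁆ ∉ K) {c c' : ℕ}
    (hc : c ∈ Cfsg.charDegrees G) (hc' : c' ∈ Cfsg.charDegrees G) (h1 : c ≠ 1) (h1' : c' ≠ 1) :
    c = c' := by
  classical
  haveI := Fintype.ofFinite K
  obtain ⟨j, hj, hmem⟩ := DegreeGraph.exists_prime_pow_degree hq K hn hab
  have hQ := DegreeGraph.charDegrees_quotient_subset K hmem
  have hdiv : ∀ d ∈ Cfsg.charDegrees G, d ≠ 1 → q ∣ d := by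
    intro d hd hd1
    by_contra hqd
    obtain ⟨χ, hχ, hχ1, hd0⟩ := DegreeGraph.exists_of_mem hd
    have hres := DegreeGraph.restrict_irr_of_coprime K hχ hχ1
      (hn ▸ (Nat.coprime_comm.1 (hq.coprime_iff_not_dvd.2 hqd)).pow_right n)
    have hm := DegreeGraph.mul_mem_charDegrees K hχ hres hχ1 hmem
    exact hnd d hd _ hm (by omega) (lt_mul_of_one_lt_right hd0 (Nat.one_lt_pow hj.ne' hq.one_lt))
      (dvd_mul_right _ _)
  obtain ⟨M, hMn, hMcop, k, hk⟩ := Cfsg.Agent.S4456.result (G := G) q hq fun χ hχ =>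
    hdiv _ ⟨χ, rfl⟩ hχ
  haveI := hMn
  have hMq : ¬ q ∣ Nat.card M := hq.coprime_iff_not_dvd.mp hMcop.symm
  have hMK : M ≤ K := by
    intro m hm
    rw [← QuotientGroup.eq_one_iff]
    refine orderOf_eq_one_iff.mp (Nat.eq_one_of_dvd_coprimes (hMcop.pow_right n) ?_ ?_)
    · exact (orderOf_map_dvd (QuotientGroup.mk' K) m).trans (Subgroup.orderOf_dvd_natCard M hm)
    · exact hn ▸ Subgroup.index_eq_card K ▸ orderOf_dvd_natCard _
  obtain ⟨a, b, hne⟩ := hab
  exact TwoComponents73.unique_degree_of_quotient_nonabelian hq M hMq hk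
    ⟨a, b, fun h => hne (hMK h)⟩ hdiv hnd hc hc' h1 h1'

end CfsgLib.NoDivDegrees
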