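import Cfsg.Agent.NoDivDegrees.Defs
import Cfsg.Agent.DefectOne.CyclicOver
import Cfsg.Agent.TwoComponents73.Setup
import Cfsg.Agent.CharactersDeep.Clifford

/-!
# The cyclic top of a group without divisibility among its degrees, and its action on `K / K'`
-/

set_option autoImplicit false
set_option linter.style.haveILetI false
set_option linter.unusedSectionVars false

namespace CfsgLib.NoDivDegrees

open CfsgLib.Characters CfsgLib.OddOrderChar CfsgLib.CharactersDeep
open scoped commutatorElement

universe u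

variable {G : Type u} [Group G]

/-- A cyclic quotient `G / K` whose order is a degree, nontrivial on `K / K'`, and no nonabelian
quotient of prime power order. -/
structure Base (K : Subgroup G) [K.Normal] : Prop where
  nd : ND G
  noq : ∀ q : ℕ, q.Prime → ∀ M : Subgroup G, M.Normal → ∀ n, M.index = q ^ n → ∀ a b : G, ⁅a, b⁆ ∈ M
  cyc : IsCyclic (G ⧸ K)
  one_lt : 1 < K.index
  mem : K.index ∈ Cfsg.charDegrees G
  moved : ∃ g : G, ∃ k ∈ K, ⁅g, k⁆ ∉ ⁅K, K⁆

variable [Fintype G] (K : Subgroup G) [K.Normal]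

/-- The action on the abelianisation. -/
noncomputable def sig (g : G) : Abelianization K →* Abelianization K :=
  Abelianization.map (MulAut.conjNormal (H := K) g).toMonoidHom

theorem sig_of (g : G) (k : K) :
    sig K g (Abelianization.of k) = Abelianization.of (MulAut.conjNormal (H := K) g k) := rfl

theorem sig_mul (g h : G) (a : Abelianization K) : sig K (g * h) a = sig K g (sig K h a) := by
  induction a using QuotientGroup.induction_on with
  | _ k => exact congrArg Abelianization.of (Subtype.ext (by simp [mul_assoc]))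

theorem sig_self {g : G} (hg : g ∈ K) (a : Abelianization K) : sig K g a = a := by
  induction a using QuotientGroup.induction_on with
  | _ k =>
    show Abelianization.of (MulAut.conjNormal (H := K) g k) = Abelianization.of k
    rw [show MulAut.conjNormal (H := K) g k = ⟨g, hg⟩ * k * (⟨g, hg⟩ : K)⁻¹ from
      Subtype.ext (by simp), map_mul, map_mul, map_inv, mul_inv_cancel_comm]

theorem sig_one (a : Abelianization K) : sig K 1 a = a := sig_self K K.one_mem a

/-- The difference endomorphism. -/
noncomputable def dd (g : G) : Abelianization K →* Abelianization K :=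
  sig K g / MonoidHom.id _

theorem dd_apply (g : G) (a : Abelianization K) : dd K g a = sig K g a / a := rfl

theorem mem_ker_dd {g : G} {a : Abelianization K} : a ∈ (dd K g).ker ↔ sig K g a = a := by
  rw [MonoidHom.mem_ker, dd_apply, div_eq_one]

/-- The elements fixing an element of the abelianisation. -/
noncomputable def fixer (a : Abelianization K) : Subgroup G where
  carrier := {g | sig K g a = a}
  one_mem' := sig_one K a
  mul_mem' {x y} (hx : sig K x a = a) (hy : sig K y a = a) := by
    show sig K (x * y) a = a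
    rw [sig_mul, hy, hx]
  inv_mem' {x} (hx : sig K x a = a) := by
    show sig K x⁻¹ a = a
    conv_lhs => rw [← hx]
    rw [← sig_mul, inv_mul_cancel, sig_one]

theorem mem_fixer {g : G} {a : Abelianization K} : g ∈ fixer K a ↔ sig K g a = a := Iff.rfl

theorem of_eq_one_iff {k : K} : Abelianization.of k = 1 ↔ (k : G) ∈ ⁅K, K⁆ := by
  rw [← MonoidHom.mem_ker, Abelianization.ker_of, ← Subgroup.map_subtype_commutator K,
    Subgroup.mem_map]
  exact ⟨fun h => ⟨k, h, rfl⟩, fun ⟨x, hx, e⟩ => Subtype.ext e ▸ hx⟩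

theorem sig_of_eq_iff {g : G} {k : K} :
    sig K g (Abelianization.of k) = Abelianization.of k ↔ ⁅g, (k : G)⁆ ∈ ⁅K, K⁆ := by
  rw [sig_of, ← div_eq_one, ← map_div, of_eq_one_iff]
  exact Iff.of_eq (congrArg (· ∈ ⁅K, K⁆) (by simp [commutatorElement_def, div_eq_mul_inv]))

/-- The elements of `K` central modulo the derived subgroup of `K`. -/
def K0 : Subgroup G := K ⊓ (Subgroup.center (G ⧸ ⁅K, K⁆)).comap (QuotientGroup.mk' ⁅K, K⁆)

instance K0_normal : (K0 K).Normal := by unfold K0; infer_instance

theorem mem_K0 {k : G} : k ∈ K0 K ↔ k ∈ K ∧ ∀ g : G, ⁅g, k⁆ ∈ ⁅K, K⁆ := by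
  rw [K0, Subgroup.mem_inf, Subgroup.mem_comap, Subgroup.mem_center_iff]
  refine and_congr_right fun _ => ⟨fun h g => ?_, fun h x => ?_⟩
  · rw [← QuotientGroup.eq_one_iff, ← QuotientGroup.mk'_apply, map_commutatorElement,
      commutatorElement_eq_one_iff_mul_comm]
    exact h _
  · induction x using QuotientGroup.induction_on with
    | _ g =>
      have := (QuotientGroup.eq_one_iff _).2 (h g)
      rwa [← QuotientGroup.mk'_apply, map_commutatorElement,
        commutatorElement_eq_one_iff_mul_comm] at this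

theorem K0_le : K0 K ≤ K := inf_le_left

theorem commutator_le_K0 : ⁅K, K⁆ ≤ K0 K := fun x hx => by
  refine (mem_K0 K).2 ⟨Subgroup.commutator_le_self K hx, fun g => ?_⟩
  rw [commutatorElement_def]
  exact mul_mem ((inferInstance : (⁅K, K⁆).Normal).conj_mem x hx g) (inv_mem hx)

namespace Base

variable {K} (B : Base K)

include B

theorem comm_mem (a b : G) : ⁅a, b⁆ ∈ K := by
  letI := B.cyc.commGroup
  rw [← QuotientGroup.eq_one_iff, ← QuotientGroup.mk'_apply, map_commutatorElement,
    commutatorElement_eq_one_iff_mul_comm, mul_comm]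

/-- A generator modulo `K`. -/
theorem exists_gen : ∃ g₀ : G, g₀ ∉ K ∧ (orderOf (g₀ : G ⧸ K)) = K.index ∧
    ∀ g : G, ∃ i : ℤ, g * (g₀ ^ i)⁻¹ ∈ K := by
  obtain ⟨x, hx⟩ := B.cyc.exists_generator
  obtain ⟨g₀, rfl⟩ := QuotientGroup.mk_surjective x
  have ho : orderOf (g₀ : G ⧸ K) = K.index := by
    rw [orderOf_eq_card_of_forall_mem_zpowers hx, Subgroup.index_eq_card]
  refine ⟨g₀, fun h => ?_, ho, fun g => ?_⟩
  · rw [(QuotientGroup.eq_one_iff g₀).2 h, orderOf_one] at ho
    exact B.one_lt.ne ho
  · obtain ⟨i, hi⟩ := Subgroup.mem_zpowers_iff.1 (hx g)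
    refine ⟨i, (QuotientGroup.eq_one_iff _).1 ?_⟩
    rw [QuotientGroup.mk_mul, QuotientGroup.mk_inv, QuotientGroup.mk_zpow, hi, mul_inv_cancel]

/-- Degrees over an irreducible character of `K`. -/
theorem index_mul_mem {θ : K → ℂ} [Fintype K] (hθ : Cfsg.IsIrrCharacter K θ) {d : ℕ}
    (hd : θ 1 = d) : (DefectOne.inertia K θ).index * d ∈ Cfsg.charDegrees G := by
  classical
  obtain ⟨χ, hχ, hne⟩ := CharactersDeep.Clifford.exists_over K hθ
  refine DegreeGraph.mem_charDegrees hχ ?_
  haveI := B.cyc
  have h := clifford_degree K hχ hθ (DefectOne.inertia K θ) (fun g => Iff.rfl) hne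
  rw [DefectOne.multiplicity_one (QuotientGroup.mk' K) (QuotientGroup.ker_mk' K) inferInstance hθ
    hχ hne, hd, one_mul] at h
  rw [h, Nat.cast_mul]

/-- A nonlinear character of `K` is fixed by some element outside `K`. -/
theorem exists_fixing {θ : K → ℂ} [Fintype K] (hθ : Cfsg.IsIrrCharacter K θ) (h1 : θ 1 ≠ 1) :
    ∃ g, g ∉ K ∧ conjBy K θ g = θ := by
  classical
  by_contra hno
  push Not at hno
  obtain ⟨d, hd0, hd⟩ := exists_degree_pos hθ
  have hd1 : d ≠ 1 := fun e => h1 (by rw [hd, e, Nat.cast_one])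
  have h := DegreeGraph.mem_charDegrees (DegreeGraph.isIrr_indFun_of_stabilizer K hθ hno)
    (d := K.index * d) (by rw [CfsgLib.Characters.indFun_one, hd, Nat.cast_mul])
  exact B.nd _ B.mem _ h B.one_lt (lt_mul_of_one_lt_right (by have := B.one_lt; omega) (by omega))
    (dvd_mul_right _ _)

/-- A linear character of `K` fixed by an element outside `K` is invariant. -/
theorem linear_invariant (l : K →* ℂˣ) {g : G} (hg : g ∉ K)
    (hfix : g ∈ TwoDegrees73.stab K l) : TwoDegrees73.stab K l = ⊤ := by
  classical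
  haveI := Fintype.ofFinite K
  have hst : TwoDegrees73.stab K l = DefectOne.inertia K fun n => (l n : ℂ) :=
    Subgroup.ext fun x => TwoDegrees73.mem_stab_iff_conjBy K
  have hm := B.index_mul_mem (isIrr_linChar l) (d := 1) (by simp)
  rw [mul_one, ← hst] at hm
  set T := TwoDegrees73.stab K l
  have hKT : K ≤ T := hst ▸ DefectOne.le_inertia K (isClassFunction_of_isIrr (isIrr_linChar l))
  refine Subgroup.index_eq_one.1 ?_
  by_contra h1
  have hlt : 1 < T.index := by
    have : T.index ≠ 0 := Subgroup.index_ne_zero_of_finite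
    omega
  have hTK := B.nd.eq_of_dvd hm B.mem hlt (Subgroup.index_dvd_of_le hKT)
  have hrel := Subgroup.relIndex_mul_index hKT
  rw [hTK] at hrel
  have h1' : K.relIndex T = 1 :=
    Nat.eq_of_mul_eq_mul_right (by have := B.one_lt; omega) (hrel.trans (one_mul _).symm)
  exact hg (Subgroup.relIndex_eq_one.1 h1' hfix)

theorem range_dd_le {g g' : G} (hg : g ∉ K) : (dd K g').range ≤ (dd K g).range := by
  rintro _ ⟨a, rfl⟩
  by_contra hne
  haveI : Finite (Abelianization K) := Quotient.finite _
  obtain ⟨l, hl, hl1⟩ := TwoComponents73.exists_lin (dd K g).range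
    (by rw [commutator_def, Subgroup.commutator_le]
        intro x _ y _
        rw [commutatorElement_eq_one_iff_mul_comm.2 (mul_comm x y)]
        exact one_mem _) hne
  let L : K →* ℂˣ := l.comp Abelianization.of
  have hfix : ∀ h : G, h ∈ TwoDegrees73.stab K L ↔
      ∀ b, l (sig K h b) = l b := fun h => by
    rw [TwoDegrees73.mem_stab]
    constructor
    · intro H b
      induction b using QuotientGroup.induction_on with
      | _ k =>
        refine Eq.trans ?_ (H k)
        exact congrArg (fun z : K => l (Abelianization.of z)) (Subtype.ext (by simp))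
    · intro H k
      refine Eq.trans ?_ (H (Abelianization.of k))
      exact congrArg (fun z : K => l (Abelianization.of z)) (Subtype.ext (by simp))
  have hg' : g ∈ TwoDegrees73.stab K L := (hfix g).2 fun b => by
    rw [← div_eq_one, ← map_div]
    exact hl _ ⟨b, rfl⟩
  refine hl1 ?_
  rw [dd_apply, map_div, div_eq_one]
  exact (hfix g').1 (B.linear_invariant L hg hg' ▸ Subgroup.mem_top g') a

/-- An element of `K / K'` fixed by an element outside `K` is fixed by all. -/
theorem fixed_of_fixed {g : G} (hg : g ∉ K) {a : Abelianization K} (ha : sig K g a = a) (h : G) :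
    sig K h a = a := by
  haveI : Finite (Abelianization K) := Quotient.finite _
  obtain ⟨g₀, hg₀, -, hgen⟩ := B.exists_gen
  have hle : ∀ y : G, (dd K g₀).ker ≤ (dd K y).ker := fun y b hb => by
    rw [mem_ker_dd, ← mem_fixer] at hb ⊢
    obtain ⟨i, hi⟩ := hgen y
    rw [show y = y * (g₀ ^ i)⁻¹ * g₀ ^ i by group]
    exact mul_mem (sig_self K hi b) (zpow_mem hb i)
  have hcard : Nat.card (dd K g).ker = Nat.card (dd K g₀).ker := by
    have h1 := (dd K g).ker.card_mul_index
    have h2 := (dd K g₀).ker.card_mul_index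
    rw [Subgroup.index_ker] at h1 h2
    rw [le_antisymm (B.range_dd_le hg₀) (B.range_dd_le hg), ← h2] at h1
    exact Nat.eq_of_mul_eq_mul_right Nat.card_pos h1
  have heq : (dd K g₀).ker = (dd K g).ker := Subgroup.eq_of_le_of_card_ge (hle g) hcard.le
  exact (mem_ker_dd K).1 (hle h (heq ▸ (mem_ker_dd K).2 ha))

theorem mem_K0_of {g k : G} (hg : g ∉ K) (hk : k ∈ K) (h : ⁅g, k⁆ ∈ ⁅K, K⁆) : k ∈ K0 K :=
  (mem_K0 K).2 ⟨hk, fun y =>
    (sig_of_eq_iff K (k := ⟨k, hk⟩)).1 (B.fixed_of_fixed hg ((sig_of_eq_iff K).2 h) y)⟩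

/-- A moved fixed element has exponent dividing every prime divisor of `K.index`. -/
theorem pow_eq_one_of_moved_fixed {g : G} (hg : g ∉ K) {a : Abelianization K}
    (ha : a ∈ (dd K g).ker) (ha' : a ∈ (dd K g).range) {s : ℕ} (hs : s.Prime)
    (hsf : s ∣ K.index) : a ^ s = 1 := by
  obtain ⟨g₀, hg₀, ho, -⟩ := B.exists_gen
  set τ := g₀ ^ (K.index / s)
  have hpos : 0 < K.index := by have := B.one_lt; omega
  have hτ : τ ∉ K := fun h => by
    rw [← QuotientGroup.eq_one_iff, QuotientGroup.mk_pow] at h
    have h2 := orderOf_dvd_of_pow_eq_one h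
    rw [ho] at h2
    have := Nat.le_of_dvd (Nat.div_pos (Nat.le_of_dvd hpos hsf) hs.pos) h2
    have := Nat.div_lt_self hpos hs.one_lt
    omega
  have hτs : τ ^ s ∈ K := by
    rw [← QuotientGroup.eq_one_iff, ← pow_mul, Nat.div_mul_cancel hsf, QuotientGroup.mk_pow, ← ho]
    exact pow_orderOf_eq_one _
  obtain ⟨b, hb⟩ := B.range_dd_le hτ ha'
  rw [dd_apply, div_eq_iff_eq_mul] at hb
  have hfix := B.fixed_of_fixed hg ((mem_ker_dd K).1 ha) τ
  have hj : ∀ j : ℕ, sig K (τ ^ j) b = a ^ j * b := fun j => by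
    induction j with
    | zero => rw [pow_zero, pow_zero, sig_one, one_mul]
    | succ j ih => rw [pow_succ', sig_mul, ih, map_mul, map_pow, hfix, hb, pow_succ, mul_assoc]
  have h := (hj s).symm.trans (sig_self K hτs b)
  simpa using h

/-- The moved part of `K / K'` has order prime to `K.index`. -/
theorem coprime_range {g : G} (hg : g ∉ K) :
    (Nat.card (dd K g).range).Coprime K.index := by
  classical
  haveI : Finite (Abelianization K) := Quotient.finite _
  refine Nat.coprime_of_dvd fun r hr hrI hrf => ?_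
  haveI := Fact.mk hr
  by_cases hother : ∃ s, s.Prime ∧ s ∣ K.index ∧ s ≠ r
  · obtain ⟨s, hs, hsf, hsr⟩ := hother
    obtain ⟨g₀, hg₀, ho, -⟩ := B.exists_gen
    set σ := g₀ ^ (K.index / r)
    have hσ : σ ∉ K := fun h => by
      rw [← QuotientGroup.eq_one_iff, QuotientGroup.mk_pow] at h
      have h2 := orderOf_dvd_of_pow_eq_one h
      rw [ho] at h2
      have hpos : 0 < K.index := by have := B.one_lt; omega
      have := Nat.le_of_dvd (Nat.div_pos (Nat.le_of_dvd hpos hrf) hr.pos) h2
      have := Nat.div_lt_self hpos hr.one_lt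
      omega
    have hσr : σ ^ r ∈ K := by
      rw [← QuotientGroup.eq_one_iff, ← pow_mul, Nat.div_mul_cancel hrf, QuotientGroup.mk_pow, ← ho]
      exact pow_orderOf_eq_one _
    have hinv : ∀ a ∈ (dd K g).range, sig K σ a ∈ (dd K g).range := fun a ha => by
      rw [← div_mul_cancel (sig K σ a) a]
      exact mul_mem (B.range_dd_le hg ⟨a, rfl⟩) ha
    let f : Function.End (dd K g).range := fun x => ⟨sig K σ x, hinv x x.2⟩
    have hit : ∀ (j : ℕ) (x : (dd K g).range),
        ((f ^ j : Function.End _) x : Abelianization K) = sig K (σ ^ j) x := fun j => by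
      induction j with
      | zero => intro x; rw [pow_zero, pow_zero, sig_one]; rfl
      | succ j ih =>
        intro x
        rw [pow_succ', pow_succ', sig_mul, ← ih]
        rfl
    have hf : f ^ r ^ 1 = 1 := funext fun x => Subtype.ext (by
      rw [pow_one, hit, sig_self K hσr]; rfl)
    haveI := Fintype.ofFinite (dd K g).range
    have hmod := Equiv.Perm.card_fixedPoints_modEq hf
    rw [Nat.card_eq_fintype_card] at hrI
    have hdvd : r ∣ Fintype.card f.fixedPoints :=
      Nat.modEq_zero_iff_dvd.1 (hmod.symm.trans (Nat.modEq_zero_iff_dvd.2 hrI))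
    have hone : ∀ x : f.fixedPoints, (x : (dd K g).range) = 1 := by
      rintro ⟨⟨a, ha⟩, hx⟩
      have hfix : sig K σ a = a := congrArg Subtype.val hx
      have hker : a ∈ (dd K g).ker :=
        (mem_ker_dd K).2 (B.fixed_of_fixed hσ hfix g)
      refine Subtype.ext (orderOf_eq_one_iff.1 (Nat.eq_one_of_dvd_coprimes
        ((Nat.coprime_primes hs hr).2 hsr)
        (orderOf_dvd_of_pow_eq_one (B.pow_eq_one_of_moved_fixed hg hker ha hs hsf))
        (orderOf_dvd_of_pow_eq_one (B.pow_eq_one_of_moved_fixed hg hker ha hr hrf))))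
    haveI : Subsingleton f.fixedPoints :=
      ⟨fun x y => Subtype.ext ((hone x).trans (hone y).symm)⟩
    have := Fintype.card_le_one_iff_subsingleton.2 (inferInstance : Subsingleton f.fixedPoints)
    have h0 : 0 < Fintype.card f.fixedPoints :=
      Fintype.card_pos_iff.2 ⟨⟨1, Subtype.ext (map_one (sig K σ))⟩⟩
    exact absurd (Nat.le_of_dvd h0 hdvd) (by have := hr.two_le; omega)
  · push Not at hother
    obtain ⟨c, hc⟩ : ∃ c, K.index = r ^ c :=
      ⟨_, Nat.eq_prime_pow_of_unique_prime_dvd Subgroup.index_ne_zero_of_finite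
        fun hs hsd => hother _ hs hsd⟩
    obtain ⟨n, m, hrm, hnm⟩ := Nat.exists_eq_pow_mul_and_not_dvd
      (Nat.card_pos (α := Abelianization K)).ne' r hr.ne_one
    let Rm := (powMonoidHom (r ^ n) : Abelianization K →* Abelianization K).range
    let Kr : Subgroup K := Rm.comap Abelianization.of
    let M := Kr.map K.subtype
    have hMn : M.Normal := ⟨by
      rintro _ ⟨k, ⟨b, hb⟩, rfl⟩ y
      refine ⟨MulAut.conjNormal (H := K) y k, ⟨sig K y b, ?_⟩, by simp⟩
      show sig K y b ^ r ^ n = Abelianization.of _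
      rw [← map_pow, ← sig_of]
      exact congrArg _ hb⟩
    have hRidx : Rm.index ∣ r ^ n := by
      have : ∀ y : Abelianization K ⧸ Rm, y ^ r ^ n = 1 := fun y => by
        induction y using QuotientGroup.induction_on with
        | _ b => rw [← QuotientGroup.mk_pow, QuotientGroup.eq_one_iff]; exact ⟨b, rfl⟩
      obtain ⟨e, he⟩ := IsPGroup.iff_card.1 (show IsPGroup r (Abelianization K ⧸ Rm) from
        fun y => ⟨n, this y⟩)
      rw [Subgroup.index_eq_card, he]
      have : r ^ e ∣ r ^ n * m := by rw [← hnm, ← he]; exact Subgroup.card_quotient_dvd_card _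
      exact (Nat.Coprime.pow_left e ((hr.coprime_iff_not_dvd).2 hrm)).dvd_of_dvd_mul_right this
    obtain ⟨e, -, he⟩ := (Nat.dvd_prime_pow hr).1 hRidx
    have hMidx : M.index = r ^ (e + c) := by
      rw [Subgroup.index_map_subtype,
        show Kr.index = Rm.index from Subgroup.index_comap_of_surjective (f := Abelianization.of) Rm
          (QuotientGroup.mk'_surjective _), he, hc, pow_add]
    have hle : (dd K g).range ≤ Rm := by
      rintro _ ⟨a, rfl⟩
      induction a using QuotientGroup.induction_on with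
      | _ k =>
        obtain ⟨k', hk', e'⟩ := B.noq r hr M hMn _ hMidx g k
        have e2 : k' = MulAut.conjNormal (H := K) g k * k⁻¹ := Subtype.ext (by
          rw [show ((k' : K) : G) = ⁅g, (k : G)⁆ from e']; simp [commutatorElement_def])
        show Abelianization.of (MulAut.conjNormal (H := K) g k) / Abelianization.of k ∈ Rm
        rw [div_eq_mul_inv, ← map_inv, ← map_mul, ← e2]
        exact hk'
    obtain ⟨x, hx⟩ := exists_prime_orderOf_dvd_card' r hrI
    obtain ⟨b, hb⟩ := hle x.2
    have h1 : (x : Abelianization K) ^ m = 1 := by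
      rw [← hb, powMonoidHom_apply, ← pow_mul, ← hnm, pow_card_eq_one']
    rw [← Subgroup.orderOf_coe] at hx
    exact hrm (hx ▸ orderOf_dvd_of_pow_eq_one h1)

theorem relIndex_K0 {g : G} (hg : g ∉ K) :
    (K0 K).relIndex K = Nat.card (dd K g).range := by
  have e : (K0 K).subgroupOf K = (dd K g).ker.comap Abelianization.of := by
    ext k
    rw [Subgroup.mem_subgroupOf, Subgroup.mem_comap, mem_ker_dd, mem_K0]
    exact ⟨fun h => (sig_of_eq_iff K).2 (h.2 g),
      fun h => ⟨k.2, fun y => (sig_of_eq_iff K).1 (B.fixed_of_fixed hg h y)⟩⟩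
  rw [Subgroup.relIndex, e, Subgroup.index_comap_of_surjective (f := Abelianization.of) _ (QuotientGroup.mk'_surjective _),
    Subgroup.index_ker]

theorem coprime_relIndex : ((K0 K).relIndex K).Coprime K.index := by
  obtain ⟨g₀, hg₀, -, -⟩ := B.exists_gen
  rw [B.relIndex_K0 hg₀]
  exact B.coprime_range hg₀

/-- Elements outside `K` fix no nontrivial element of `K / K0`. -/
theorem mem_K0_of_comm {g k : G} (hg : g ∉ K) (hk : k ∈ K) (h : ⁅g, k⁆ ∈ K0 K) : k ∈ K0 K := by
  haveI : Finite (Abelianization K) := Quotient.finite _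
  have hrange : dd K g (Abelianization.of ⟨k, hk⟩) ∈ (dd K g).range := ⟨_, rfl⟩
  have hker : dd K g (Abelianization.of ⟨k, hk⟩) ∈ (dd K g).ker := by
    rw [mem_ker_dd]
    have e : dd K g (Abelianization.of ⟨k, hk⟩) = Abelianization.of ⟨⁅g, k⁆, B.comm_mem g k⟩ := by
      rw [dd_apply, sig_of, ← map_div]
      exact congrArg Abelianization.of (Subtype.ext (by simp [commutatorElement_def, div_eq_mul_inv]))
    rw [e, sig_of_eq_iff]
    exact ((mem_K0 K).1 h).2 g
  obtain ⟨s, hs, hsf⟩ := Nat.exists_prime_and_dvd (B.one_lt.ne' : K.index ≠ 1)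
  have h1 : dd K g (Abelianization.of ⟨k, hk⟩) = 1 := by
    refine orderOf_eq_one_iff.1 (Nat.eq_one_of_dvd_coprimes (B.coprime_range hg)
      (Subgroup.orderOf_dvd_natCard _ hrange) ?_)
    exact (orderOf_dvd_of_pow_eq_one
      (B.pow_eq_one_of_moved_fixed hg hker hrange hs hsf)).trans hsf
  exact B.mem_K0_of hg hk ((sig_of_eq_iff K).1 ((mem_ker_dd K).1 h1))

theorem K0_lt : K0 K ≠ K := fun h => by
  obtain ⟨g, k, hk, hne⟩ := B.moved
  exact hne (((mem_K0 K).1 (show k ∈ K0 K from h.symm ▸ hk)).2 g)

end Base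

end CfsgLib.NoDivDegrees
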