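import Cfsg.Agent.NoDivDegrees.Setup
import Cfsg.Agent.Solvable.FixedPointFree

/-!
# The cyclic quotient exists when there is no nonabelian quotient of prime power order
-/

set_option autoImplicit false
set_option linter.style.haveILetI false
set_option linter.unusedSectionVars false

namespace CfsgLib.NoDivDegrees

open CfsgLib.Characters CfsgLib.OddOrderChar CfsgLib.CharactersDeep
open scoped commutatorElement

universe u

variable {G : Type u} [Group G] [Fintype G]

/-- The quotient by the kernel of a Frobenius section is cyclic. -/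
theorem isCyclic_of_section {q : ℕ} {K N : Subgroup G} [K.Normal] [N.Normal]
    (h : DegreeGraph.IsFrobeniusSection q K N) : IsCyclic (G ⧸ N) := by
  classical
  let π := QuotientGroup.mk' K
  have hπ : Function.Surjective π := QuotientGroup.mk'_surjective K
  set V := N.map π with hV
  haveI : V.Normal := ‹N.Normal›.map π hπ
  have hmem : ∀ g : G, π g ∈ V ↔ g ∈ N := fun g => by
    refine ⟨fun hg => ?_, fun hg => Subgroup.mem_map_of_mem π hg⟩
    have h1 : g ∈ V.comap π := hg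
    rwa [hV, Subgroup.comap_map_eq, QuotientGroup.ker_mk', sup_eq_left.2 h.le] at h1
  have habel : ∀ v ∈ V, ∀ w ∈ V, v * w = w * v := by
    rintro _ ⟨v, hv, rfl⟩ _ ⟨w, hw, rfl⟩
    rw [← commutatorElement_eq_one_iff_mul_comm, ← map_commutatorElement, QuotientGroup.mk'_apply,
      QuotientGroup.eq_one_iff]
    exact h.comm_mem_bot v hv w hw
  have hsurj : ∀ x, x ∉ V → ∀ v ∈ V, ∃ w ∈ V, ⁅x, w⁆ = v := by
    intro x hx v hv
    obtain ⟨g, rfl⟩ := hπ x
    obtain ⟨n, hn, rfl⟩ := hv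
    obtain ⟨w, hw, hwn⟩ := h.fpf g (fun hg => hx ((hmem g).2 hg)) n hn
    refine ⟨π w, Subgroup.mem_map_of_mem π hw, ?_⟩
    rw [← map_commutatorElement, QuotientGroup.mk'_apply, QuotientGroup.mk'_apply,
      QuotientGroup.eq]
    exact hwn
  have hfix : ∀ x, x ∉ V → ∀ v ∈ V, ⁅x, v⁆ = 1 → v = 1 := by
    intro x hx v hv hc
    let f : V → V := fun w => ⟨⁅x, (w : G ⧸ K)⁆, by
      rw [commutatorElement_def]
      exact V.mul_mem (‹V.Normal›.conj_mem _ w.2 x) (V.inv_mem w.2)⟩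
    have hinj : Function.Injective f := Finite.injective_iff_surjective.2 fun y => by
      obtain ⟨w, hw, e⟩ := hsurj x hx y y.2
      exact ⟨⟨w, hw⟩, Subtype.ext e⟩
    exact congrArg Subtype.val (@hinj ⟨v, hv⟩ 1 (Subtype.ext (by simpa [f] using hc)))
  obtain ⟨g₁, hg₁⟩ : ∃ g, g ∉ N := by
    by_contra hall
    push Not at hall
    exact h.ne_top (top_unique fun g _ => hall g)
  have hx₁ : π g₁ ∉ V := fun e => hg₁ ((hmem g₁).1 e)
  set C := Subgroup.centralizer ({π g₁} : Set (G ⧸ K))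
  have hCV : ∀ c ∈ C, c ∈ V → c = 1 := fun c hc hcV => hfix _ hx₁ c hcV
    (commutatorElement_eq_one_iff_mul_comm.2 (Subgroup.mem_centralizer_singleton_iff.1 hc).symm)
  haveI : IsMulCommutative C := ⟨⟨fun a b => Subtype.ext (by
    rw [Subgroup.coe_mul, Subgroup.coe_mul, ← commutatorElement_eq_one_iff_mul_comm]
    refine hCV _ ?_ ?_
    · exact C.mul_mem (C.mul_mem (C.mul_mem a.2 b.2) (C.inv_mem a.2)) (C.inv_mem b.2)
    · obtain ⟨a', ha⟩ := hπ (a : G ⧸ K)
      obtain ⟨b', hb⟩ := hπ (b : G ⧸ K)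
      rw [← ha, ← hb, ← map_commutatorElement]
      exact (hmem _).2 (h.comm_mem a' b'))⟩⟩
  have hVne : V ≠ ⊥ := fun hb => by
    obtain ⟨m, hm, hidx⟩ := h.card_eq
    have h1 : N ≤ K := fun n hn => by
      rw [← QuotientGroup.eq_one_iff]
      exact (Subgroup.mem_bot).1 (hb ▸ Subgroup.mem_map_of_mem π hn)
    rw [Subgroup.relIndex_eq_one.2 h1] at hidx
    exact (Nat.one_lt_pow hm.ne' h.prime.one_lt).ne hidx
  have hcyc : IsCyclic C := Solvable.isCyclic_of_fpf_comm hVne (H := C) (fun c hc hc1 => by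
    rw [eq_bot_iff]
    rintro v ⟨hv, hvc⟩
    exact Subgroup.mem_bot.2 (hfix c (fun hcV => hc1 (hCV c hc hcV)) v hv
      (commutatorElement_eq_one_iff_mul_comm.2
        (Subgroup.mem_centralizer_singleton_iff.1 hvc).symm))) le_rfl
  haveI := hcyc
  have hle : K ≤ N.comap (MonoidHom.id G) := h.le
  let φ : C →* G ⧸ N := (QuotientGroup.map K N (MonoidHom.id G) hle).comp C.subtype
  refine isCyclic_of_surjective φ fun y => ?_
  induction y using QuotientGroup.induction_on with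
  | _ y =>
    obtain ⟨w, hw, hwy⟩ := hsurj _ hx₁ ⁅π g₁, π y⁆ (by
      rw [← map_commutatorElement]; exact (hmem _).2 (h.comm_mem _ _))
    have hc : w⁻¹ * π y ∈ C := by
      rw [Subgroup.mem_centralizer_singleton_iff]
      simp only [commutatorElement_def] at hwy
      have h1 : π g₁ * (w⁻¹ * π y) * (π g₁)⁻¹ = w⁻¹ * π y := by
        calc π g₁ * (w⁻¹ * π y) * (π g₁)⁻¹
            = (π g₁ * w * (π g₁)⁻¹)⁻¹ * (π g₁ * π y * (π g₁)⁻¹ * (π y)⁻¹) * π y := by group
          _ = (π g₁ * w * (π g₁)⁻¹)⁻¹ * (π g₁ * w * (π g₁)⁻¹ * w⁻¹) * π y := by rw [hwy]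
          _ = w⁻¹ * π y := by group
      conv_lhs => rw [← h1]
      group
    refine ⟨⟨_, hc⟩, ?_⟩
    obtain ⟨w', hw', rfl⟩ := hw
    show QuotientGroup.map K N (MonoidHom.id G) hle ((π w')⁻¹ * π y) = _
    rw [map_mul, map_inv, show π w' = (w' : G ⧸ K) from rfl, QuotientGroup.map_mk,
      show π y = (y : G ⧸ K) from rfl, QuotientGroup.map_mk, MonoidHom.id_apply,
      MonoidHom.id_apply, (QuotientGroup.eq_one_iff w').2 hw', inv_one, one_mul]

/-- Without nonabelian quotients of prime power order a nonabelian group has a cyclic top. -/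
theorem exists_base [Group.IsSolvable G] (hnd : ND G) (hne : ∃ a b : G, a * b ≠ b * a)
    (hnoq : ∀ q : ℕ, q.Prime → ∀ M : Subgroup G, M.Normal → ∀ n, M.index = q ^ n →
      ∀ a b : G, ⁅a, b⁆ ∈ M) :
    ∃ (K : Subgroup G) (hK : K.Normal), @Base G _ K hK := by
  classical
  obtain ⟨K₀, hK₀, h⟩ := DegreeGraph.exists_section hne
  haveI := hK₀
  rcases h with ⟨q, n, hq, hn, a, b, hab⟩ | ⟨q, N, hN, hF⟩
  · exact absurd (hnoq q hq K₀ hK₀ n hn a b) hab
  haveI := hN
  haveI := Fintype.ofFinite N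
  have hidx : 1 < N.index := by
    have h1 : N.index ≠ 1 := fun h => hF.ne_top (Subgroup.index_eq_one.1 h)
    have h0 : N.index ≠ 0 := Subgroup.index_ne_zero_of_finite
    omega
  refine ⟨N, hN, ⟨hnd, hnoq, isCyclic_of_section hF, hidx, ?_, ?_⟩⟩
  · rcases hF.index_mul_mem_or_dvd isIrr_one (d := 1) (by simp) with h | h
    · simpa using h
    · exact absurd h hF.prime.not_dvd_one
  obtain ⟨g, hg⟩ : ∃ g, g ∉ N := by
    by_contra hall
    push Not at hall
    exact hF.ne_top (top_unique fun g _ => hall g)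
  obtain ⟨v, hv, hvK⟩ : ∃ v ∈ N, v ∉ K₀ := by
    by_contra hall
    push Not at hall
    obtain ⟨m, hm, hidx'⟩ := hF.card_eq
    rw [Subgroup.relIndex_eq_one.2 hall] at hidx'
    exact (Nat.one_lt_pow hm.ne' hF.prime.one_lt).ne hidx'
  obtain ⟨w, hw, hwv⟩ := hF.fpf g hg v hv
  refine ⟨g, w, hw, fun hc => hvK ?_⟩
  have hKK : ⁅N, N⁆ ≤ K₀ := Subgroup.commutator_le.2 fun a ha b hb => hF.comm_mem_bot a ha b hb
  have h2 := K₀.mul_mem (hKK hc) hwv
  rwa [mul_inv_cancel_left] at h2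

end CfsgLib.NoDivDegrees
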