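import Cfsg.Agent.NoDivDegrees.Trick
import Cfsg.Agent.OddOrderChar.CoprimeCoset
import Cfsg.Agent.CharactersDeep.Ramification

/-!
# Tools for the layers of the `p`-group case
-/

set_option autoImplicit false
set_option linter.style.haveILetI false
set_option linter.unusedSectionVars false

namespace CfsgLib.NoDivDegrees

open CfsgLib.Characters CfsgLib.OddOrderChar CfsgLib.CharactersDeep
open scoped ComplexConjugate commutatorElement

universe u

variable {G : Type u} [Group G] [Fintype G]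

/-- An element of a coset of a coprime normalised subgroup lying in `T` has a conjugate there. -/
theorem exists_conjugate_mem (Q T : Subgroup G) [hQ : Q.Normal] {y n : G} (hn : n ∈ Q)
    (hcop : (orderOf y).Coprime (Nat.card Q)) (hT : n * y ∈ T) :
    ∃ q ∈ Q, q⁻¹ * y * q ∈ T := by
  obtain ⟨x, hx, c, hc, hcy, e⟩ := exists_conj_coset_fixed Q y
    (by rw [Subgroup.normalizer_eq_top Q]; exact Subgroup.mem_top y) hcop n hn
  obtain ⟨k, hk⟩ := exists_pow_extract hcop
  refine ⟨x, hx, ?_⟩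
  have h1 : (c * y) ^ k = y := by
    rw [hcy]
    exact hk G y c hcy.symm (pow_orderOf_eq_one y)
      (congrArg Subtype.val (pow_card_eq_one' (G := Q) (x := ⟨c, hc⟩)))
  have h2 : x⁻¹ * y * x = (n * y) ^ k := by
    have h3 : (x * (n * y) * x⁻¹) ^ k = y := by rw [e, h1]
    rw [conj_pow] at h3
    conv_lhs => rw [← h3]
    group
  rw [h2]
  exact T.pow_mem hT k

/-- An element whose centraliser has the order of the largest abelian quotient sees every
element of the derived subgroup as a commutator. -/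
theorem exists_commutator_of_card (Q : Subgroup G) (k : Q)
    (hcard : Nat.card (Subgroup.centralizer ({k} : Set Q)) = (commutator Q).index) (u : G)
    (hu : u ∈ ⁅Q, Q⁆) : ∃ w ∈ Q, ⁅(k : G), w⁆ = u := by
  set C := Subgroup.centralizer ({k} : Set Q)
  let f : Q ⧸ C → commutator Q := Quotient.lift
    (fun w => ⟨⁅k, w⁆, Subgroup.commutator_mem_commutator (Subgroup.mem_top _) (Subgroup.mem_top _)⟩)
    fun a b hab => by
      refine Subtype.ext ?_
      have h := Subgroup.mem_centralizer_singleton_iff.1 (QuotientGroup.leftRel_apply.1 hab)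
      show k * a * k⁻¹ * a⁻¹ = k * b * k⁻¹ * b⁻¹
      calc k * a * k⁻¹ * a⁻¹ = k * a * k⁻¹ * (a⁻¹ * b * k) * k⁻¹ * b⁻¹ := by group
        _ = k * a * k⁻¹ * (k * (a⁻¹ * b)) * k⁻¹ * b⁻¹ := by rw [h]
        _ = k * b * k⁻¹ * b⁻¹ := by group
  have hinj : Function.Injective f := by
    intro x y hxy
    induction x using QuotientGroup.induction_on with
    | _ a => induction y using QuotientGroup.induction_on with
      | _ b =>
        refine QuotientGroup.eq.2 (Subgroup.mem_centralizer_singleton_iff.2 ?_)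
        have h : k * a * k⁻¹ * a⁻¹ = k * b * k⁻¹ * b⁻¹ := congrArg Subtype.val hxy
        calc a⁻¹ * b * k = a⁻¹ * (k * b * k⁻¹ * b⁻¹)⁻¹ * k * b := by group
          _ = a⁻¹ * (k * a * k⁻¹ * a⁻¹)⁻¹ * k * b := by rw [h]
          _ = k * (a⁻¹ * b) := by group
  have hnc : Nat.card (Q ⧸ C) = Nat.card (commutator Q) := by
    have h1 := C.card_mul_index
    rw [← (commutator Q).card_mul_index, hcard, mul_comm, ← Subgroup.index_eq_card] at *
    exact Nat.eq_of_mul_eq_mul_right (Nat.pos_of_ne_zero Subgroup.index_ne_zero_of_finite) h1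
  obtain ⟨x, hx⟩ := (hinj.bijective_of_nat_card_le hnc.ge).2
    ⟨⟨u, Subgroup.commutator_le_self Q hu⟩, by
      have := (Subgroup.map_subtype_commutator Q).symm ▸ hu
      obtain ⟨v, hv, e⟩ := this
      exact (show v = ⟨u, Subgroup.commutator_le_self Q hu⟩ from Subtype.ext e) ▸ hv⟩
  induction x using QuotientGroup.induction_on with
  | _ w => exact ⟨w, w.2, congrArg Subtype.val (congrArg Subtype.val hx)⟩


section Cam

variable (Q : Subgroup G) [Q.Normal]

/-- If every nonlinear character of `Q` is fixed by a nontrivial element of an abelian group whose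
nontrivial elements fix no nontrivial linear character, every twist fixes it. -/
theorem absorb (H : Subgroup G) (hH : ∀ a ∈ H, ∀ b ∈ H, a * b = b * a)
    (hfix : ∀ φ : Q → ℂ, Cfsg.IsIrrCharacter Q φ → φ 1 ≠ 1 →
      ∃ h ∈ H, h ≠ 1 ∧ conjBy Q φ h = φ)
    (hfpf : ∀ h ∈ H, h ≠ 1 → ∀ l : Q →* ℂˣ, actL Q h l = l → l = 1)
    [Fintype Q] {ψ : Q → ℂ} (hψ : Cfsg.IsIrrCharacter Q ψ) (h1 : ψ 1 ≠ 1) (μ : Q →* ℂˣ) :
    tw Q μ ψ = ψ := by
  classical
  haveI : Finite (Q →* ℂˣ) := TwoComponents73.finite_hom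
  let Λ : Subgroup (Q →* ℂˣ) :=
    { carrier := {l | tw Q l ψ = ψ}
      one_mem' := tw_one Q ψ
      mul_mem' := fun {l l'} (hl : tw Q l ψ = ψ) (hl' : tw Q l' ψ = ψ) => by
        show tw Q (l * l') ψ = ψ
        rw [← tw_tw, hl', hl]
      inv_mem' := fun {l} (hl : tw Q l ψ = ψ) => tw_cancel Q (l := l) (by
        rw [tw_tw, show l * l⁻¹ = 1 from mul_inv_cancel l, tw_one, hl]) }
  have hcancel : ∀ g ∈ H, g ≠ 1 → ∀ θ : Q → ℂ, conjBy Q θ g = θ →
      (∀ l, tw Q l θ = θ ↔ tw Q l ψ = ψ) →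
      ∀ l, tw Q (actL Q g l * l⁻¹) θ = θ → tw Q l ψ = ψ := by
    intro g hgH hg θ hfix' hθ l hl'
    have hinv : ∀ u ∈ Λ, actL Q g u ∈ Λ := fun u hu => by
      refine (hθ _).1 ?_
      conv_lhs => rw [← hfix', ← conjBy_tw, (hθ u).2 hu]
      exact hfix'
    let φ : Λ → Λ := fun u => ⟨actL Q g u * (u : Q →* ℂˣ)⁻¹,
      Λ.mul_mem (hinv _ u.2) (Λ.inv_mem u.2)⟩
    have hker : ∀ a b : Q →* ℂˣ, actL Q g a * a⁻¹ = actL Q g b * b⁻¹ → a = b := fun a b hab => by
      refine div_eq_one.1 (hfpf g hgH hg _ ?_)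
      rw [map_div]
      exact DegreeGraph.div_eq_div_of_mul_inv_eq hab
    obtain ⟨u, hu⟩ := (Finite.injective_iff_surjective.1 (fun u u' huu =>
      Subtype.ext (hker _ _ (congrArg Subtype.val huu)) : Function.Injective φ))
      ⟨actL Q g l * l⁻¹, (hθ _).1 hl'⟩
    exact hker _ _ (congrArg Subtype.val hu) ▸ u.2
  obtain ⟨d, -, hd⟩ := exists_degree_pos hψ
  by_contra hne
  set θ := tw Q μ ψ with hθdef
  have hθirr : Cfsg.IsIrrCharacter Q θ := (ExtensionCriteria.twist (G := Q) hψ hd μ).1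
  obtain ⟨j, hjH, hj1, hj⟩ := hfix ψ hψ h1
  obtain ⟨z, hzH, hz1, hz⟩ := hfix θ hθirr (by simpa [θ, tw] using h1)
  set ν := actL Q j μ * μ⁻¹
  have hθl : ∀ l, tw Q l θ = θ ↔ tw Q l ψ = ψ := fun l => by
    rw [hθdef, tw_tw, show l * μ = μ * l from mul_comm l μ, ← tw_tw]
    exact ⟨fun h => tw_cancel Q h, fun h => by rw [h]⟩
  have hjθ : conjBy Q θ j = tw Q ν θ := by
    rw [hθdef, conjBy_tw, hj, tw_tw, show ν * μ = actL Q j μ from inv_mul_cancel_right _ μ]
  have hzj : conjBy Q (conjBy Q θ j) z = conjBy Q θ j := by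
    rw [conjBy_mul, hH j hjH z hzH, ← conjBy_mul, hz]
  have hνψ : tw Q ν ψ = ψ := by
    refine hcancel z hzH hz1 θ hz hθl ν ?_
    rw [hjθ, conjBy_tw, hz] at hzj
    rw [show actL Q z ν * ν⁻¹ = ν⁻¹ * actL Q z ν from mul_comm (actL Q z ν) ν⁻¹,
      ← tw_tw Q ν⁻¹ (actL Q z ν) θ, hzj, tw_tw Q ν⁻¹ ν θ,
      show ν⁻¹ * ν = 1 from inv_mul_cancel ν, tw_one]
  exact hne (hcancel j hjH hj1 ψ hj (fun l => Iff.rfl) μ hνψ)

/-- Then every element of `Q` outside its derived subgroup sees the whole derived subgroup. -/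
theorem cam_of_fixed (H : Subgroup G) (hH : ∀ a ∈ H, ∀ b ∈ H, a * b = b * a)
    (hfix : ∀ φ : Q → ℂ, Cfsg.IsIrrCharacter Q φ → φ 1 ≠ 1 →
      ∃ h ∈ H, h ≠ 1 ∧ conjBy Q φ h = φ)
    (hfpf : ∀ h ∈ H, h ≠ 1 → ∀ l : Q →* ℂˣ, actL Q h l = l → l = 1) :
    ∀ g ∈ Q, g ∉ ⁅Q, Q⁆ → ∀ u ∈ ⁅Q, Q⁆, ∃ w ∈ Q, ⁅g, w⁆ = u := by
  classical
  haveI := Fintype.ofFinite Q
  intro g hg hgQ u hu
  set k : Q := ⟨g, hg⟩
  have hk : k ∉ commutator Q := fun h => hgQ (Subgroup.map_subtype_commutator Q ▸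
    Subgroup.mem_map_of_mem _ h)
  have hvan : ∀ χ : Cfsg.IrrCharacter Q, (χ : Q → ℂ) 1 ≠ 1 → (χ : Q → ℂ) k = 0 := fun χ h1 => by
    obtain ⟨μ, -, hμk⟩ := TwoComponents73.exists_lin (commutator Q) le_rfl hk
    have h := congrFun (absorb Q H hH hfix hfpf χ.2 h1 μ) k
    by_contra h0
    exact hμk (Units.ext (mul_right_cancel₀ h0 (h.trans (one_mul _).symm)))
  have hcard : Nat.card (Subgroup.centralizer ({k} : Set Q)) = (commutator Q).index := by
    apply Nat.cast_injective (R := ℂ)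
    rw [← sum_irr_mul_conj_of_isConj (IsConj.refl k), ← card_linear_char,
      ← Finset.sum_filter_add_sum_filter_not Finset.univ
        (fun χ : Cfsg.IrrCharacter Q => (χ : Q → ℂ) 1 = 1),
      Finset.sum_eq_zero
        (s := Finset.univ.filter fun χ : Cfsg.IrrCharacter Q => ¬ (χ : Q → ℂ) 1 = 1)
        (fun χ hχ => by rw [hvan χ (Finset.mem_filter.mp hχ).2, zero_mul]),
      add_zero, Finset.sum_congr rfl (g := fun _ => (1 : ℂ)) fun χ hχ => ?_, Finset.sum_const,
      nsmul_one, Nat.card_eq_fintype_card, Fintype.card_subtype]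
    obtain ⟨l, hl⟩ := exists_hom_of_degree_one (isCharacter_of_isIrr χ.2)
      (Finset.mem_filter.mp hχ).2
    rw [hl, ← character_inv (LinearChar.isCharacter_hom l), ← Units.val_mul, ← map_mul,
      mul_inv_cancel, map_one, Units.val_one]
  exact exists_commutator_of_card Q k hcard u hu

end Cam

/-- A character over a linear character `ν` of `T`, where `R` consists of the elements whose
commutators are killed by `ν`, vanishes off `R`, is a multiple of a linear character there, and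
its squared degree is the index of `R`. -/
theorem degree_sq {E : Type u} [Group E] [Fintype E] (R T : Subgroup E) [R.Normal] [Fintype R]
    (ν : T →* ℂˣ) {ψ : E → ℂ} (hψ : Cfsg.IsIrrCharacter E ψ) {d : ℕ} (hd : ψ 1 = d)
    (hT : ∀ t : T, ψ t = (ν t : ℂ) * d)
    (hR : ∀ r ∈ R, ∀ w : E, ∃ h : ⁅r, w⁆ ∈ T, ν ⟨⁅r, w⁆, h⟩ = 1)
    (hnot : ∀ g, g ∉ R → ∃ w : E, ∃ h : ⁅g, w⁆ ∈ T, ν ⟨⁅g, w⁆, h⟩ ≠ 1) :
    d ^ 2 = R.index ∧ (∀ g, g ∉ R → ψ g = 0) ∧
      ∃ η : R →* ℂˣ, ∀ r : R, ψ r = (η r : ℂ) * d := by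
  classical
  obtain ⟨n, ρ, hρ, rfl⟩ := id hψ
  haveI := hρ
  have hn : n = d := by
    rw [Representation.char_one, Module.finrank_fin_fun] at hd
    exact_mod_cast hd
  subst hn
  have h10 : ρ.character 1 ≠ 0 := irr_one_ne_zero hψ
  have hscalT : ∀ t : T, ρ (t : E) = (ν t : ℂ) • LinearMap.id := fun t => by
    have hnorm : ‖ρ.character (t : E)‖ = (Module.finrank ℂ (Fin n → ℂ) : ℝ) := by
      rw [hT t, norm_mul, Complex.norm_natCast, Module.finrank_fin_fun,
        Complex.norm_eq_one_of_pow_eq_one (n := Nat.card T) ?_ Nat.card_pos.ne', one_mul]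
      rw [← Units.val_pow_eq_pow_val, ← map_pow, pow_card_eq_one', map_one, Units.val_one]
    obtain ⟨ω, hω, hχ⟩ := exists_scalar_of_norm_char_eq ρ _ hnorm
    rw [Module.finrank_fin_fun, hT t] at hχ
    have hn0 : (n : ℂ) ≠ 0 := by rw [← hd]; exact h10
    rw [hω, mul_right_cancel₀ hn0 hχ]
  have hker : ∀ (x w : E) (h : ⁅x, w⁆ ∈ T), ρ (x * w) = (ν ⟨⁅x, w⁆, h⟩ : ℂ) • ρ (w * x) := by
    intro x w h
    rw [show x * w = ⁅x, w⁆ * (w * x) by group, map_mul, hscalT ⟨⁅x, w⁆, h⟩]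
    rfl
  -- scalars on `R`
  have hscal : ∀ r : R, ∃ c : ℂ, ρ (r : E) = c • LinearMap.id := fun r => by
    refine schur_scalar ρ _ fun w v => ?_
    obtain ⟨h, hν⟩ := hR r r.2 w
    have e := hker r w h
    rw [hν, Units.val_one, one_smul, map_mul, map_mul] at e
    exact LinearMap.congr_fun e v
  choose c hc using hscal
  have hchar : ∀ r : R, ρ.character (r : E) = c r * (n : ℂ) := fun r => by
    rw [Representation.character, hc, map_smul,
      show (LinearMap.id : (Fin n → ℂ) →ₗ[ℂ] (Fin n → ℂ)) = 1 from rfl, LinearMap.trace_one,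
      Module.finrank_fin_fun, smul_eq_mul]
  have hn0 : (n : ℂ) ≠ 0 := by rw [← hd]; exact h10
  have hc1 : c 1 = 1 := by
    refine mul_right_cancel₀ hn0 ?_
    rw [← hchar, OneMemClass.coe_one, hd, one_mul]
  have hcm : ∀ r s : R, c (r * s) = c r * c s := fun r s => by
    refine mul_right_cancel₀ hn0 ?_
    rw [← hchar, Subgroup.coe_mul, Representation.character, map_mul, hc, hc, smul_mul_smul_comm,
      map_smul, show (LinearMap.id : (Fin n → ℂ) →ₗ[ℂ] (Fin n → ℂ)) = 1 from rfl, one_mul,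
      LinearMap.trace_one, Module.finrank_fin_fun, smul_eq_mul]
  let η : R →* ℂ := { toFun := c, map_one' := hc1, map_mul' := hcm }
  have hval : ∀ r : R, ρ.character (r : E) = ((η.toHomUnits r : ℂˣ) : ℂ) * (n : ℂ) := hchar
  have hvan : ∀ g, g ∉ R → ρ.character g = 0 := fun g hg => by
    obtain ⟨w, h, hne⟩ := hnot g hg
    by_contra h0
    refine hne (Units.ext (mul_right_cancel₀ h0 ?_))
    rw [Units.val_one, one_mul]
    have e : w * (g * w⁻¹) = ⁅g, w⁆⁻¹ * g := by group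
    have h1 : ρ.character (w * g * w⁻¹) = ρ.character g := isClassFunction_of_isIrr hψ g w
    rw [mul_assoc, e, Representation.character, map_mul, ← Subgroup.coe_inv _ ⟨⁅g, w⁆, h⟩] at h1
    rw [hscalT, map_inv, Units.val_inv_eq_inv_val] at h1
    rw [smul_mul_assoc, map_smul, show (LinearMap.id : (Fin n → ℂ) →ₗ[ℂ] (Fin n → ℂ)) = 1 from rfl,
      one_mul, smul_eq_mul] at h1
    change (_ : ℂ)⁻¹ * ρ.character g = ρ.character g at h1
    conv_lhs => rw [← h1]
    rw [mul_inv_cancel_left₀ (Units.ne_zero _)]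
  refine ⟨Nat.cast_injective (R := ℂ) ?_, hvan, η.toHomUnits, hval⟩
  have hres : (fun r : R => ρ.character r) = (n : ℂ) • fun r : R => (η.toHomUnits r : ℂ) :=
    funext fun r => by rw [hval, Pi.smul_apply, smul_eq_mul, mul_comm]
  rw [← (Ramification.vanish_iff R hψ).1 hvan, hres, classInner_smul_left, classInner_smul_right,
    classInner_isIrr_self (isIrr_linChar _), Complex.conj_natCast]
  push_cast
  ring

/-- If `d` has no generalised kernel beyond its kernel, the kernel component of an element stays in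
every invariant subgroup containing it. -/
theorem mem_of_mul_mem {V : Type*} [CommGroup V] [Finite V] (d : V →* V)
    (h2 : ∀ v, d (d v) = 1 → d v = 1) {α β : V} (hα : d α = 1) (W : Subgroup V)
    (hW : ∀ w ∈ W, d w ∈ W) (h : α * d β ∈ W) : α ∈ W := by
  let U : Subgroup V := W ⊓ d.range
  let e : U → U := fun x => ⟨d x, hW _ x.2.1, ⟨_, rfl⟩⟩
  have hinj : Function.Injective e := fun x y hxy => by
    obtain ⟨a, ha⟩ := x.2.2
    obtain ⟨b, hb⟩ := y.2.2
    have h1 : d (d a) = d (d b) := by rw [ha, hb]; exact congrArg Subtype.val hxy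
    have h3 := h2 (a / b) (by rw [map_div, map_div, h1, div_self'])
    rw [map_div, div_eq_one, ha, hb] at h3
    exact Subtype.ext h3
  have hdd : d (d β) ∈ W := by
    have := hW _ h
    rwa [map_mul, hα, one_mul] at this
  obtain ⟨⟨x, hxW, a, ha⟩, hx⟩ := (Finite.injective_iff_surjective.1 hinj) ⟨d (d β), hdd, ⟨_, rfl⟩⟩
  have h1 : d x = d (d β) := congrArg Subtype.val hx
  have h3 := h2 (a / β) (by rw [map_div, map_div, ha, h1, div_self'])
  rw [map_div, div_eq_one, ha] at h3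
  rw [h3] at hxW
  simpa using W.mul_mem h (W.inv_mem hxW)

end CfsgLib.NoDivDegrees
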