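import Cfsg.Agent.NoDivDegrees.Setup
import Cfsg.Agent.S4456

/-!
# Nonlinear characters of `K` absorb the linear characters of `K / K0`
-/

set_option autoImplicit false
set_option linter.style.haveILetI false
set_option linter.unusedSectionVars false

namespace CfsgLib.NoDivDegrees

open CfsgLib.Characters CfsgLib.OddOrderChar CfsgLib.CharactersDeep
open scoped ComplexConjugate commutatorElement

universe u

variable {G : Type u} [Group G] [Fintype G] (K : Subgroup G) [hK : K.Normal]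

/-- A linear character of `K` trivial on `K0`. -/
def IsMoved (μ : K →* ℂˣ) : Prop := ∀ k : K, (k : G) ∈ K0 K → μ k = 1

/-- Conjugation on linear characters. -/
noncomputable def actL (g : G) : (K →* ℂˣ) →* (K →* ℂˣ) where
  toFun l := l.comp (MulAut.conjNormal (H := K) g).toMonoidHom
  map_one' := rfl
  map_mul' _ _ := rfl

theorem actL_apply (g : G) (l : K →* ℂˣ) (k : K) :
    actL K g l k = l ⟨g * k * g⁻¹, hK.conj_mem k k.2 g⟩ :=
  congrArg l (Subtype.ext (MulAut.conjNormal_apply g k))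

/-- Multiplication of a function by a linear character. -/
def tw (l : K →* ℂˣ) (θ : K → ℂ) : K → ℂ := fun k => (l k : ℂ) * θ k

theorem tw_tw (l l' : K →* ℂˣ) (θ : K → ℂ) : tw K l (tw K l' θ) = tw K (l * l') θ :=
  funext fun k => by simp [tw, mul_assoc]

theorem tw_one (θ : K → ℂ) : tw K 1 θ = θ := funext fun k => by simp [tw]

theorem conjBy_tw (l : K →* ℂˣ) (θ : K → ℂ) (g : G) :
    conjBy K (tw K l θ) g = tw K (actL K g l) (conjBy K θ g) :=
  funext fun k => by rw [tw, actL_apply]; rfl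

theorem tw_cancel {l : K →* ℂˣ} {θ θ' : K → ℂ} (h : tw K l θ = tw K l θ') : θ = θ' := by
  have := congrArg (tw K l⁻¹) h
  rwa [tw_tw, tw_tw, show l⁻¹ * l = 1 from inv_mul_cancel l, tw_one, tw_one] at this

theorem isMoved_actL {μ : K →* ℂˣ} (h : IsMoved K μ) (g : G) : IsMoved K (actL K g μ) :=
  fun k hk => by
    rw [actL_apply]
    exact h _ ((K0_normal K).conj_mem _ hk g)

namespace Base

variable {K} (B : Base K)

include B

theorem eq_one_of_fixed_range {g : G} (hg : g ∉ K) {a : Abelianization K}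
    (h1 : a ∈ (dd K g).ker) (h2 : a ∈ (dd K g).range) : a = 1 := by
  haveI : Finite (Abelianization K) := Quotient.finite _
  obtain ⟨s, hs, hsf⟩ := Nat.exists_prime_and_dvd (B.one_lt.ne' : K.index ≠ 1)
  exact orderOf_eq_one_iff.1 (Nat.eq_one_of_dvd_coprimes (B.coprime_range hg)
    (Subgroup.orderOf_dvd_natCard _ h2)
    ((orderOf_dvd_of_pow_eq_one (B.pow_eq_one_of_moved_fixed hg h1 h2 hs hsf)).trans hsf))

/-- Elements outside `K` fix no nontrivial linear character of `K / K0`. -/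
theorem moved_fpf {g : G} (hg : g ∉ K) {μ : K →* ℂˣ} (hμ : IsMoved K μ)
    (hfix : actL K g μ = μ) : μ = 1 := by
  haveI : Finite (Abelianization K) := Quotient.finite _
  set I := (dd K g).range
  let e : I → I := fun a => ⟨dd K g a, ⟨_, rfl⟩⟩
  have hinj : Function.Injective e := fun a b hab => Subtype.ext (div_eq_one.1
    (B.eq_one_of_fixed_range hg (by
      rw [MonoidHom.mem_ker, map_div, div_eq_one]
      exact congrArg Subtype.val hab) (I.div_mem a.2 b.2)))
  refine MonoidHom.ext fun k => ?_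
  obtain ⟨⟨c, x, hx⟩, hc⟩ := (Finite.injective_iff_surjective.1 hinj)
    ⟨dd K g (Abelianization.of k), ⟨_, rfl⟩⟩
  induction x using QuotientGroup.induction_on with
  | _ y =>
    have hd : ∀ z : K, μ (MulAut.conjNormal (H := K) g z * z⁻¹) = 1 := fun z => by
      rw [map_mul, map_inv, mul_inv_eq_one]
      exact DFunLike.congr_fun hfix z
    have hk0 : ((k * (MulAut.conjNormal (H := K) g y * y⁻¹)⁻¹ : K) : G) ∈ K0 K := by
      refine (mem_K0 K).2 ⟨SetLike.coe_mem _, fun h => (sig_of_eq_iff K).1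
        (B.fixed_of_fixed hg ?_ h)⟩
      have e1 : Abelianization.of (k * (MulAut.conjNormal (H := K) g y * y⁻¹)⁻¹) =
          Abelianization.of k / c := by
        rw [← hx, map_mul, map_inv, map_mul, map_inv, ← div_eq_mul_inv, ← div_eq_mul_inv]
        rfl
      rw [← mem_ker_dd, MonoidHom.mem_ker, e1, map_div, div_eq_one]
      exact (congrArg Subtype.val hc).symm
    have h := hμ _ hk0
    rw [map_mul, map_inv, hd, inv_one, mul_one] at h
    exact h

/-- **The trick**: a nonlinear character absorbs every linear character of `K / K0`. -/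
theorem trick [Fintype K] {ψ : K → ℂ} (hψ : Cfsg.IsIrrCharacter K ψ) (h1 : ψ 1 ≠ 1)
    {μ : K →* ℂˣ} (hμ : IsMoved K μ) : tw K μ ψ = ψ := by
  classical
  haveI : Finite (K →* ℂˣ) := TwoComponents73.finite_hom
  let Λ : Subgroup (K →* ℂˣ) :=
    { carrier := {l | IsMoved K l ∧ tw K l ψ = ψ}
      one_mem' := ⟨fun _ _ => rfl, tw_one K ψ⟩
      mul_mem' := fun {l l'} hl hl' =>
        ⟨fun k hk => by rw [MonoidHom.mul_apply, hl.1 k hk, hl'.1 k hk, one_mul],
          by rw [← tw_tw, hl'.2, hl.2]⟩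
      inv_mem' := fun {l} hl => ⟨fun k hk => by rw [MonoidHom.inv_apply, hl.1 k hk, inv_one],
        tw_cancel K (l := l) (by rw [tw_tw, show l * l⁻¹ = 1 from mul_inv_cancel l, tw_one, hl.2])⟩ }
  -- bijectivity of `x ↦ act g x / x` on `Λ`
  have hcancel : ∀ g, g ∉ K → ∀ θ : K → ℂ, conjBy K θ g = θ →
      (∀ l, tw K l θ = θ ↔ tw K l ψ = ψ) →
      ∀ l, IsMoved K l → tw K (actL K g l * l⁻¹) θ = θ → tw K l ψ = ψ := by
    intro g hg θ hfix hθ l hl hl'
    have hinv : ∀ u ∈ Λ, actL K g u ∈ Λ := fun u hu => by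
      refine ⟨isMoved_actL K hu.1 g, (hθ _).1 ?_⟩
      conv_lhs => rw [← hfix, ← conjBy_tw, (hθ u).2 hu.2]
      exact hfix
    let φ : Λ → Λ := fun u => ⟨actL K g u * (u : K →* ℂˣ)⁻¹,
      Λ.mul_mem (hinv _ u.2) (Λ.inv_mem u.2)⟩
    have hker : ∀ a b : K →* ℂˣ, IsMoved K a → IsMoved K b →
        actL K g a * a⁻¹ = actL K g b * b⁻¹ → a = b := fun a b ha hb hab => by
      refine div_eq_one.1 (B.moved_fpf hg (fun k hk => ?_) ?_)
      · rw [MonoidHom.div_apply, ha k hk, hb k hk, div_one]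
      · rw [map_div]
        exact DegreeGraph.div_eq_div_of_mul_inv_eq hab
    obtain ⟨u, hu⟩ := (Finite.injective_iff_surjective.1 (fun u u' huu =>
      Subtype.ext (hker _ _ u.2.1 u'.2.1 (congrArg Subtype.val huu)) : Function.Injective φ))
      ⟨actL K g l * l⁻¹, fun k hk => by
        rw [MonoidHom.mul_apply, MonoidHom.inv_apply, isMoved_actL K hl g k hk, hl k hk, inv_one,
          mul_one], (hθ _).1 hl'⟩
    exact hker _ _ u.2.1 hl (congrArg Subtype.val hu) ▸ u.2.2
  obtain ⟨d, -, hd⟩ := exists_degree_pos hψ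
  by_contra hne
  set θ := tw K μ ψ with hθdef
  have hθirr : Cfsg.IsIrrCharacter K θ := (ExtensionCriteria.twist (G := K) hψ hd μ).1
  obtain ⟨j, hjK, hj⟩ := B.exists_fixing hψ h1
  obtain ⟨z, hzK, hz⟩ := B.exists_fixing hθirr (by simpa [θ, tw] using h1)
  set ν := actL K j μ * μ⁻¹
  have hν : IsMoved K ν := fun k hk => by
    rw [MonoidHom.mul_apply, MonoidHom.inv_apply, isMoved_actL K hμ j k hk, hμ k hk, inv_one,
      mul_one]
  have hθl : ∀ l, tw K l θ = θ ↔ tw K l ψ = ψ := fun l => by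
    rw [hθdef, tw_tw, show l * μ = μ * l from mul_comm l μ, ← tw_tw]
    exact ⟨fun h => tw_cancel K h, fun h => by rw [h]⟩
  have hjθ : conjBy K θ j = tw K ν θ := by
    rw [hθdef, conjBy_tw, hj, tw_tw, show ν * μ = actL K j μ from inv_mul_cancel_right _ μ]
  have hzj : conjBy K (conjBy K θ j) z = conjBy K θ j := by
    have hc : (z * j)⁻¹ * (j * z) ∈ K := by
      simpa [commutatorElement_def, mul_assoc] using B.comm_mem j⁻¹ z⁻¹
    calc conjBy K (conjBy K θ j) z = conjBy K θ (j * z) := conjBy_mul K θ j z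
      _ = conjBy K (conjBy K θ (z * j)) ((z * j)⁻¹ * (j * z)) := by
        rw [conjBy_mul, mul_inv_cancel_left]
      _ = conjBy K θ (z * j) :=
        DefectOne.le_inertia K (isClassFunction_of_isIrr (Clifford.isIrr_conjBy K hθirr _)) hc
      _ = conjBy K θ j := by rw [← conjBy_mul, hz]
  have hνψ : tw K ν ψ = ψ := by
    refine hcancel z hzK θ hz hθl ν hν ?_
    rw [hjθ, conjBy_tw, hz] at hzj
    rw [show actL K z ν * ν⁻¹ = ν⁻¹ * actL K z ν from mul_comm (actL K z ν) ν⁻¹,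
      ← tw_tw K ν⁻¹ (actL K z ν) θ, hzj, tw_tw K ν⁻¹ ν θ,
      show ν⁻¹ * ν = 1 from inv_mul_cancel ν, tw_one]
  exact hne (hcancel j hjK ψ hj (fun l => Iff.rfl) μ hμ hνψ)

/-- Nonlinear characters vanish off `K0`. -/
theorem vanish [Fintype K] {ψ : K → ℂ} (hψ : Cfsg.IsIrrCharacter K ψ) (h1 : ψ 1 ≠ 1) {k : K}
    (hk : (k : G) ∉ K0 K) : ψ k = 0 := by
  obtain ⟨μ, hμ, hμk⟩ := TwoComponents73.exists_lin ((K0 K).subgroupOf K) (fun x hx => by
    rw [Subgroup.mem_subgroupOf]
    exact commutator_le_K0 K (Subgroup.map_subtype_commutator K ▸ Subgroup.mem_map_of_mem _ hx))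
    (a := k) (fun h => hk (Subgroup.mem_subgroupOf.1 h))
  have h := congrFun (B.trick hψ h1 (μ := μ) fun x hx => hμ x (Subgroup.mem_subgroupOf.2 hx)) k
  by_contra h0
  exact hμk (Units.ext (mul_right_cancel₀ h0 (h.trans (one_mul _).symm)))

/-- The centraliser in `K` of an element outside `K0` has the order of `K / K'`. -/
theorem card_centralizer [Fintype K] {k : K} (hk : (k : G) ∉ K0 K) :
    Nat.card (Subgroup.centralizer ({k} : Set K)) = (commutator K).index := by
  classical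
  apply Nat.cast_injective (R := ℂ)
  rw [← sum_irr_mul_conj_of_isConj (IsConj.refl k), ← card_linear_char,
    ← Finset.sum_filter_add_sum_filter_not Finset.univ
      (fun χ : Cfsg.IrrCharacter K => (χ : K → ℂ) 1 = 1),
    Finset.sum_eq_zero
      (s := Finset.univ.filter fun χ : Cfsg.IrrCharacter K => ¬ (χ : K → ℂ) 1 = 1)
      (fun χ hχ => by rw [B.vanish χ.2 (Finset.mem_filter.mp hχ).2 hk, zero_mul]),
    add_zero, Finset.sum_congr rfl (g := fun _ => (1 : ℂ)) fun χ hχ => ?_, Finset.sum_const,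
    nsmul_one, Nat.card_eq_fintype_card, Fintype.card_subtype]
  obtain ⟨l, hl⟩ := exists_hom_of_degree_one (isCharacter_of_isIrr χ.2)
    (Finset.mem_filter.mp hχ).2
  rw [hl, ← character_inv (LinearChar.isCharacter_hom l), ← Units.val_mul, ← map_mul,
    mul_inv_cancel, map_one, Units.val_one]

/-- Primes in `[K : K0]` divide all nonlinear degrees of `K`. -/
theorem dvd_degree [Fintype K] {p : ℕ} (hp : p.Prime) (hpd : p ∣ (K0 K).relIndex K) {ψ : K → ℂ}
    (hψ : Cfsg.IsIrrCharacter K ψ) {d : ℕ} (hd : ψ 1 = d) (h1 : d ≠ 1) : p ∣ d := by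
  classical
  by_contra hpn
  set L := (K0 K).subgroupOf K
  haveI : L.Normal := Subgroup.normal_subgroupOf
  obtain ⟨x, hx⟩ := @exists_prime_orderOf_dvd_card' (K ⧸ L) _ _ p ⟨hp⟩
    (by rwa [← Subgroup.index_eq_card])
  have hcomm : ∀ a b : K ⧸ L, a * b = b * a := fun a b => by
    induction a using QuotientGroup.induction_on with
    | _ a => induction b using QuotientGroup.induction_on with
      | _ b =>
        rw [← commutatorElement_eq_one_iff_mul_comm, ← QuotientGroup.mk'_apply,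
          ← QuotientGroup.mk'_apply, ← map_commutatorElement, QuotientGroup.mk'_apply,
          QuotientGroup.eq_one_iff, Subgroup.mem_subgroupOf]
        exact commutator_le_K0 K (Subgroup.commutator_mem_commutator a.2 b.2)
  letI : CommGroup (K ⧸ L) := { (inferInstance : Group (K ⧸ L)) with mul_comm := hcomm }
  obtain ⟨n, m, hpm, hnm⟩ := Nat.exists_eq_pow_mul_and_not_dvd
    (Nat.card_pos (α := K ⧸ L)).ne' p hp.ne_one
  let R : Subgroup (K ⧸ L) := (powMonoidHom (p ^ n) : K ⧸ L →* K ⧸ L).range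
  let M := R.comap (QuotientGroup.mk' L)
  haveI := Fintype.ofFinite M
  have hM : ∃ e, 0 < e ∧ M.index = p ^ e := by
    have h2 : IsPGroup p ((K ⧸ L) ⧸ R) := fun y => ⟨n, by
      induction y using QuotientGroup.induction_on with
      | _ b => rw [← QuotientGroup.mk_pow, QuotientGroup.eq_one_iff]; exact ⟨b, rfl⟩⟩
    obtain ⟨e, he⟩ := (@IsPGroup.iff_card p _ _ ⟨hp⟩ _).1 h2
    refine ⟨e, Nat.pos_of_ne_zero fun e0 => hpm ?_, by
      rw [Subgroup.index_comap_of_surjective _ (QuotientGroup.mk'_surjective _),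
        Subgroup.index_eq_card, he]⟩
    rw [e0, pow_zero, ← Subgroup.index_eq_card, Subgroup.index_eq_one] at he
    obtain ⟨y, hy⟩ := (he ▸ Subgroup.mem_top x : x ∈ R)
    have hxm : x ^ m = 1 := by
      rw [← hy, powMonoidHom_apply, ← pow_mul, ← hnm, pow_card_eq_one']
    exact hx ▸ orderOf_dvd_of_pow_eq_one hxm
  obtain ⟨e, he0, he⟩ := hM
  have hvan : ∀ k, k ∉ M → ψ k = 0 := fun k hk => B.vanish hψ (by rw [hd]; exact_mod_cast h1)
    fun h0 => hk (by
      show QuotientGroup.mk' L k ∈ R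
      rw [QuotientGroup.mk'_apply, (QuotientGroup.eq_one_iff k).2 (Subgroup.mem_subgroupOf.2 h0)]
      exact one_mem _)
  have hnorm := (Ramification.vanish_iff M hψ).1 hvan
  rw [classInner_isIrr_self (DegreeGraph.restrict_irr_of_coprime M hψ hd (he ▸
    ((Nat.coprime_comm.1 (hp.coprime_iff_not_dvd.2 hpn)).pow_right e)))] at hnorm
  have h2 : (1 : ℕ) = p ^ e := by rw [← he]; exact_mod_cast hnorm
  exact (Nat.one_lt_pow he0.ne' hp.one_lt).ne h2

/-- The normal `p`-complement of `K`, for the primes in `[K : K0]`. -/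
theorem exists_compl {p : ℕ} (hp : p.Prime) (hpd : p ∣ (K0 K).relIndex K) :
    ∃ L : Subgroup G, L.Normal ∧ L ≤ K ∧ (Nat.card L).Coprime p ∧
      (∃ k, L.relIndex K = p ^ k) ∧ ∀ x ∈ K, (orderOf x).Coprime p → x ∈ L := by
  classical
  haveI := Fintype.ofFinite K
  obtain ⟨M, hMn, hMcop, k, hk⟩ := Cfsg.Agent.S4456.result (G := K) p hp fun χ hχ => by
    obtain ⟨d, -, hd⟩ := exists_degree_pos χ.2
    rw [DegreeGraph.charDegree_eq hd] at hχ ⊢
    exact B.dvd_degree hp hpd χ.2 hd hχ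
  haveI := hMn
  have hmem : ∀ x : K, (orderOf x).Coprime p → x ∈ M := fun x hx => by
    rw [← QuotientGroup.eq_one_iff]
    refine orderOf_eq_one_iff.mp (Nat.eq_one_of_dvd_coprimes (hx.pow_right k) ?_ ?_)
    · exact orderOf_map_dvd (QuotientGroup.mk' M) x
    · exact hk ▸ Subgroup.index_eq_card M ▸ orderOf_dvd_natCard _
  refine ⟨M.map K.subtype, ⟨fun x hx g => ?_⟩, Subgroup.map_subtype_le M, ?_, ⟨k, ?_⟩,
    fun x hx ho => ?_⟩
  · obtain ⟨m, hm, rfl⟩ := hx
    refine ⟨MulAut.conjNormal (H := K) g m, hmem _ ?_, MulAut.conjNormal_apply g m⟩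
    rw [MulEquiv.orderOf_eq (MulAut.conjNormal (H := K) g) m]
    exact Nat.Coprime.coprime_dvd_left (Subgroup.orderOf_dvd_natCard M hm) hMcop
  · rwa [Subgroup.card_map_of_injective K.subtype_injective]
  · rw [Subgroup.relIndex, Subgroup.subgroupOf, Subgroup.comap_map_eq_self_of_injective K.subtype_injective, hk]
  · exact ⟨⟨x, hx⟩, hmem _ (by rwa [Subgroup.orderOf_mk]), rfl⟩

/-- With two primes in `[K : K0]` neither divides `|K'|`. -/
theorem not_dvd_commutator_of_two {p q : ℕ} (hp : p.Prime) (hq : q.Prime) (hpq : p ≠ q)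
    (hpd : p ∣ (K0 K).relIndex K) (hqd : q ∣ (K0 K).relIndex K) : ¬ p ∣ Nat.card (⁅K, K⁆ : Subgroup G) := by
  classical
  haveI := Fact.mk hp
  haveI := Fact.mk hq
  haveI := Fintype.ofFinite K
  obtain ⟨Lp, hLpn, hLpK, hLpc, -, hLp⟩ := B.exists_compl hp hpd
  obtain ⟨Lq, hLqn, hLqK, hLqc, -, hLq⟩ := B.exists_compl hq hqd
  haveI := hLpn
  haveI := hLqn
  set N := Lp ⊓ Lq
  haveI : N.Normal := inferInstance
  -- a `q`-element of `K` outside `K0`
  haveI : ((K0 K).subgroupOf K).Normal := Subgroup.normal_subgroupOf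
  obtain ⟨Q⟩ : Nonempty (Sylow q K) := inferInstance
  obtain ⟨g, hgQ, hg0⟩ : ∃ g ∈ (Q : Subgroup K), (g : G) ∉ K0 K := by
    by_contra hall
    push Not at hall
    exact Q.not_dvd_index (hqd.trans
      (Subgroup.index_dvd_of_le fun g hg => Subgroup.mem_subgroupOf.2 (hall g hg)))
  have hgo : ∃ i, orderOf g = q ^ i := by
    obtain ⟨i, hi⟩ := IsPGroup.iff_orderOf.1 Q.2 ⟨g, hgQ⟩
    exact ⟨i, (Subgroup.orderOf_coe (⟨g, hgQ⟩ : (Q : Subgroup K))).trans hi⟩
  obtain ⟨i, hi⟩ := hgo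
  have hgLp : (g : G) ∈ Lp := hLp _ g.2 (by
    rw [Subgroup.orderOf_coe, hi]
    exact ((Nat.coprime_primes hq hp).2 hpq.symm).pow_left i)
  obtain ⟨P⟩ : Nonempty (Sylow p K) := inferInstance
  have hPLq : ∀ x ∈ (P : Subgroup K), (x : G) ∈ Lq := fun x hx => hLq _ x.2 (by
    obtain ⟨j, hj⟩ := IsPGroup.iff_orderOf.1 P.2 ⟨x, hx⟩
    rw [Subgroup.orderOf_coe, show orderOf x = p ^ j from
      (Subgroup.orderOf_coe (⟨x, hx⟩ : (P : Subgroup K))).trans hj]
    exact ((Nat.coprime_primes hp hq).2 hpq).pow_left j)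
  -- `P` permutes the coset `g N`
  let S := {x : G // (g : G)⁻¹ * x ∈ N}
  letI : MulAction (P : Subgroup K) S :=
    { smul := fun h x => ⟨((h : K) : G) * x.1 * ((h : K) : G)⁻¹, by
        have hn : ((h : K) : G) * ((g : G)⁻¹ * x.1) * ((h : K) : G)⁻¹ ∈ N :=
          (inferInstance : N.Normal).conj_mem _ x.2 _
        have hc : (g : G)⁻¹ * ((h : K) : G) * g * ((h : K) : G)⁻¹ ∈ N := by
          refine Subgroup.mem_inf.2 ⟨?_, Lq.mul_mem ?_ (Lq.inv_mem (hPLq _ h.2))⟩
          · rw [mul_assoc (g : G)⁻¹, mul_assoc (g : G)⁻¹]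
            exact Lp.mul_mem (Lp.inv_mem hgLp) (hLpn.conj_mem _ hgLp _)
          · simpa using hLqn.conj_mem _ (hPLq _ h.2) (g : G)⁻¹
        have hmul := N.mul_mem hc hn
        simpa [mul_assoc] using hmul⟩
      one_smul := fun x => Subtype.ext (by simp [HSMul.hSMul])
      mul_smul := fun a b x => Subtype.ext (by simp [HSMul.hSMul, mul_assoc]) }
  have hS : Nat.card S = Nat.card N :=
    Nat.card_congr ((Equiv.mulLeft (g : G)⁻¹).subtypeEquiv fun x => Iff.rfl)
  obtain ⟨⟨y, hy⟩, hfix⟩ := P.2.nonempty_fixed_point_of_prime_not_dvd_card S fun hd =>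
    (hp.coprime_iff_not_dvd.1 hLpc.symm)
      ((hS ▸ hd).trans (Subgroup.card_dvd_of_le (inf_le_left : N ≤ Lp)))
  have hyK : y ∈ K := by
    simpa using K.mul_mem g.2 (hLpK (Subgroup.mem_inf.1 hy).1)
  have hy0 : y ∉ K0 K := fun h0 => hg0 (by
    -- the image of `g` modulo `K0` is a `q`-element
    rw [← QuotientGroup.eq_one_iff] at h0 ⊢
    refine orderOf_eq_one_iff.1 (Nat.eq_one_of_dvd_coprimes (hLqc.pow_right i) ?_ ?_)
    · have : ((g : G) : G ⧸ K0 K) = (((g : G)⁻¹ * y : G) : G ⧸ K0 K)⁻¹ := by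
        rw [← QuotientGroup.mk_inv, mul_inv_rev, inv_inv, QuotientGroup.mk_mul,
          QuotientGroup.mk_inv, h0, inv_one, one_mul]
      rw [this, orderOf_inv]
      exact (orderOf_map_dvd (QuotientGroup.mk' (K0 K)) _).trans
        (Subgroup.orderOf_dvd_natCard Lq (Subgroup.mem_inf.1 hy).2)
    · rw [← hi, ← Subgroup.orderOf_coe]
      exact orderOf_map_dvd (QuotientGroup.mk' (K0 K)) _)
  have hle : (P : Subgroup K) ≤ Subgroup.centralizer ({(⟨y, hyK⟩ : K)} : Set K) := fun h hh =>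
    Subgroup.mem_centralizer_singleton_iff.2 (Subtype.ext
      (mul_inv_eq_iff_eq_mul.1 (congrArg Subtype.val (hfix ⟨h, hh⟩))))
  have hdvd := Subgroup.card_dvd_of_le hle
  rw [B.card_centralizer (k := ⟨y, hyK⟩) hy0, P.card_eq_multiplicity] at hdvd
  intro hpK
  rw [← Subgroup.map_subtype_commutator K, Subgroup.card_map_of_injective K.subtype_injective] at hpK
  have h2 : p ^ ((Nat.card K).factorization p + 1) ∣ Nat.card K := by
    have h3 := Nat.mul_dvd_mul hpK hdvd
    rwa [(commutator K).card_mul_index, ← pow_succ'] at h3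
  have := (hp.pow_dvd_iff_le_factorization Nat.card_pos.ne').1 h2
  omega

/-- **The two cases.** -/
theorem dichotomy :
    (∀ p : ℕ, p.Prime → p ∣ (K0 K).relIndex K → ¬ p ∣ Nat.card (⁅K, K⁆ : Subgroup G)) ∨
      ∃ p : ℕ, p.Prime ∧ p ∣ (K0 K).relIndex K ∧ p ∣ Nat.card (⁅K, K⁆ : Subgroup G) ∧
        ∀ q : ℕ, q.Prime → q ∣ (K0 K).relIndex K → q = p := by
  by_contra h
  push Not at h
  obtain ⟨⟨p, hp, hpd, hpK⟩, h⟩ := h
  obtain ⟨q, hq, hqd, hne⟩ := h p hp hpd hpK
  exact B.not_dvd_commutator_of_two hp hq (Ne.symm hne) hpd hqd hpK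

end Base

end CfsgLib.NoDivDegrees
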